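import Cfsg.Agent.WreathO.Defs
import Cfsg.Agent.Forms59.Binary

/-!
Transport of the standard symmetric tensor power to a given decomposition, and maximality (helper50).
-/

set_option autoImplicit false
set_option linter.unusedSectionVars false

namespace Cfsg.Agent.WreathO

open Matrix Cfsg.Agent.MaxSub Cfsg.Agent.MaxSub.Asch Cfsg.Agent.FG75.SpinTensor Cfsg.Agent.WreathMax

variable {F : Type*} [Field F] {k t : ℕ}

/-- A root element at a basis tensor lies in the commutator subgroup and outside the stabiliser. -/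
theorem exists_not_mem_wreath [Fintype F] (P : Std k F) (two : (2 : F) ≠ 0) (ht : 2 ≤ t) :
    ∃ g ∈ Om (powS P.S t), g ∉ Geo.tensorWreathStandard k t F := by
  classical
  have hk := P.hk
  let a : Fin k := ⟨2, by omega⟩
  have ha0 : a ≠ P.i0 := fun h => by simpa [a, Std.i0] using congrArg Fin.val h
  have ha1 : a ≠ P.i1 := fun h => by simpa [a, Std.i1] using congrArg Fin.val h
  set z₀ : Fin t → Fin k := fun _ => P.i0 with hz₀
  set z₂ : Fin t → Fin k := fun _ => a with hz₂
  let i₀ : Fin t := ⟨0, by omega⟩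
  let j₀ : Fin t := ⟨1, by omega⟩
  have hij : j₀ ≠ i₀ := by simp [i₀, j₀, Fin.ext_iff]
  have h20 : z₂ ≠ z₀ := fun h => ha0 (congrFun h i₀)
  have hJ0 : (powS P.S t).J z₀ = fun _ => P.i1 := funext fun i => by simp [powS_J, Std.S, hz₀]
  have hJ2 : (powS P.S t).J z₂ = z₂ := funext fun i => by rw [powS_J, Std.J_mid ha0 ha1]
  set e₀ : (Fin t → Fin k) → F := Pi.single z₀ 1 with he₀
  set e₂ : (Fin t → Fin k) → F := Pi.single z₂ 1 with he₂
  have f00 : sf (powS P.S t) e₀ e₀ = 0 := by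
    rw [he₀, sf_single, hJ0, Pi.single_eq_of_ne (fun h => P.i0_ne_i1 (congrFun h i₀).symm), mul_zero]
  have f02 : sf (powS P.S t) e₀ e₂ = 0 := by
    rw [he₀, sf_single, hJ0, he₂, Pi.single_eq_of_ne (fun h => ha1 (congrFun h i₀).symm), mul_zero]
  have f22 : sf (powS P.S t) e₂ e₂ = (powS P.S t).w z₂ := by
    rw [he₂, sf_single, hJ2, Pi.single_eq_same, mul_one]
  have hr : IsRoot (powS P.S t) e₀ e₂ := ⟨f00, f02, by rw [f22]; exact (powS P.S t).w_ne _, fun e => by simpa [he₀] using congrFun e z₀⟩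
  refine ⟨root (powS P.S t) two e₀ e₂, root_mem_Om (powS P.S t) two hr, fun hW => ?_⟩
  have hN : alt (powS P.S t) e₀ e₂ *ᵥ e₂ = (powS P.S t).w z₂ • e₀ := by
    rw [alt_mulVec, f22, sf_symm _ e₂ e₀, f02, zero_smul, sub_zero]
  have hmv : (root (powS P.S t) two e₀ e₂).val *ᵥ e₂ = e₂ + (powS P.S t).w z₂ • e₀ := by
    rw [root, expU_coe two (alt_cube _ f00 f02), add_mulVec, add_mulVec, one_mulVec, smul_mulVec,
      ← mulVec_mulVec, hN, mulVec_smul, alt_mulVec, f00, f02, zero_smul, zero_smul, sub_zero,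
      smul_zero, smul_zero, add_zero]
  obtain ⟨gs, σ, hg⟩ := exists_wreath_elem hW
  have hcol : ∀ z : Fin t → Fin k, ∏ i, (gs i : Matrix (Fin k) (Fin k) F) (z i) a =
      (if z = z₂ then 1 else 0) + if z = z₀ then (powS P.S t).w z₂ else 0 := fun z => by
    have h := wreath_apply gs σ z z₂
    rw [← hg] at h
    have h1 := congrFun hmv z
    rw [he₂, mulVec_single_one, Matrix.col_apply] at h1
    rw [h1] at h
    simpa [he₂, he₀, Pi.single_apply, hz₂] using h.symm
  have hne : ∀ z, (z = z₂ ∨ z = z₀) → ∀ i, (gs i : Matrix (Fin k) (Fin k) F) (z i) a ≠ 0 := by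
    intro z hz i
    have hp : ∏ j, (gs j : Matrix (Fin k) (Fin k) F) (z j) a ≠ 0 := ?_
    · exact Finset.prod_ne_zero_iff.mp hp i (Finset.mem_univ i)
    rw [hcol]
    rcases hz with rfl | rfl
    · simp [h20]
    · simpa [h20.symm] using (powS P.S t).w_ne z₂
  have h := hcol (Function.update z₂ i₀ P.i0)
  have h1 : Function.update z₂ i₀ P.i0 ≠ z₂ := fun e => ha0 (by
    simpa [hz₂, eq_comm] using congrFun e i₀)
  have h0 : Function.update z₂ i₀ P.i0 ≠ z₀ := fun e => ha0 (by
    simpa [hz₂, hz₀, Function.update_of_ne hij] using congrFun e j₀)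
  rw [if_neg h1, if_neg h0, add_zero, Finset.prod_eq_zero_iff] at h
  obtain ⟨i, -, hi⟩ := h
  rcases eq_or_ne i i₀ with rfl | hii
  · rw [Function.update_self] at hi
    exact hne z₀ (Or.inr rfl) _ hi
  · rw [Function.update_of_ne hii] at hi
    exact hne z₂ (Or.inl rfl) i hi

variable [Fintype F]

/-- A basis with a hyperbolic pair followed by orthogonal anisotropic vectors. -/
theorem exists_std_basis (two : (2 : F) ≠ 0) (hk : 3 ≤ k) {f₁ : (Fin k → F) → (Fin k → F) → F}
    (hf : Geo.IsSymmetricForm f₁) :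
    ∃ (P : Std k F) (col : Fin k → Fin k → F),
      ∀ a b, f₁ (col a) (col b) = if P.S.J a = b then P.w a else 0 := by
  classical
  haveI := invertibleOfNonzero two
  let B : LinearMap.BilinForm F (Fin k → F) := LinearMap.mk₂ F f₁ hf.bilinear.add_left
    (fun c x y => hf.bilinear.smul_left c x y) hf.bilinear.add_right
    fun c x y => hf.bilinear.smul_right c x y
  have hB : ∀ x y, B x y = f₁ x y := fun _ _ => rfl
  obtain ⟨o, ho0, hoo⟩ := Forms59.exists_singular (LinearMap.BilinMap.toQuadraticMap B)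
    (by rw [Module.finrank_fin_fun]; exact hk)
  have hoo' : B o o = 0 := hoo
  obtain ⟨y, hy⟩ : ∃ y, B o y ≠ 0 := by
    obtain ⟨-, ⟨y, hy⟩⟩ := hf.nondegenerate o ho0
    exact ⟨y, hy⟩
  have hsym : ∀ x y, B x y = B y x := hf.symm
  obtain ⟨y₁, hy₁⟩ : ∃ y₁, B o y₁ = 1 :=
    ⟨(B o y)⁻¹ • y, by rw [map_smul, smul_eq_mul, inv_mul_cancel₀ hy]⟩
  obtain ⟨v, hv⟩ : ∃ v, v = y₁ - (B y₁ y₁ / 2) • o := ⟨_, rfl⟩
  have hov : B o v = 1 := by simp [hv, hy₁, hoo']
  have hvo : B v o = 1 := by rw [hsym, hov]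
  have hvv : B v v = 0 := by
    simp [hv, hy₁, hoo', hsym y₁ o]
    field_simp
    ring
  let L : (Fin k → F) →ₗ[F] F × F := (B o).prod (B v)
  set C := LinearMap.ker L
  have hC : ∀ x, x ∈ C ↔ B o x = 0 ∧ B v x = 0 := fun x => by simp [C, L]
  have hdim : Module.finrank F C = k - 2 := by
    have h1 : Module.finrank F (LinearMap.range L) + Module.finrank F C = _ :=
      LinearMap.finrank_range_add_finrank_ker L
    have h2 : LinearMap.range L = ⊤ := LinearMap.range_eq_top.mpr fun p =>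
      ⟨p.1 • v + p.2 • o, by
        simp [L, hov, hvo, hoo', hvv]⟩
    rw [h2, finrank_top, Module.finrank_prod, Module.finrank_self, Module.finrank_fin_fun] at h1
    omega
  obtain ⟨b₀, hb₀⟩ := LinearMap.BilinForm.exists_orthogonal_basis (B := B.restrict C)
    ⟨fun x y => hsym _ _⟩
  let b : Module.Basis (Fin (k - 2)) F C := b₀.reindex (finCongr hdim)
  have hb : ∀ i j, i ≠ j → B (b i : Fin k → F) (b j) = 0 := fun i j h => by
    simp only [b, Module.Basis.reindex_apply]
    exact hb₀ fun e => h ((finCongr hdim).symm.injective e)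
  have hbne : ∀ i, B (b i : Fin k → F) (b i) ≠ 0 := fun i h0 => by
    have hC0 := (hC _).mp (b i).2
    have hz : ∀ x, B (b i : Fin k → F) x = 0 := fun x => by
      have hx : x - B v x • o - B o x • v ∈ C := by
        rw [hC]
        simp [hoo', hov, hvo, hvv]
      have h1 : B (b i : Fin k → F) (x - B v x • o - B o x • v) = 0 := by
        have := (b.sum_repr ⟨_, hx⟩).symm
        rw [show x - B v x • o - B o x • v = (((⟨_, hx⟩ : C) : C) : Fin k → F) from rfl, this]
        simp only [Submodule.coe_sum, Submodule.coe_smul, map_sum, map_smul]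
        refine Finset.sum_eq_zero fun j _ => ?_
        rcases eq_or_ne i j with rfl | h
        · rw [h0, smul_zero]
        · rw [hb i j h, smul_zero]
      simpa [hsym _ o, hsym _ v, hC0.1, hC0.2] using h1
    have hne : (b i : Fin k → F) ≠ 0 := fun e => b.ne_zero i (Subtype.ext e)
    obtain ⟨-, ⟨x, hx⟩⟩ := hf.nondegenerate _ hne
    exact hx (hz x)
  let w : Fin k → F := fun a => if h : 2 ≤ (a : ℕ) then
    B (b ⟨a - 2, by omega⟩ : Fin k → F) (b ⟨a - 2, by omega⟩) else 1
  let P : Std k F := ⟨hk, w, fun a => by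
      simp only [w]
      split_ifs with h
      · exact hbne _
      · exact one_ne_zero,
    fun a ha => dif_neg (by omega)⟩
  let col : Fin k → Fin k → F := fun a => if h : 2 ≤ (a : ℕ) then (b ⟨a - 2, by omega⟩ : Fin k → F)
    else if (a : ℕ) = 0 then o else v
  refine ⟨P, col, fun a c => ?_⟩
  rw [← hB]
  have h01 := P.i0_ne_i1
  have cases3 : ∀ a : Fin k, a = P.i0 ∨ a = P.i1 ∨ 2 ≤ (a : ℕ) := fun a => by
    simp only [Std.i0, Std.i1, Fin.ext_iff]; omega
  have c0 : col P.i0 = o := by simp [col, Std.i0]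
  have c1 : col P.i1 = v := by simp [col, Std.i1]
  have cm : ∀ a : Fin k, ∀ h : 2 ≤ (a : ℕ),
      col a = (b ⟨a - 2, by omega⟩ : Fin k → F) ∧ a ≠ P.i0 ∧ a ≠ P.i1 ∧ P.S.J a = a := fun a h => by
    have e0 : a ≠ P.i0 := fun e => by rw [e] at h; simp [Std.i0] at h
    have e1 : a ≠ P.i1 := fun e => by rw [e] at h; simp [Std.i1] at h
    exact ⟨dif_pos h, e0, e1, Std.J_mid e0 e1⟩
  have J0 : P.S.J P.i0 = P.i1 := Equiv.swap_apply_left _ _
  have J1 : P.S.J P.i1 = P.i0 := Equiv.swap_apply_right _ _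
  have w0 : P.w P.i0 = 1 := P.w0 _ (by simp [Std.i0])
  have w1 : P.w P.i1 = 1 := P.w0 _ (by simp [Std.i1])
  rcases cases3 a with rfl | rfl | ha
  · rcases cases3 c with rfl | rfl | hc
    · simp [c0, J0, hoo', h01.symm]
    · simp [c0, c1, J0, w0, hov]
    · obtain ⟨e, n0, n1, -⟩ := cm c hc
      simp [c0, e, J0, Ne.symm n1, ((hC _).mp (b _).2).1]
  · rcases cases3 c with rfl | rfl | hc
    · simp [c0, c1, J1, w1, hvo]
    · simp [c1, J1, hvv, h01]
    · obtain ⟨e, n0, n1, -⟩ := cm c hc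
      simp [c1, e, J1, Ne.symm n0, ((hC _).mp (b _).2).2]
  · obtain ⟨e, n0, n1, Ja⟩ := cm a ha
    rw [Ja, e]
    rcases cases3 c with rfl | rfl | hc
    · rw [c0, hsym, ((hC _).mp (b _).2).1, if_neg n0]
    · rw [c1, hsym, ((hC _).mp (b _).2).2, if_neg n1]
    · obtain ⟨e', -, -, -⟩ := cm c hc
      rw [e']
      split_ifs with hac
      · subst hac
        show _ = w a
        simp only [w, dif_pos ha]
      · exact hb _ _ fun h => hac (Fin.ext (by
          have := congrArg Fin.val h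
          simp at this
          omega))

/-- Maximality, given that every subgroup above the stabiliser contains the commutator subgroup. -/
theorem isMaximalIn_of_core {ι : Type} [Fintype ι] [DecidableEq ι] {Q : (ι → F) → F}
    (hQ : ∀ (c : F) v, Q (c • v) = c ^ 2 * Q v) (two : (2 : F) ≠ 0) (hk : 3 ≤ k) (ht : 2 ≤ t)
    (hex : ¬ (Fintype.card F = 3 ∧ k = 3)) (e : ι ≃ (Fin t → Fin k)) (P : GL ι F)
    (f₁ : (Fin k → F) → (Fin k → F) → F) (hf₁ : Geo.IsSymmetricForm f₁)
    (hminus : k = 4 → ¬ Geo.IsPlusTypeOn (fun v : Fin k → F => f₁ v v) ⊤)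
    (hT : Geo.IsTensorPowerFormStructure id (QuadraticMap.polar Q) f₁ e P)
    (hcore : ∀ P : Std k F, P.Good → ∀ H : Subgroup (GL (Fin t → Fin k) F),
      H ≤ Om (powS P.S t) → ContainsW P.S H → ¬ H ≤ Geo.tensorWreathStandard k t F →
      Om (powS P.S t) ≤ H) :
    Geo.IsMaximalIn (Geo.omegaGL Q) (Geo.tensorWreathSubgroup k t e P ⊓ Geo.omegaGL Q) := by
  classical
  obtain ⟨S₁, col, hcolf⟩ := exists_std_basis two hk hf₁
  obtain ⟨c₀, hc₀, hT⟩ := hT
  set Γ := Geo.gramMatrix f₁ with hΓdef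
  have hΓ : ∀ u v : Fin k → F, f₁ u v = u ⬝ᵥ (Γ *ᵥ v) := by
    intro u v
    let L : (Fin k → F) →ₗ[F] (Fin k → F) →ₗ[F] F := LinearMap.mk₂ F f₁ hf₁.bilinear.add_left
      (fun c x y => hf₁.bilinear.smul_left c x y) hf₁.bilinear.add_right
      fun c x y => hf₁.bilinear.smul_right c x y
    show L u v = _
    conv_lhs => rw [pi_eq_sum_univ' u, pi_eq_sum_univ' v]
    simp only [map_sum, map_smul, LinearMap.sum_apply, LinearMap.smul_apply, smul_eq_mul,
      dotProduct, Matrix.mulVec, Finset.mul_sum]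
    rw [Finset.sum_comm]
    exact Finset.sum_congr rfl fun a _ => Finset.sum_congr rfl fun b _ => by
      simp only [show ∀ x y, L x y = f₁ x y from fun _ _ => rfl, hΓdef, Geo.gramMatrix]
      ring
  set R : Matrix (Fin k) (Fin k) F := Matrix.of fun a i => col i a with hR
  set G : Matrix (Fin k) (Fin k) F :=
    Matrix.of fun a b => if S₁.S.J a = b then S₁.w a else 0 with hG
  set G' : Matrix (Fin k) (Fin k) F :=
    Matrix.of fun a b => if S₁.S.J a = b then (S₁.w a)⁻¹ else 0 with hG'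
  have hRG : Rᵀ * Γ * R = G := by
    refine Matrix.ext fun i j => ?_
    rw [hG, Matrix.of_apply, ← hcolf, hΓ, mul_assoc]
    simp only [Matrix.mul_apply, Matrix.mulVec, dotProduct, hR, Matrix.transpose_apply, Matrix.of_apply]
  have hwJ : ∀ i, S₁.w (S₁.S.J i) = S₁.w i := S₁.S.w_J
  have hG2 : G * G' = 1 := by
    refine Matrix.ext fun i j => ?_
    rw [Matrix.mul_apply, Finset.sum_eq_single (S₁.S.J i)]
    · simp [hG, hG', Matrix.one_apply, S₁.S.inv, hwJ, mul_inv_cancel₀ (S₁.w_ne i)]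
    · exact fun b _ hb => by simp [hG, Ne.symm hb]
    · simp
  have hRinv : (Γ * R * G')ᵀ * R = 1 := by
    rw [← Matrix.transpose_transpose R, ← Matrix.transpose_mul, Matrix.transpose_transpose,
      show Rᵀ * (Γ * R * G') = Rᵀ * Γ * R * G' by simp [mul_assoc], hRG, hG2, Matrix.transpose_one]
  let r : GL (Fin k) F := ⟨R, (Γ * R * G')ᵀ, mul_eq_one_comm.mp hRinv, hRinv⟩
  let T : GL (Fin t → Fin k) F := tensGL fun _ => r
  let Φ : GL (Fin t → Fin k) F ≃* GL ι F :=
    (MulAut.conj T).trans ((Geo.glReindex e.symm).trans (MulAut.conj P))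
  let L : ((Fin t → Fin k) → F) → (ι → F) := fun v =>
    (P : Matrix ι ι F) *ᵥ (((T : Matrix (Fin t → Fin k) (Fin t → Fin k) F) *ᵥ v) ∘ e)
  have hL : ∀ (Y : GL (Fin t → Fin k) F) v,
      (Φ Y : Matrix ι ι F) *ᵥ L v = L ((Y : Matrix (Fin t → Fin k) (Fin t → Fin k) F) *ᵥ v) := by
    intro Y v
    simp only [L, Φ, MulEquiv.trans_apply, MulAut.conj_apply, Units.val_mul]
    rw [Matrix.mulVec_mulVec, mul_assoc, mul_assoc, Units.inv_mul, mul_one, ← Matrix.mulVec_mulVec]
    congr 1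
    show (Matrix.reindex e.symm e.symm (T.val * Y.val * (T⁻¹ : GL (Fin t → Fin k) F).val)) *ᵥ _ = _
    rw [Matrix.reindex_apply, Matrix.submatrix_mulVec_equiv]
    simp only [Equiv.symm_symm, Function.comp_assoc, Equiv.self_comp_symm, Function.comp_id]
    rw [Matrix.mulVec_mulVec, mul_assoc _ _ T.val, Units.inv_mul, mul_one, Matrix.mulVec_mulVec]
  have hLsurj : ∀ w, ∃ v, L v = w := fun w =>
    ⟨(T⁻¹ : GL (Fin t → Fin k) F).val *ᵥ (((P⁻¹ : GL ι F).val *ᵥ w) ∘ e.symm), by
      simp only [L, Matrix.mulVec_mulVec, Units.mul_inv, Matrix.one_mulVec, Function.comp_assoc,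
        Equiv.symm_comp_self, Function.comp_id]⟩
  set g' := sf (powS S₁.S t) with hg'
  have hform : ∀ x y, QuadraticMap.polar Q (L x) (L y) = c₀ * g' x y := by
    intro x y
    simp only [L]
    rw [hT]
    congr 1
    have hsum : ∀ X Y : (Fin t → Fin k) → F,
        (∑ a, ∑ b, X a * (∏ i, Γ (a i) (b i)) * id (Y b)) =
          X ⬝ᵥ (tens (fun _ : Fin t => Γ) *ᵥ Y) := fun X Y => by
      simp [dotProduct, Matrix.mulVec, Finset.mul_sum, tens_apply, mul_assoc]
    rw [hsum, Matrix.mulVec_mulVec, ← Matrix.vecMul_transpose, ← Matrix.dotProduct_mulVec,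
      Matrix.mulVec_mulVec, ← mul_assoc]
    have hGt : T.valᵀ * tens (fun _ : Fin t => Γ) * T.val = tens fun _ : Fin t => G := by
      show (tens fun _ : Fin t => R)ᵀ * tens (fun _ => Γ) * tens (fun _ => R) = _
      rw [tens_transpose, tens_mul, tens_mul]
      congr 1
      funext _
      exact hRG
    rw [hGt, hg', sf, dotProduct_comm _ x]
    congr 1
    funext a
    simp only [Matrix.mulVec, dotProduct, tens_apply, hG, Matrix.of_apply, cv]
    rw [Finset.sum_eq_single ((powS S₁.S t).J a)]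
    · congr 1
      exact Finset.prod_congr rfl fun i _ => by rw [if_pos (powS_J S₁.S a i).symm]; rfl
    · intro b _ hb
      obtain ⟨i, hi⟩ := Function.ne_iff.mp hb
      rw [Finset.prod_eq_zero (Finset.mem_univ i)
        (if_neg fun h => hi (by rw [← h, powS_J])), zero_mul]
    · simp
  have hQL : ∀ x, 2 * Q (L x) = c₀ * g' x x := fun x => by
    rw [← hform, QuadraticMap.polar, ← two_smul F (L x), hQ]
    ring
  have hisom : ∀ Y, Φ Y ∈ Cfsg.isometryGroup F Q ↔
      Y ∈ Cfsg.isometryGroup F ⇑(qf (powS S₁.S t)) := by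
    intro Y
    constructor
    · intro h x _
      have h1 : Q ((Φ Y : Matrix ι ι F) *ᵥ L x) = Q (L x) := h (L x) (L x)
      rw [hL] at h1
      show qf (powS S₁.S t) ((Y : Matrix _ _ F) *ᵥ x) = qf (powS S₁.S t) x
      rw [qf_apply, qf_apply]
      exact mul_left_cancel₀ hc₀ (by rw [← hQL, ← hQL, h1])
    · intro h u _
      obtain ⟨x, rfl⟩ := hLsurj u
      show Q ((Φ Y : Matrix ι ι F) *ᵥ L x) = Q (L x)
      have h1 : qf (powS S₁.S t) ((Y : Matrix _ _ F) *ᵥ x) = qf (powS S₁.S t) x := h x x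
      rw [qf_apply, qf_apply] at h1
      rw [hL]
      exact mul_left_cancel₀ two (by rw [hQL, hQL, hg', h1])
  have hmapI : (Cfsg.isometryGroup F ⇑(qf (powS S₁.S t))).map Φ.toMonoidHom =
      Cfsg.isometryGroup F Q := Subgroup.ext fun g => by
    obtain ⟨Y, rfl⟩ := Φ.surjective g
    rw [hisom]
    exact Subgroup.mem_map_iff_mem Φ.injective
  have hmapO : (Om (powS S₁.S t)).map Φ.toMonoidHom = Geo.omegaGL Q := by
    simp only [Geo.omegaGL, Cfsg.Omega, Subgroup.map_subtype_commutator, Subgroup.map_commutator, hmapI]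
  have hΩ : ∀ Y, Φ Y ∈ Geo.omegaGL Q ↔ Y ∈ Om (powS S₁.S t) := fun Y => by
    rw [← hmapO]
    exact Subgroup.mem_map_iff_mem Φ.injective
  have hW : ∀ Y, Φ Y ∈ Geo.tensorWreathSubgroup k t e P ↔ Y ∈ Geo.tensorWreathStandard k t F := by
    intro Y
    have hTm : T ∈ Geo.tensorWreathStandard k t F := tensGL_mem _
    constructor
    · rintro ⟨_, ⟨w, hw, rfl⟩, h⟩
      have h' : Φ (T⁻¹ * w * T) = Φ Y := Eq.trans (by simp [Φ, mul_assoc]) h
      exact Φ.injective h' ▸ mul_mem (mul_mem (inv_mem hTm) hw) hTm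
    · exact fun h => ⟨_, ⟨T * Y * T⁻¹, mul_mem (mul_mem hTm h) (inv_mem hTm), rfl⟩, rfl⟩
  have hgood : S₁.Good := by
    refine ⟨two, fun h => hex ⟨by rw [← Nat.card_eq_fintype_card]; exact h.1, h.2⟩,
      fun h4 z hz hzz => ?_⟩
    by_contra hz0
    refine hminus h4 ?_
    have hf : ∀ x y, f₁ (R *ᵥ x) (R *ᵥ y) = sf S₁.S x y := fun x y => by
      rw [hΓ, Matrix.mulVec_mulVec, ← Matrix.vecMul_transpose, ← Matrix.dotProduct_mulVec,
        Matrix.mulVec_mulVec, ← mul_assoc, hRG, sf, dotProduct_comm _ x]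
      congr 1
      funext a
      simp only [Matrix.mulVec, dotProduct, hG, Matrix.of_apply, cv, ite_mul, zero_mul,
        Finset.sum_ite_eq, Finset.mem_univ, if_true]
      rfl
    let LR : (Fin k → F) →ₗ[F] (Fin k → F) := Matrix.mulVecLin R
    refine ⟨(Submodule.span F {S₁.eo, z}).map LR, le_top, ?_, ?_⟩
    · rintro _ ⟨x, hx, rfl⟩
      obtain ⟨p, q, rfl⟩ := Submodule.mem_span_pair.mp hx
      show f₁ (R *ᵥ _) (R *ᵥ _) = 0
      rw [hf]
      simp only [sf_add_left, sf_add_right, sf_smul_left, sf_smul_right, S₁.eo_iso, hzz, hz.eo, hz.eo']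
      ring
    · have hinjR : Function.Injective LR := mulVec_injective r
      rw [← (Submodule.equivMapOfInjective LR hinjR _).finrank_eq, finrank_top,
        Module.finrank_fin_fun]
      have hli : LinearIndependent F ![S₁.eo, z] := by
        rw [LinearIndependent.pair_iff]
        intro p q hpq
        have h0 := congrFun hpq S₁.i0
        simp [Std.eo, hz.1] at h0
        subst h0
        simpa [hz0] using hpq
      have := finrank_span_eq_card hli
      rw [show Set.range ![S₁.eo, z] = {S₁.eo, z} by simp [Set.pair_comm], Fintype.card_fin] at this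
      omega
  refine ⟨lt_of_le_of_ne inf_le_right fun hEq => ?_, fun M hle hMK => ?_⟩
  · obtain ⟨g, hg, hgW⟩ := exists_not_mem_wreath S₁ two ht
    exact hgW ((hW _).mp (hEq.ge ((hΩ _).mpr hg)).1)
  · let H := M.comap Φ.toMonoidHom
    have hH : H ≤ Om (powS S₁.S t) := fun Y hY => (hΩ Y).mp (hMK hY)
    have hHM : ContainsW S₁.S H := fun w hw hw' => hle ⟨(hW w).mpr hw, (hΩ w).mpr hw'⟩
    by_cases hHW : H ≤ Geo.tensorWreathStandard k t F
    · refine Or.inl (le_antisymm (fun g hg => ⟨?_, hMK hg⟩) hle)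
      obtain ⟨Y, rfl⟩ := Φ.surjective g
      exact (hW Y).mpr (hHW hg)
    · refine Or.inr (le_antisymm hMK fun g hg => ?_)
      obtain ⟨Y, rfl⟩ := Φ.surjective g
      exact hcore S₁ hgood H hH hHM hHW ((hΩ Y).mp hg)

end Cfsg.Agent.WreathO
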