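import Cfsg.Agent.WreathO.Center
import Cfsg.Agent.WreathMax.Average

/-!
A similitude carrying the skew maps of the slots into the span of the slots lies in the stabiliser; overgroups in
which the root elements of the slots fix only the base coset consist of such similitudes (helper24).
-/

set_option autoImplicit false
set_option linter.unusedSectionVars false

namespace Cfsg.Agent.WreathO

open Matrix Cfsg.Agent.MaxSub Cfsg.Agent.MaxSub.Asch Cfsg.Agent.FG75.SpinTensor Cfsg.Agent.WreathMax

variable {F : Type*} [Field F]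

/-- The skew maps. -/
def skewSub {ι : Type} [Fintype ι] [DecidableEq ι] (S : Sform ι F) : Submodule F (Matrix ι ι F) where
  carrier := {A | adj S A = -A}
  zero_mem' := by simp [adj_zero]
  add_mem' {A B} hA hB := by
    show adj S (A + B) = -(A + B)
    rw [adj_add, hA, hB, neg_add]
  smul_mem' c A hA := by
    show adj S (c • A) = -(c • A)
    rw [adj_smul, hA, smul_neg]

theorem mem_skewSub {ι : Type} [Fintype ι] [DecidableEq ι] {S : Sform ι F} {A : Matrix ι ι F} :
    A ∈ skewSub S ↔ adj S A = -A := Iff.rfl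

theorem bracket_skew {ι : Type} [Fintype ι] [DecidableEq ι] {S : Sform ι F} {A B : Matrix ι ι F}
    (hA : adj S A = -A) (hB : adj S B = -B) : adj S (A * B - B * A) = -(A * B - B * A) := by
  rw [adj_sub, adj_mul, adj_mul, hA, hB, neg_mul_neg, neg_mul_neg, neg_sub]

theorem adj_sum {ι κ : Type} [Fintype ι] [DecidableEq ι] (S : Sform ι F) (s : Finset κ) (X : κ → Matrix ι ι F) :
    adj S (∑ j ∈ s, X j) = ∑ j ∈ s, adj S (X j) := by
  classical
  induction s using Finset.induction with
  | empty => simp [adj_zero]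
  | insert a s ha ih => rw [Finset.sum_insert ha, Finset.sum_insert ha, adj_add, ih]

variable {k t : ℕ}

theorem trace_rk (S : Sform (Fin k) F) (x y : Fin k → F) : (rk S x y).trace = sf S x y := by
  rw [rk, trace_vecMulVec, dotProduct_comm]; rfl

theorem tens_update_smul (l : Fin t) (c : F) (A : Fin t → Matrix (Fin k) (Fin k) F) (B : Matrix (Fin k) (Fin k) F) :
    tens (Function.update A l (c • B)) = c • tens (Function.update A l B) := by
  have h := slot_mul_tens l (c • 1) (Function.update A l B)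
  rw [slot_smul_one, Matrix.smul_mul, one_mul, Function.update_idem, Function.update_self,
    Matrix.smul_mul, one_mul] at h
  exact h.symm

theorem conjHom_slotU_tens (l : Fin t) (g : GL (Fin k) F) (A : Fin t → Matrix (Fin k) (Fin k) F) :
    conjHom (slotU l g) (tens A) = tens (Function.update A l (g.val * A l * (g⁻¹).val)) := by
  rw [show slotU l g = tensGL (Function.update (1 : Fin t → GL (Fin k) F) l g) * factorPerm 1 by
    rw [factorPerm_one, mul_one]; rfl, conjHom_wreath_tens]
  congr 1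
  funext j
  rcases eq_or_ne j l with rfl | hj
  · simp [show ∀ x, (Equiv.symm (1 : Equiv.Perm (Fin t))) x = x from fun _ => rfl]
  · simp [Function.update_of_ne hj, show ∀ x, (Equiv.symm (1 : Equiv.Perm (Fin t))) x = x from fun _ => rfl]

variable {P : Std k F}

/-! ### Skew maps of one slot -/

theorem Std.alt_o (z : Fin k → F) (w : Fin k → F) :
    alt P.S P.eo z *ᵥ w = sf P.S w z • P.eo - w P.i1 • z := by rw [alt_mulVec, P.f_eo]

theorem Std.alt_w (z : Fin k → F) (w : Fin k → F) :
    alt P.S P.ew z *ᵥ w = sf P.S w z • P.ew - w P.i0 • z := by rw [alt_mulVec, P.f_ew]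

theorem Std.alt_o_eo {z : Fin k → F} (hz : P.IsMid z) : alt P.S P.eo z *ᵥ P.eo = 0 := by
  rw [Std.alt_o, hz.eo']; simp [Std.eo, P.i0_ne_i1.symm]

theorem Std.alt_o_mid (z : Fin k → F) {w : Fin k → F} (hw : P.IsMid w) :
    alt P.S P.eo z *ᵥ w = sf P.S w z • P.eo := by rw [Std.alt_o, hw.2, zero_smul, sub_zero]

theorem Std.alt_w_eo {z : Fin k → F} (hz : P.IsMid z) : alt P.S P.ew z *ᵥ P.eo = -z := by
  rw [Std.alt_w, hz.eo']; simp [Std.eo]

theorem Std.alt_w_mid (z : Fin k → F) {w : Fin k → F} (hw : P.IsMid w) :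
    alt P.S P.ew z *ᵥ w = sf P.S w z • P.ew := by rw [Std.alt_w, hw.1, zero_smul, sub_zero]

theorem Std.alt_ow_eo : alt P.S P.eo P.ew *ᵥ P.eo = P.eo := by
  rw [alt_mulVec, P.eo_ew, P.eo_iso, one_smul, zero_smul, sub_zero]

theorem Std.alt_ow_ew : alt P.S P.eo P.ew *ᵥ P.ew = -P.ew := by
  rw [alt_mulVec, P.ew_iso, P.ew_eo, one_smul, zero_smul, zero_sub]

theorem Std.alt_ow_mid {w : Fin k → F} (hw : P.IsMid w) : alt P.S P.eo P.ew *ᵥ w = 0 := by
  rw [alt_mulVec, hw.ew, hw.eo, zero_smul, zero_smul, sub_zero]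

/-- A space of maps containing the four types of standard skew maps contains all skew maps. -/
theorem Std.skew_of_parts (two : (2 : F) ≠ 0) (R : Submodule F (Matrix (Fin k) (Fin k) F))
    (hH' : alt P.S P.eo P.ew ∈ R) (ho : ∀ c, P.IsMid c → alt P.S P.eo c ∈ R)
    (hww : ∀ c, P.IsMid c → alt P.S P.ew c ∈ R) (hcc : ∀ c z, P.IsMid c → P.IsMid z → alt P.S c z ∈ R)
    {B : Matrix (Fin k) (Fin k) F} (hB : adj P.S B = -B) : B ∈ R := by
  refine P.root_span two R (fun u v _ => ?_) hB
  obtain ⟨z, hz, hu⟩ := Std.decomp (P := P) u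
  obtain ⟨y, hy, hv⟩ := Std.decomp (P := P) v
  rw [hu, hv]
  simp only [alt_add_left, alt_add_right, alt_smul_left, alt_smul_right, alt_self, alt_swap P.S P.eo P.ew,
    alt_swap P.S P.ew z, alt_swap P.S P.eo z, smul_neg, smul_zero, add_zero, zero_add]
  repeat' (first | apply R.add_mem | apply R.smul_mem | apply R.neg_mem)
  all_goals first | exact R.zero_mem | exact hH' | exact hcc _ _ hz hy | exact ho _ hz | exact ho _ hy |
    exact hww _ hz | exact hww _ hy

/-- A vector `x` of the middle with a non-zero norm, or one in the image of a middle skew map. -/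
theorem Std.exists_aniso_image (hP : P.Good) {x : Fin k → F} (hx : P.IsMid x) (hx0 : x ≠ 0)
    (hxx : sf P.S x x = 0) :
    ∃ a b : Fin k, a ≠ P.i0 ∧ a ≠ P.i1 ∧ b ≠ P.i0 ∧ b ≠ P.i1 ∧
      sf P.S (alt P.S (Pi.single a 1) (Pi.single b 1) *ᵥ x) (alt P.S (Pi.single a 1) (Pi.single b 1) *ᵥ x) ≠ 0 := by
  classical
  have hsingle : ∀ a, a ≠ P.i0 → a ≠ P.i1 → sf P.S x (Pi.single a 1) = P.w a * x a := fun a h0 h1 => by
    rw [sf_symm, sf_single, Std.J_mid h0 h1]; rfl
  have hnorm : ∀ a b, a ≠ P.i0 → a ≠ P.i1 → b ≠ P.i0 → b ≠ P.i1 → a ≠ b →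
      sf P.S (alt P.S (Pi.single a 1) (Pi.single b 1) *ᵥ x) (alt P.S (Pi.single a 1) (Pi.single b 1) *ᵥ x) =
        P.w a * P.w b * (P.w b * x b * x b + P.w a * x a * x a) := by
    intro a b a0 a1 b0 b1 hab
    have e1 : sf P.S (Pi.single a 1) (Pi.single b (1 : F)) = 0 := by
      rw [sf_single, Std.J_mid a0 a1, Pi.single_eq_of_ne hab, mul_zero]
    rw [alt_mulVec, hsingle a a0 a1, hsingle b b0 b1]
    simp only [sf_sub_left, sf_sub_right, sf_smul_left, sf_smul_right, Std.sf_single_mid a0 a1,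
      Std.sf_single_mid b0 b1, e1, sf_symm P.S (Pi.single b 1) (Pi.single a 1)]
    ring
  obtain ⟨a, hxa⟩ := Function.ne_iff.mp hx0
  have hmid : ∀ c, x c ≠ 0 → c ≠ P.i0 ∧ c ≠ P.i1 := fun c hc =>
    ⟨fun h => hc (h ▸ hx.1), fun h => hc (h ▸ hx.2)⟩
  obtain ⟨a0, a1⟩ := hmid a hxa
  by_cases hz : ∃ c, c ≠ P.i0 ∧ c ≠ P.i1 ∧ x c = 0
  · obtain ⟨c, c0, c1, hc⟩ := hz
    have hca : c ≠ a := fun h => hxa (h ▸ hc)
    refine ⟨c, a, c0, c1, a0, a1, ?_⟩
    rw [hnorm c a c0 c1 a0 a1 hca, hc]
    simp only [mul_zero, add_zero]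
    exact mul_ne_zero (mul_ne_zero (P.w_ne _) (P.w_ne _)) (mul_ne_zero (mul_ne_zero (P.w_ne _) hxa) hxa)
  simp only [not_exists, not_and] at hz
  by_contra hc
  simp only [not_exists, not_and, not_not] at hc
  have hpair : ∀ a b, a ≠ P.i0 → a ≠ P.i1 → b ≠ P.i0 → b ≠ P.i1 → a ≠ b →
      P.w b * x b * x b + P.w a * x a * x a = 0 := fun a b a0 a1 b0 b1 hab => by
    have h := hc a b a0 a1 b0 b1
    rw [hnorm a b a0 a1 b0 b1 hab] at h
    exact (mul_eq_zero.mp h).resolve_left (mul_ne_zero (P.w_ne _) (P.w_ne _))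
  have h4 : k = 3 ∨ k = 4 → False := by
    rintro (rfl | rfl)
    · -- one middle coordinate
      have e : ∀ b, b ≠ P.i0 → b ≠ P.i1 → b = a := fun b b0 b1 => by
        simp only [Std.i0, Std.i1, ne_eq, Fin.ext_iff] at a0 a1 b0 b1 ⊢
        omega
      rw [mid_eq_sum hx] at hxx
      rw [Finset.sum_eq_single a (fun b hb hba => absurd (e b (Finset.mem_filter.mp hb).2.1
        (Finset.mem_filter.mp hb).2.2) hba) (fun h => absurd (by simp [a0, a1]) h), sf_smul_left, sf_smul_right,
        Std.sf_single_mid a0 a1] at hxx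
      exact mul_ne_zero hxa (mul_ne_zero hxa (P.w_ne a)) hxx
    · exact hx0 (hP.minus rfl x hx hxx)
  obtain ⟨b, b', b0, b1, b'0, b'1, hab, hab', hbb'⟩ : ∃ b b', b ≠ P.i0 ∧ b ≠ P.i1 ∧ b' ≠ P.i0 ∧ b' ≠ P.i1 ∧
      a ≠ b ∧ a ≠ b' ∧ b ≠ b' := by
    have hk := P.hk
    have h5 : 5 ≤ k := by by_contra h; exact h4 (by omega)
    have hs : ({P.i0, P.i1, a} : Finset (Fin k)).card ≤ 3 := Finset.card_le_three
    obtain ⟨b, -, hb⟩ := Finset.exists_mem_notMem_of_card_lt_card (s := ({P.i0, P.i1, a} : Finset (Fin k)))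
      (t := Finset.univ) (by rw [Finset.card_univ, Fintype.card_fin]; omega)
    obtain ⟨b', -, hb'⟩ := Finset.exists_mem_notMem_of_card_lt_card (s := ({P.i0, P.i1, a, b} : Finset (Fin k)))
      (t := Finset.univ) (by
        rw [Finset.card_univ, Fintype.card_fin]; exact (Finset.card_le_four).trans_lt (by omega))
    simp only [Finset.mem_insert, Finset.mem_singleton, not_or] at hb hb'
    exact ⟨b, b', hb.1, hb.2.1, hb'.1, hb'.2.1, Ne.symm hb.2.2, Ne.symm hb'.2.2.1, Ne.symm hb'.2.2.2⟩
  have e : (2 : F) * (P.w a * x a * x a) = 0 := by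
    linear_combination hpair a b a0 a1 b0 b1 hab + hpair a b' a0 a1 b'0 b'1 hab' - hpair b b' b0 b1 b'0 b'1 hbb'
  exact mul_ne_zero hP.two (mul_ne_zero (mul_ne_zero (P.w_ne a) hxa) hxa) e

/-- Skew maps killing the standard vectors are zero. -/
theorem Std.eq_zero_of_kills {X : Matrix (Fin k) (Fin k) F} (ho : X *ᵥ P.eo = 0) (hw : X *ᵥ P.ew = 0)
    (hm : ∀ c, P.IsMid c → X *ᵥ c = 0) : X = 0 := by
  refine Matrix.ext_of_mulVec_single fun b => ?_
  obtain ⟨z, hz, e⟩ := Std.decomp (P := P) (Pi.single b 1)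
  rw [e, mulVec_add, mulVec_add, mulVec_smul, mulVec_smul, hw, ho, hm z hz]
  simp

/-- The skew maps form a simple Lie algebra. -/
theorem Std.ideal_top (hP : P.Good) (I : Submodule F (Matrix (Fin k) (Fin k) F))
    (hbr : ∀ B ∈ I, ∀ M, adj P.S M = -M → B * M - M * B ∈ I) {X : Matrix (Fin k) (Fin k) F} (hXI : X ∈ I)
    (hX : adj P.S X = -X) (hX0 : X ≠ 0) {A : Matrix (Fin k) (Fin k) F} (hA : adj P.S A = -A) : A ∈ I := by
  classical
  have two := hP.two
  set H := alt P.S P.eo P.ew with hH
  have skewH : adj P.S H = -H := adj_alt _ _ _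
  have hbr' : ∀ B ∈ I, ∀ M, adj P.S M = -M → M * B - B * M ∈ I := fun B hB M hM => by
    rw [← neg_sub]; exact I.neg_mem (hbr B hB M hM)
  -- the part moving `eo` into the middle and back
  obtain ⟨x, hx, hx0, hxI⟩ : ∃ x, P.IsMid x ∧ x ≠ 0 ∧ alt P.S P.eo x ∈ I := by
    have zero_case : ∀ Y ∈ I, adj P.S Y = -Y → Y ≠ 0 → (∃ α : F, Y *ᵥ P.eo = α • P.eo) →
        (∀ c, P.IsMid c → P.IsMid (Y *ᵥ c)) → ∃ x, P.IsMid x ∧ x ≠ 0 ∧ alt P.S P.eo x ∈ I := by
      intro Y hYI hY hY0 ⟨α, ho⟩ hm
      by_contra hc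
      simp only [not_exists, not_and] at hc
      have hz : ∀ c, P.IsMid c → α • c + Y *ᵥ c = 0 := by
        intro c hcm
        by_contra hne
        refine hc _ ((hcm.smul α).add (hm c hcm)) hne ?_
        have := hbr _ hYI _ (adj_alt P.S P.eo c)
        rwa [bracket_alt P.S hY, ho, alt_smul_left, ← alt_smul_right, ← alt_add_right] at this
      have hskew : ∀ u v, sf P.S (Y *ᵥ u) v = -sf P.S u (Y *ᵥ v) := fun u v => by
        rw [adj_mulVec, hY, neg_mulVec, sf_neg_right]
      obtain ⟨c0, c1⟩ := P.i2_ne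
      have he := Std.isMid_single (F := F) (P := P) c0 c1
      have hα : α = 0 := by
        have h1 := congrArg (fun v => sf P.S v (Pi.single P.i2 1)) (hz _ he)
        have h2 : sf P.S (Y *ᵥ Pi.single P.i2 1) (Pi.single P.i2 1) = 0 := by
          have h3 := hskew (Pi.single P.i2 1) (Pi.single P.i2 1)
          rw [sf_symm P.S (Pi.single P.i2 1) (Y *ᵥ _), ← sub_eq_zero, sub_neg_eq_add, ← two_mul] at h3
          exact (mul_eq_zero.mp h3).resolve_left two
        simp only [sf_add_left, sf_smul_left, h2, Std.sf_single_mid c0 c1, sf_zero_left, add_zero] at h1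
        exact (mul_eq_zero.mp h1).resolve_right (P.w_ne _)
      have hYm : ∀ c, P.IsMid c → Y *ᵥ c = 0 := fun c hcm => by simpa [hα] using hz c hcm
      have hYo : Y *ᵥ P.eo = 0 := by rw [ho, hα, zero_smul]
      refine hY0 (Std.eq_zero_of_kills (P := P) hYo ?_ hYm)
      -- the remaining image is orthogonal to everything
      by_contra hne
      obtain ⟨v, hv⟩ := exists_pair P.S hne
      obtain ⟨z, hz', e⟩ := Std.decomp (P := P) v
      have hww : sf P.S P.ew (Y *ᵥ P.ew) = 0 := by
        have h3 := hskew P.ew P.ew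
        rw [sf_symm P.S (Y *ᵥ _) P.ew, ← sub_eq_zero, sub_neg_eq_add, ← two_mul] at h3
        exact (mul_eq_zero.mp h3).resolve_left two
      have : Y *ᵥ v = v P.i1 • (Y *ᵥ P.ew) := by
        rw [e, mulVec_add, mulVec_add, mulVec_smul, mulVec_smul, hYm z hz', hYo, smul_zero, add_zero, add_zero, ← e]
      rw [hskew, this, sf_smul_right, hww, mul_zero, neg_zero] at hv
      exact zero_ne_one hv
    obtain ⟨m, hm, hm'⟩ := Std.decomp (P := P) (X *ᵥ P.eo)
    have hskewX : ∀ u v, sf P.S (X *ᵥ u) v = -sf P.S u (X *ᵥ v) := fun u v => by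
      rw [adj_mulVec, hX, neg_mulVec, sf_neg_right]
    have hoo : (X *ᵥ P.eo) P.i1 = 0 := by
      have h3 := hskewX P.eo P.eo
      rw [P.f_eo, sf_symm P.S P.eo, P.f_eo, ← sub_eq_zero, sub_neg_eq_add, ← two_mul] at h3
      exact (mul_eq_zero.mp h3).resolve_left two
    -- components of `X` for the eigenvalues of `H`
    set X₁ := H * X - X * H with hX₁
    have hX₁I : X₁ ∈ I := hbr' X hXI H skewH
    have hX₁s : adj P.S X₁ = -X₁ := bracket_skew skewH hX
    set X₂ := H * X₁ - X₁ * H with hX₂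
    have hX₂I : X₂ ∈ I := hbr' X₁ hX₁I H skewH
    by_cases h0 : ∀ c, P.IsMid c → P.IsMid (X *ᵥ c)
    · refine zero_case X hXI hX hX0 ⟨(X *ᵥ P.eo) P.i0, ?_⟩ h0
      have hm0 : m = 0 := by
        by_contra hne
        obtain ⟨v, hv⟩ := exists_pair P.S hne
        obtain ⟨z, hz, e⟩ := Std.decomp (P := P) v
        rw [e] at hv
        simp only [sf_add_right, sf_smul_right, hm.ew, hm.eo, mul_zero, add_zero, zero_add] at hv
        have h1 := hskewX P.eo z
        rw [(h0 z hz).eo', neg_zero, hm'] at h1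
        simp only [sf_add_left, sf_smul_left, hz.ew', hz.eo', mul_zero, add_zero, zero_add] at h1
        exact zero_ne_one (h1.symm.trans hv)
      conv_lhs => rw [hm', hoo, hm0, zero_smul, zero_add, zero_add]
    simp only [not_forall] at h0
    obtain ⟨c, hc, hcX⟩ := h0
    -- the two eigencomponents
    have hval : ∀ v, P.IsMid v → X₁ *ᵥ v = H *ᵥ (X *ᵥ v) ∧ X₂ *ᵥ v = H *ᵥ (H *ᵥ (X *ᵥ v)) := by
      intro v hv
      have h1 : X₁ *ᵥ v = H *ᵥ (X *ᵥ v) := by
        rw [hX₁, sub_mulVec, ← mulVec_mulVec, ← mulVec_mulVec, hH, Std.alt_ow_mid hv, mulVec_zero, sub_zero]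
      refine ⟨h1, ?_⟩
      rw [hX₂, sub_mulVec, ← mulVec_mulVec, ← mulVec_mulVec, h1]
      conv_lhs => rw [hH, Std.alt_ow_mid hv, mulVec_zero, sub_zero]
    have hHv : ∀ v, H *ᵥ v = v P.i0 • P.eo - v P.i1 • P.ew := fun v => by
      rw [hH, alt_mulVec, P.f_ew, P.f_eo]
    have hH2 : ∀ v, H *ᵥ (H *ᵥ v) = v P.i0 • P.eo + v P.i1 • P.ew := fun v => by
      rw [hHv v, mulVec_sub, mulVec_smul, mulVec_smul]
      conv_lhs => rw [hH, Std.alt_ow_eo, Std.alt_ow_ew]
      rw [smul_neg, sub_neg_eq_add]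
    by_cases hc0 : (X *ᵥ c) P.i0 = 0
    swap
    · -- `X₂ + X₁` is a multiple of some `alt eo x`
      set Y := X₂ + X₁ with hY
      have hYI : Y ∈ I := I.add_mem hX₂I hX₁I
      have hYs : adj P.S Y = -Y := by rw [hY, adj_add, hX₁s, bracket_skew skewH hX₁s, neg_add]
      have hYm : ∀ v, P.IsMid v → Y *ᵥ v = (2 * (X *ᵥ v) P.i0) • P.eo := fun v hv => by
        rw [hY, add_mulVec, (hval v hv).1, (hval v hv).2, hH2, hHv]; module
      have hYo : Y *ᵥ P.eo = 0 := by
        have e1 : X₁ *ᵥ P.eo = H *ᵥ (X *ᵥ P.eo) - X *ᵥ P.eo := by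
          rw [hX₁, sub_mulVec, ← mulVec_mulVec, ← mulVec_mulVec]
          conv_lhs => arg 2; rw [hH, Std.alt_ow_eo]
        have e2 : X₂ *ᵥ P.eo = H *ᵥ (X₁ *ᵥ P.eo) - X₁ *ᵥ P.eo := by
          rw [hX₂, sub_mulVec, ← mulVec_mulVec, ← mulVec_mulVec]
          conv_lhs => arg 2; rw [hH, Std.alt_ow_eo]
        rw [hY, add_mulVec, e2, sub_add_cancel, e1, mulVec_sub, hH2, hHv, hoo]
        simp
      -- a middle vector read off from `Y ew`
      obtain ⟨z, hz, ez⟩ := Std.decomp (P := P) (Y *ᵥ P.ew)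
      have hskewY : ∀ u v, sf P.S (Y *ᵥ u) v = -sf P.S u (Y *ᵥ v) := fun u v => by
        rw [adj_mulVec, hYs, neg_mulVec, sf_neg_right]
      have hY0 : (Y *ᵥ P.ew) P.i0 = 0 := by
        have h3 := hskewY P.ew P.ew
        rw [P.f_ew, sf_symm P.S P.ew, P.f_ew, ← sub_eq_zero, sub_neg_eq_add, ← two_mul] at h3
        exact (mul_eq_zero.mp h3).resolve_left two
      have hY1 : (Y *ᵥ P.ew) P.i1 = 0 := by
        have h3 := hskewY P.ew P.eo
        rwa [hYo, sf_zero_right, neg_zero, P.f_eo] at h3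
      rw [hY0, hY1, zero_smul, zero_smul, zero_add, add_zero] at ez
      have hzc : ∀ v, P.IsMid v → sf P.S z v = -(2 * (X *ᵥ v) P.i0) := fun v hv => by
        rw [← ez, hskewY, hYm v hv, sf_smul_right, P.ew_eo, mul_one]
      have e : Y = -alt P.S P.eo z := by
        rw [← sub_eq_zero, sub_neg_eq_add]
        refine Std.eq_zero_of_kills (P := P) ?_ ?_ fun v hv => ?_
        · rw [add_mulVec, hYo, Std.alt_o_eo hz, add_zero]
        · rw [add_mulVec, ez, Std.alt_o, hz.ew']
          simp [Std.ew]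
        · rw [add_mulVec, hYm v hv, Std.alt_o_mid z hv, sf_symm, hzc v hv, ← add_smul, add_neg_cancel, zero_smul]
      refine ⟨z, hz, fun h => mul_ne_zero two hc0 ?_, ?_⟩
      · have := hzc c hc
        rw [h, sf_zero_left] at this
        linear_combination this
      · rw [e] at hYI; simpa using I.neg_mem hYI
    · -- the other component, moved by `alt eo c`
      have hc1 : (X *ᵥ c) P.i1 ≠ 0 := fun h => hcX ⟨hc0, h⟩
      set Y := X₂ - X₁ with hY
      have hYI : Y ∈ I := I.sub_mem hX₂I hX₁I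
      have hYs : adj P.S Y = -Y := by
        rw [hY, adj_sub, hX₁s, show adj P.S X₂ = -X₂ from bracket_skew skewH hX₁s]; abel
      have hYm : ∀ v, P.IsMid v → Y *ᵥ v = (2 * (X *ᵥ v) P.i1) • P.ew := fun v hv => by
        rw [hY, sub_mulVec, (hval v hv).1, (hval v hv).2, hH2, hHv]; module
      obtain ⟨z, hz, ez⟩ := Std.decomp (P := P) (Y *ᵥ P.eo)
      have hskewY : ∀ u v, sf P.S (Y *ᵥ u) v = -sf P.S u (Y *ᵥ v) := fun u v => by
        rw [adj_mulVec, hYs, neg_mulVec, sf_neg_right]
      have hY1 : (Y *ᵥ P.eo) P.i1 = 0 := by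
        have h3 := hskewY P.eo P.eo
        rw [P.f_eo, sf_symm P.S P.eo, P.f_eo, ← sub_eq_zero, sub_neg_eq_add, ← two_mul] at h3
        exact (mul_eq_zero.mp h3).resolve_left two
      have hY0 : (Y *ᵥ P.eo) P.i0 = 0 := by
        have e1 : ∀ Z, ((H * Z - Z * H) *ᵥ P.eo) P.i0 = 0 := fun Z => by
          rw [sub_mulVec, ← mulVec_mulVec, ← mulVec_mulVec, show H *ᵥ P.eo = P.eo from Std.alt_ow_eo, hHv]
          simp [Std.eo, Std.ew, P.i0_ne_i1]
        rw [hY, sub_mulVec, Pi.sub_apply]
        show ((H * X₁ - X₁ * H) *ᵥ P.eo) P.i0 - ((H * X - X * H) *ᵥ P.eo) P.i0 = 0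
        rw [e1, e1, sub_zero]
      rw [hY0, hY1, zero_smul, zero_smul, zero_add, add_zero] at ez
      have hzc : sf P.S z c = -(2 * (X *ᵥ c) P.i1) := by
        rw [← ez, hskewY, hYm c hc, sf_smul_right, P.eo_ew, mul_one]
      have hZ := hbr _ hYI _ (adj_alt P.S P.eo c)
      rw [bracket_alt P.S hYs, ez, hYm c hc, alt_smul_right] at hZ
      set Z := alt P.S z c + (2 * (X *ᵥ c) P.i1) • alt P.S P.eo P.ew with hZdef
      have hZo : Z *ᵥ P.eo = (2 * (X *ᵥ c) P.i1) • P.eo := by
        rw [hZdef, add_mulVec, smul_mulVec, Std.alt_ow_eo, alt_mulVec, hc.eo', hz.eo', zero_smul, zero_smul,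
          sub_zero, zero_add]
      refine zero_case Z hZ (by rw [hZdef, adj_add, adj_alt, adj_smul, adj_alt]; module) (fun h => ?_) ⟨_, hZo⟩
        fun v hv => ?_
      · rw [h, zero_mulVec] at hZo
        exact mul_ne_zero two hc1 ((smul_eq_zero.mp hZo.symm).resolve_right P.eo_ne_zero)
      · rw [hZdef, add_mulVec, smul_mulVec, Std.alt_ow_mid hv, smul_zero, add_zero, alt_mulVec, sub_eq_add_neg,
          ← neg_smul]
        exact (hz.smul _).add (hc.smul _)
  -- an anisotropic one
  obtain ⟨d, hd, hd0, hdI⟩ : ∃ d, P.IsMid d ∧ sf P.S d d ≠ 0 ∧ alt P.S P.eo d ∈ I := by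
    by_cases hxx : sf P.S x x = 0
    · obtain ⟨a, b, a0, a1, b0, b1, h⟩ := Std.exists_aniso_image hP hx hx0 hxx
      set M := alt P.S (Pi.single a 1) (Pi.single b (1 : F)) with hM
      have hMo : M *ᵥ P.eo = 0 := by
        rw [hM, alt_mulVec, (Std.isMid_single b0 b1).eo', (Std.isMid_single a0 a1).eo', zero_smul, zero_smul, sub_zero]
      refine ⟨M *ᵥ x, ?_, h, ?_⟩
      · rw [hM, alt_mulVec, sub_eq_add_neg, ← neg_smul]
        exact ((Std.isMid_single a0 a1).smul _).add ((Std.isMid_single b0 b1).smul _)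
      · have := hbr' _ hxI M (adj_alt _ _ _)
        rwa [bracket_alt P.S (adj_alt _ _ _), hMo, alt, rk_zero_left, rk_zero_right, sub_self, zero_add] at this
    · exact ⟨x, hx, hxx, hxI⟩
  have hw : ∀ c, P.IsMid c → -alt P.S c d + sf P.S d c • H ∈ I := fun c hc => by
    have := hbr' _ hdI _ (adj_alt P.S P.ew c)
    rwa [bracket_alt P.S (adj_alt _ _ _), Std.alt_w_eo hc, Std.alt_w_mid c hd, alt_smul_right, ← hH,
      ← neg_one_smul F c, alt_smul_left, neg_one_smul] at this
  have hHI : H ∈ I := by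
    have h := hw d hd
    rw [alt_self, neg_zero, zero_add] at h
    simpa [smul_smul, inv_mul_cancel₀ hd0] using I.smul_mem (sf P.S d d)⁻¹ h
  have ho : ∀ c, P.IsMid c → alt P.S P.eo c ∈ I := fun c hc => by
    have := hbr _ hHI _ (adj_alt P.S P.eo c)
    rwa [bracket_alt P.S skewH, hH, Std.alt_ow_eo, Std.alt_ow_mid hc, alt, alt, rk_zero_left, rk_zero_right,
      sub_self, add_zero] at this
  have hw' : ∀ c, P.IsMid c → alt P.S P.ew c ∈ I := fun c hc => by
    have := hbr _ hHI _ (adj_alt P.S P.ew c)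
    rw [bracket_alt P.S skewH, hH, Std.alt_ow_ew, Std.alt_ow_mid hc] at this
    simpa [alt, rk_zero_left, rk_zero_right, rk_neg_left, rk_neg_right, sub_eq_add_neg, add_comm]
      using I.neg_mem this
  refine P.root_span two I (fun u v huv => ?_) hA
  obtain ⟨z, hz, hu⟩ := Std.decomp (P := P) u
  obtain ⟨y, hy, hv⟩ := Std.decomp (P := P) v
  have hmm : alt P.S z y ∈ I := by
    have := hbr' _ (ho y hy) _ (adj_alt P.S P.ew z)
    rw [bracket_alt P.S (adj_alt _ _ _), Std.alt_w_eo hz, Std.alt_w_mid z hy, alt_smul_right,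
      ← neg_one_smul F z, alt_smul_left, neg_one_smul, ← hH] at this
    have := I.sub_mem (I.smul_mem (sf P.S y z) hHI) this
    simpa using this
  rw [hu, hv]
  simp only [alt_add_left, alt_add_right, alt_smul_left, alt_smul_right, alt_self, alt_swap P.S P.eo P.ew,
    alt_swap P.S P.ew z, alt_swap P.S P.eo z, ← hH, smul_neg, smul_zero, add_zero, zero_add]
  repeat' (first | apply I.add_mem | apply I.smul_mem | apply I.neg_mem)
  all_goals first | exact I.zero_mem | exact hHI | exact hmm | exact ho _ hz | exact ho _ hy | exact hw' _ hz | exact hw' _ hy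

/-! ### The stabiliser -/

/-- A decomposition into skew maps of the slots is unique. -/
theorem sum_slot_unique (hP : P.Good) (C : Fin t → Matrix (Fin k) (Fin k) F) (hC : ∀ j, adj P.S (C j) = -C j)
    (h : ∑ j, slot j (C j) = 0) (l : Fin t) : C l = 0 := by
  classical
  have hk := P.hk
  have hcomm : ∀ M, Commute (C l) M := fun M => by
    refine slot_injective (show 0 < k by omega) l ?_
    have e : slot l M * ∑ j, slot j (C j) - (∑ j, slot j (C j)) * slot l M = slot l (M * C l - C l * M) := by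
      rw [Finset.mul_sum, Finset.sum_mul, ← Finset.sum_sub_distrib, Finset.sum_eq_single l]
      · rw [← slot_mul', ← slot_mul', slot_sub']
      · exact fun j _ hj => by rw [slot_comm (Ne.symm hj), sub_self]
      · simp
    rw [h, mul_zero, zero_mul, sub_zero, slot_sub', eq_comm, sub_eq_zero] at e
    exact e.symm
  obtain ⟨c, hc⟩ := Matrix.mem_range_scalar_of_commute_single (M := C l) fun u v _ => (hcomm _).symm
  rw [Matrix.scalar_apply, ← Matrix.smul_one_eq_diagonal] at hc
  have h2 := hC l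
  rw [← hc, adj_smul, adj_one, ← neg_smul] at h2
  haveI : Nonempty (Fin k) := ⟨P.i0⟩
  have h3 : c = -c := by simpa using congrFun (congrFun h2 P.i0) P.i0
  have : (2 : F) * c = 0 := by linear_combination h3
  rw [← hc, (mul_eq_zero.mp this).resolve_left hP.two, zero_smul]

/-- A similitude carrying the skew maps of the slots into the span of the slots lies in the stabiliser. -/
theorem mem_wreath_of_alt (hP : P.Good) (ht : 1 ≤ t) {g : GL (Fin t → Fin k) F} (hg : IsSim (powS P.S t) g)
    (h : ∀ i A, adj P.S A = -A → ∃ B : Fin t → Matrix (Fin k) (Fin k) F,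
      g.val * slot i A * (g⁻¹).val = ∑ j, slot j (B j)) :
    g ∈ Geo.tensorWreathStandard k t F := by
  classical
  have hk := P.hk
  have two := hP.two
  have hinj : Function.Injective (conjHom g) := fun X Y e => by
    have := congrArg (conjHom g⁻¹) e
    simpa [conjHom_apply, mul_assoc] using this
  let Ψ : (Fin t → skewSub P.S) →ₗ[F] Matrix (Fin t → Fin k) (Fin t → Fin k) F :=
    ∑ j, (slotHom j).toLinearMap ∘ₗ (skewSub P.S).subtype ∘ₗ LinearMap.proj j
  have hΨ : ∀ C, Ψ C = ∑ j, slot j (C j : Matrix (Fin k) (Fin k) F) := fun C => by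
    simp [Ψ, LinearMap.sum_apply]; rfl
  -- skew images
  have himg : ∀ i A, adj P.S A = -A → ∃ C, conjHom g (slot i A) = Ψ C := by
    intro i A hA
    obtain ⟨B, hB⟩ := h i A hA
    rw [← conjHom_apply] at hB
    have hs : adj (powS P.S t) (conjHom g (slot i A)) = -conjHom g (slot i A) := by
      rw [← map_neg, conjHom_apply, conjHom_apply, hg.adj_conj, adj_slot, hA]
      rw [show -slot i A = slot i (-A) by rw [← neg_one_smul F (slot i A), ← slot_smul', neg_one_smul]]
    refine ⟨fun j => ⟨(2 : F)⁻¹ • (B j - adj P.S (B j)), mem_skewSub.mpr (by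
      rw [adj_smul, adj_sub, adj_adj, ← smul_neg, neg_sub])⟩, ?_⟩
    rw [hΨ]
    simp only [slot_smul', slot_sub', ← Finset.smul_sum, Finset.sum_sub_distrib, ← adj_slot, ← adj_sum, ← hB, hs,
      sub_neg_eq_add, ← two_smul F (conjHom g _), smul_smul, inv_mul_cancel₀ two, one_smul]
  set L := LinearMap.range Ψ with hL
  have hle : L.map (conjHom g).toLinearMap ≤ L := by
    rintro _ ⟨_, ⟨C, rfl⟩, rfl⟩
    rw [AlgHom.toLinearMap_apply, hΨ, map_sum]
    exact L.sum_mem fun j _ => (himg j _ (mem_skewSub.mp (C j).2)).elim fun D hD => ⟨D, hD.symm⟩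
  have hLeq : L.map (conjHom g).toLinearMap = L :=
    Submodule.eq_of_le_of_finrank_eq hle (Submodule.equivMapOfInjective _ hinj L).finrank_eq.symm
  -- what lands in one slot
  let J : Fin t → Fin t → Submodule F (Matrix (Fin k) (Fin k) F) := fun i j =>
    { carrier := {B | ∃ A, adj P.S A = -A ∧ conjHom g (slot i A) = slot j B}
      zero_mem' := ⟨0, by simp [adj_zero], by rw [slot_zero', slot_zero', map_zero]⟩
      add_mem' := fun {B B'} ⟨A, hA, e⟩ ⟨A', hA', e'⟩ =>
        ⟨A + A', by rw [adj_add, hA, hA', neg_add], by rw [slot_add', slot_add', map_add, e, e']⟩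
      smul_mem' := fun c B ⟨A, hA, e⟩ =>
        ⟨c • A, by rw [adj_smul, hA, smul_neg], by rw [slot_smul', slot_smul', map_smul, e]⟩ }
  -- brackets with skew maps of a slot
  have hbr : ∀ i A, adj P.S A = -A → ∀ C : Fin t → skewSub P.S, conjHom g (slot i A) = Ψ C → ∀ j M, adj P.S M = -M →
      (C j : Matrix (Fin k) (Fin k) F) * M - M * (C j : Matrix (Fin k) (Fin k) F) ∈ J i j := by
    intro i A hA C hC j M hM
    obtain ⟨_, ⟨D, rfl⟩, hD⟩ : slot j M ∈ L.map (conjHom g).toLinearMap := by
      rw [hLeq]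
      refine ⟨Pi.single j ⟨M, hM⟩, ?_⟩
      rw [hΨ, Finset.sum_eq_single j (fun l _ hl => by rw [Pi.single_eq_of_ne hl]; simp [slot_zero']) (by simp),
        Pi.single_eq_same]
    rw [AlgHom.toLinearMap_apply, hΨ] at hD
    refine ⟨A * (D i : Matrix (Fin k) (Fin k) F) - (D i : Matrix (Fin k) (Fin k) F) * A, bracket_skew hA (mem_skewSub.mp (D i).2), ?_⟩
    have e : slot i A * ∑ l, slot l (D l : Matrix (Fin k) (Fin k) F) - (∑ l, slot l (D l : Matrix (Fin k) (Fin k) F)) *
        slot i A = slot i (A * (D i : Matrix (Fin k) (Fin k) F) - (D i : Matrix (Fin k) (Fin k) F) * A) := by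
      rw [Finset.mul_sum, Finset.sum_mul, ← Finset.sum_sub_distrib, Finset.sum_eq_single i]
      · rw [← slot_mul', ← slot_mul', slot_sub']
      · exact fun l _ hl => by rw [slot_comm (Ne.symm hl), sub_self]
      · simp
    rw [← e, map_sub, map_mul, map_mul, hD, hC, hΨ, Finset.mul_sum, Finset.sum_mul, ← Finset.sum_sub_distrib,
      Finset.sum_eq_single j]
    · rw [← slot_mul', ← slot_mul', slot_sub']
    · exact fun l _ hl => by rw [slot_comm hl, sub_self]
    · simp
  have hskJ : ∀ i j B, B ∈ J i j → adj P.S B = -B := by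
    rintro i j B ⟨A, hA, e⟩
    refine slot_injective (show 0 < k by omega) j ?_
    rw [← adj_slot, ← e, conjHom_apply, hg.adj_conj, adj_slot, hA, ← neg_one_smul F B, slot_smul', neg_one_smul, ← e,
      conjHom_apply, ← neg_one_smul F A, slot_smul', neg_one_smul, mul_neg, neg_mul]
  have hJbr : ∀ i j, ∀ B ∈ J i j, ∀ M, adj P.S M = -M → B * M - M * B ∈ J i j := by
    rintro i j B hB M hM
    obtain ⟨A, hA, e⟩ := hB
    have := hbr i A hA (Pi.single j ⟨B, hskJ i j B ⟨A, hA, e⟩⟩) (by
      refine e.trans ?_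
      rw [hΨ, Finset.sum_eq_single j (fun l _ hl => by rw [Pi.single_eq_of_ne hl]; simp [slot_zero']) (by simp),
        Pi.single_eq_same]) j M hM
    rwa [Pi.single_eq_same] at this
  -- a non-zero component fills the slot
  have hfull : ∀ i A, adj P.S A = -A → ∀ C : Fin t → skewSub P.S, conjHom g (slot i A) = Ψ C → ∀ j, C j ≠ 0 →
      ∀ B, adj P.S B = -B → B ∈ J i j := by
    intro i A hA C hC j hj B hB
    obtain ⟨x, d, hr, hne⟩ : ∃ x d, IsRoot P.S x d ∧
        (C j : Matrix (Fin k) (Fin k) F) * alt P.S x d - alt P.S x d * (C j : Matrix (Fin k) (Fin k) F) ≠ 0 := by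
      by_contra hc
      simp only [not_exists, not_and, not_not, sub_eq_zero] at hc
      let Z : Subalgebra F (Matrix (Fin k) (Fin k) F) := Subalgebra.centralizer F {(C j : Matrix (Fin k) (Fin k) F)}
      have hall : ∀ M, M ∈ Z := P.mat_generated two Z fun x d hr => by
        rw [Subalgebra.mem_centralizer_iff]
        rintro _ rfl
        exact hc x d hr
      obtain ⟨c, hc'⟩ := Matrix.mem_range_scalar_of_commute_single (M := (C j : Matrix (Fin k) (Fin k) F))
        fun u v _ => ((Subalgebra.mem_centralizer_iff F).mp (hall (Matrix.single u v 1)) _ rfl).symm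
      rw [Matrix.scalar_apply, ← Matrix.smul_one_eq_diagonal] at hc'
      have h2 := mem_skewSub.mp (C j).2
      rw [← hc', adj_smul, adj_one, ← neg_smul] at h2
      have h3 : c = -c := by simpa using congrFun (congrFun h2 P.i0) P.i0
      refine hj (Subtype.ext ?_)
      rw [← hc', (mul_eq_zero.mp (show (2 : F) * c = 0 by linear_combination h3)).resolve_left two, zero_smul]
      rfl
    exact Std.ideal_top hP (J i j) (hJbr i j) (hbr i A hA C hC j _ (adj_alt _ x d))
      (bracket_skew (mem_skewSub.mp (C j).2) (adj_alt _ x d)) hne hB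
  obtain ⟨c0, c1⟩ := P.i2_ne
  set N := alt P.S P.eo (Pi.single P.i2 (1 : F)) with hN
  have hN0 : N ≠ 0 := fun h0 => P.w_ne P.i2 (by
    have h1 := congrArg (fun X => (X *ᵥ Pi.single P.i2 (1 : F)) P.i0) h0
    simp only [hN, Std.alt_o_mid _ (Std.isMid_single c0 c1), Std.sf_single_mid c0 c1, zero_mulVec,
      Pi.zero_apply] at h1
    simpa [Std.eo] using h1)
  have hex : ∀ i, ∃ j, ∀ B, adj P.S B = -B → B ∈ J i j := by
    intro i
    obtain ⟨C, hC⟩ := himg i N (adj_alt _ _ _)
    obtain ⟨j, hj⟩ : ∃ j, C j ≠ 0 := by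
      by_contra hc
      simp only [not_exists, not_not] at hc
      refine hN0 (slot_injective (show 0 < k by omega) i (hinj ?_))
      rw [hC, slot_zero', map_zero, hΨ]
      exact Finset.sum_eq_zero fun j _ => by rw [hc j]; simp [slot_zero']
    exact ⟨j, hfull i N (adj_alt _ _ _) C hC j hj⟩
  choose σ hσ using hex
  have huniq : ∀ i i' j, (∀ B, adj P.S B = -B → B ∈ J i j) → (∀ B, adj P.S B = -B → B ∈ J i' j) → i = i' := by
    intro i i' j h1 h2
    by_contra hne
    obtain ⟨A, hA, e⟩ := h1 N (adj_alt _ _ _)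
    obtain ⟨A', hA', e'⟩ := h2 N (adj_alt _ _ _)
    have e2 : slot i A - slot i' A' = 0 := by rw [sub_eq_zero]; exact hinj (e.trans e'.symm)
    have h3 := sum_slot_unique hP (Function.update (Pi.single i A) i' (-A')) (fun l => by
      rcases eq_or_ne l i' with rfl | hl
      · rw [Function.update_self, adj_neg, hA', neg_neg]
      · rw [Function.update_of_ne hl]
        rcases eq_or_ne l i with rfl | hl'
        · rw [Pi.single_eq_same, hA]
        · rw [Pi.single_eq_of_ne hl', adj_zero, neg_zero]) (by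
      rw [Fintype.sum_eq_add i i' hne (fun l hl => by
          rw [Function.update_of_ne hl.2, Pi.single_eq_of_ne hl.1, slot_zero']),
        Function.update_self, Function.update_of_ne hne, Pi.single_eq_same, ← neg_one_smul F A', slot_smul',
        neg_one_smul, ← sub_eq_add_neg, e2]) i
    rw [Function.update_of_ne hne, Pi.single_eq_same] at h3
    rw [h3, slot_zero', map_zero] at e
    exact hN0 (slot_injective (show 0 < k by omega) j (by rw [← e, slot_zero']))
  have hσi : Function.Injective σ := fun i i' he => huniq i i' (σ i) (hσ i) (he ▸ hσ i')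
  have hskew : ∀ i A, adj P.S A = -A → conjHom g (slot i A) ∈ (slotHom (σ i)).range := by
    intro i A hA
    obtain ⟨C, hC⟩ := himg i A hA
    rw [hC, hΨ, Finset.sum_eq_single (σ i)]
    · exact ⟨_, rfl⟩
    · intro l _ hl
      obtain ⟨i', rfl⟩ := (Finite.injective_iff_surjective.mp hσi) l
      by_cases hz : C (σ i') = 0
      · rw [hz]; simp [slot_zero']
      · exact absurd (congrArg σ (huniq i' i _ (hσ i') (hfull i A hA C hC _ hz))) hl
    · simp
  refine mem_wreath_of_span hk ht g fun i a b _ => ?_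
  let Z : Subalgebra F (Matrix (Fin k) (Fin k) F) := ((slotHom (σ i)).range).comap ((conjHom g).comp (slotHom i))
  obtain ⟨B, hB⟩ : conjHom g (slot i (Matrix.single a b (1 : F))) ∈ (slotHom (σ i)).range :=
    P.mat_generated two Z (fun x d _ => hskew i _ (adj_alt _ _ _)) _
  refine ⟨Pi.single (σ i) B, ?_⟩
  rw [Finset.sum_eq_single (σ i) (fun l _ hl => by rw [Pi.single_eq_of_ne hl, slot_zero']) (by simp),
    Pi.single_eq_same, ← hB]
  rfl

/-! ### Averaging -/

/-- The exponentials of the Siegel nilpotents of the first isotropic vector multiply. -/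
theorem root_eo_mul (two : (2 : F) ≠ 0) {u v : Fin k → F} (hu : P.IsMid u) (hv : P.IsMid v) :
    root P.S two P.eo u * root P.S two P.eo v = root P.S two P.eo (u + v) := by
  have h0 : ∀ {a b}, P.IsMid a → P.IsMid b → alt P.S P.eo a * alt P.S P.eo b = -sf P.S b a • P.E := by
    intro a b ha hb
    rw [alt, alt, sub_mul, mul_sub, mul_sub, rk_mul, rk_mul, rk_mul, rk_mul, ha.eo', hb.eo, P.eo_iso, Std.E]
    module
  have hEN : ∀ {a}, P.IsMid a → P.E * alt P.S P.eo a = 0 := fun {a} ha => by
    rw [Std.E, alt, mul_sub, rk_mul, rk_mul, P.eo_iso, ha.eo, zero_smul, zero_smul, sub_zero]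
  have hNE : ∀ {a}, P.IsMid a → alt P.S P.eo a * P.E = 0 := fun {a} ha => by
    rw [Std.E, alt, sub_mul, rk_mul, rk_mul, P.eo_iso, ha.eo', zero_smul, zero_smul, sub_zero]
  refine Units.ext ?_
  rw [Units.val_mul, root, root, root, expU_coe two (alt_cube P.S P.eo_iso hu.eo'),
    expU_coe two (alt_cube P.S P.eo_iso hv.eo'), expU_coe two (alt_cube P.S P.eo_iso (hu.add hv).eo')]
  simp only [mul_add, add_mul, one_mul, mul_one, Matrix.mul_smul, Matrix.smul_mul, h0 hu hv, h0 hv hu, h0 hu hu, h0 hv hv,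
    h0 (hu.add hv) (hu.add hv), hEN hv, hNE hu, E_sq, smul_zero, add_zero, alt_add_right, sf_add_left,
    sf_add_right, sf_symm P.S v u]
  match_scalars <;> field_simp <;> ring

theorem root_eo_zero (two : (2 : F) ≠ 0) : root P.S two P.eo 0 = 1 := by
  rw [root, alt, rk_zero_right, rk_zero_left, sub_zero, expU_zero]

section Sums

variable [Fintype F] {ι : Type} [Fintype ι] [DecidableEq ι]

theorem sum_pow_odd (two : (2 : F) ≠ 0) {m : ℕ} (hm : Odd m) : ∑ x : F, x ^ m = 0 := by
  have h := Equiv.sum_comp (Equiv.neg F) (fun x : F => x ^ m)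
  simp only [Equiv.neg_apply, hm.neg_pow, Finset.sum_neg_distrib] at h
  exact (mul_eq_zero.mp (show (2 : F) * ∑ x : F, x ^ m = 0 by linear_combination -h)).resolve_left two

/-- The sum of the conjugates by a one-parameter group. -/
theorem line_sum (two : (2 : F) ≠ 0) (N Y : Matrix ι ι F) :
    ∑ x : F, (1 + x • N + (2 : F)⁻¹ • (x • N * (x • N))) * Y * (1 - x • N + (2 : F)⁻¹ • (x • N * (x • N))) =
      (∑ x : F, x ^ 2) • ((2 : F)⁻¹ • (N * N * Y) + (2 : F)⁻¹ • (Y * (N * N)) - N * Y * N) +
        (∑ x : F, x ^ 4) • (((2 : F)⁻¹ * (2 : F)⁻¹) • (N * N * Y * (N * N))) := by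
  have e : ∀ x : F,
      (1 + x • N + (2 : F)⁻¹ • (x • N * (x • N))) * Y * (1 - x • N + (2 : F)⁻¹ • (x • N * (x • N))) =
        x ^ 0 • Y + x ^ 1 • (N * Y - Y * N) +
          x ^ 2 • ((2 : F)⁻¹ • (N * N * Y) + (2 : F)⁻¹ • (Y * (N * N)) - N * Y * N) +
          x ^ 3 • ((2 : F)⁻¹ • (N * Y * (N * N) - N * N * Y * N)) +
          x ^ 4 • (((2 : F)⁻¹ * (2 : F)⁻¹) • (N * N * Y * (N * N))) := fun x => by
    simp only [mul_add, add_mul, mul_sub, sub_mul, one_mul, mul_one, Matrix.smul_mul, Matrix.mul_smul, mul_assoc]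
    module
  simp only [e, Finset.sum_add_distrib, ← Finset.sum_smul]
  rw [sum_pow_odd two (by decide : Odd 1), sum_pow_odd two (by decide : Odd 3)]
  have h0 : ∑ x : F, x ^ 0 = 0 := by simp [FiniteField.cast_card_eq_zero]
  rw [h0]
  simp

end Sums

variable [Fintype F] {H : Subgroup (GL (Fin t → Fin k) F)}

/-- The defect of the averaged projection. -/
noncomputable def defect (H : Subgroup (GL (Fin t → Fin k) F)) :
    Matrix (Fin t → Fin k) (Fin t → Fin k) F →ₗ[F] Matrix (Fin t → Fin k) (Fin t → Fin k) F := avg H - Phi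

theorem defect_equivariant {g : GL (Fin t → Fin k) F} (hg : g ∈ H) (hW : g ∈ Geo.tensorWreathStandard k t F)
    (X : Matrix (Fin t → Fin k) (Fin t → Fin k) F) : defect H (conjHom g X) = conjHom g (defect H X) := by
  simp only [defect, LinearMap.sub_apply, map_sub, avg_equivariant H hg, Phi_equivariant hW]

/-- The defect on the fixed maps of a group of root elements is a sum over the group. -/
theorem defect_sum (two : (2 : F) ≠ 0) (hM : ContainsW P.S H) (hmov : Moves P.S two H) (i : Fin t) {V : Type*}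
    [AddCommGroup V] [Fintype V] (δ : V →+ (Fin k → F)) (hδ : ∀ v, P.IsMid (δ v))
    (haniso : ∀ v, v ≠ 0 → sf P.S (δ v) (δ v) ≠ 0) {X : Matrix (Fin t → Fin k) (Fin t → Fin k) F}
    (hX : ∀ v, conjHom (sRoot P.S two i P.eo (δ v)) X = X) :
    ∃ Y, defect H X = ∑ v : V, conjHom (sRoot P.S two i P.eo (δ v)) Y := by
  classical
  letI := Fintype.ofFinite (Cosets H)
  have hadd : ∀ u v, sRoot P.S two i P.eo (δ u) * sRoot P.S two i P.eo (δ v) = sRoot P.S two i P.eo (δ (u + v)) :=
    fun u v => by simp only [sRoot]; rw [← slotU_mul, root_eo_mul two (hδ u) (hδ v), map_add]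
  have hzero : sRoot P.S two i P.eo (δ 0) = 1 := by
    simp only [sRoot]
    rw [map_zero, root_eo_zero two]
    exact Units.ext (by simp only [slotU_coe, Units.val_one, slot_one'])
  have hroot : ∀ v, v ≠ 0 → IsRoot P.S P.eo (δ v) := fun v hv => ⟨P.eo_iso, (hδ v).eo', haniso v hv, P.eo_ne_zero⟩
  have hin : ∀ v, sRoot P.S two i P.eo (δ v) ∈ H := fun v => by
    by_cases hv : v = 0
    · rw [hv, hzero]; exact one_mem H
    · exact sRoot_mem P.S two hM i (hroot v hv)
  let r : V → H := fun v => ⟨_, hin v⟩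
  let α : V → Cosets H → Cosets H := fun c q => r c • q
  have hα : ∀ c d q, α c (α d q) = α (c + d) q := fun c d q => by
    show r c • r d • q = r (c + d) • q
    rw [smul_smul]
    congr 1
    exact Subtype.ext (hadd c d)
  have hα0 : ∀ q, α 0 q = q := fun q => by
    show r 0 • q = q
    rw [show r 0 = 1 from Subtype.ext hzero, one_smul]
  let st : Setoid (Cosets H) :=
    { r := fun q q' => ∃ c, α c q = q'
      iseqv :=
        ⟨fun q => ⟨0, hα0 q⟩, fun {q q'} ⟨v, hv⟩ => ⟨-v, by rw [← hv, hα, neg_add_cancel, hα0]⟩,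
          fun {q q' q''} ⟨v, hv⟩ ⟨w, hw⟩ => ⟨w + v, by rw [← hα, hv, hw]⟩⟩ }
  letI : Fintype (Quotient st) := Fintype.ofFinite _
  set T := Finset.univ.erase (QuotientGroup.mk (1 : H) : Cosets H) with hT
  have hfix : ∀ c q, q ≠ (QuotientGroup.mk 1 : Cosets H) → α c q = q → c = 0 := by
    intro c q hq hcq
    obtain ⟨g, rfl⟩ := QuotientGroup.mk_surjective q
    by_contra hc
    refine hmov g g.2 (fun h => hq ((mk_eq_one_iff H g).mpr h)) i _ _ (hroot c hc) ?_
    change (QuotientGroup.mk (r c * g) : Cosets H) = _ at hcq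
    rw [eq_comm, QuotientGroup.eq, Subgroup.mem_subgroupOf] at hcq
    simpa [mul_assoc, r] using hcq
  have hbase : ∀ c, α c (QuotientGroup.mk 1 : Cosets H) = QuotientGroup.mk 1 := fun c => by
    show (QuotientGroup.mk (r c * 1) : Cosets H) = _
    rw [mul_one]
    exact (mk_eq_one_iff H _).mpr (slotU_mem _ _)
  have horb : ∀ o : Quotient st, ∃ Y, ∑ q ∈ T.filter (fun q => Quotient.mk st q = o), cosetTwist H q X =
      ∑ c : V, conjHom (sRoot P.S two i P.eo (δ c)) Y := by
    intro o
    by_cases hne : T.filter (fun q => Quotient.mk st q = o) = ∅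
    · exact ⟨0, by rw [hne]; simp⟩
    obtain ⟨q₀, hq₀⟩ := Finset.nonempty_iff_ne_empty.mpr hne
    simp only [T, Finset.mem_filter, Finset.mem_erase, Finset.mem_univ, and_true] at hq₀
    obtain ⟨hq₀, rfl⟩ := hq₀
    refine ⟨cosetTwist H q₀ X, ?_⟩
    have himg : T.filter (fun q => Quotient.mk st q = Quotient.mk st q₀) =
        (Finset.univ : Finset V).image fun c => α c q₀ := by
      ext q
      simp only [T, Finset.mem_filter, Finset.mem_erase, Finset.mem_univ, and_true, Finset.mem_image, true_and]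
      constructor
      · rintro ⟨-, hq⟩
        exact Quotient.exact hq.symm
      · rintro ⟨c, rfl⟩
        refine ⟨fun h => hq₀ ?_, (Quotient.sound (show st q₀ (α c q₀) from ⟨c, rfl⟩)).symm⟩
        have h' := congrArg (α (-c)) h
        rwa [hα, neg_add_cancel, hα0, hbase] at h'
    rw [himg, Finset.sum_image fun c _ d _ (h : α c q₀ = α d q₀) => by
      have h' := congrArg (α (-d)) h
      rw [hα, hα, neg_add_cancel, hα0] at h'
      exact (neg_add_eq_zero.mp (hfix _ _ hq₀ h')).symm]
    refine Finset.sum_congr rfl fun c _ => ?_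
    have h := cosetTwist_smul H (r c) q₀ X
    rw [hX c] at h
    exact h
  choose Y hY using horb
  refine ⟨∑ o, Y o, ?_⟩
  rw [defect, LinearMap.sub_apply, avg_sub_Phi, ← hT,
    ← Finset.sum_fiberwise T (fun q => Quotient.mk st q) (fun q => cosetTwist H q X),
    Finset.sum_congr rfl fun o _ => hY o, Finset.sum_comm]
  simp [map_sum]

/-- The sum over the multiples of one root. -/
theorem sum_conj_root (two : (2 : F) ≠ 0) (i : Fin t) {d : Fin k → F} (hd : P.IsMid d)
    (Y : Matrix (Fin t → Fin k) (Fin t → Fin k) F) :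
    ∑ x : F, conjHom (sRoot P.S two i P.eo (x • d)) Y =
      (∑ x : F, x ^ 2) • ((2 : F)⁻¹ • (slot i (alt P.S P.eo d) * slot i (alt P.S P.eo d) * Y) +
          (2 : F)⁻¹ • (Y * (slot i (alt P.S P.eo d) * slot i (alt P.S P.eo d))) -
          slot i (alt P.S P.eo d) * Y * slot i (alt P.S P.eo d)) +
        (∑ x : F, x ^ 4) • (((2 : F)⁻¹ * (2 : F)⁻¹) •
          (slot i (alt P.S P.eo d) * slot i (alt P.S P.eo d) * Y * (slot i (alt P.S P.eo d) * slot i (alt P.S P.eo d)))) := by
  rw [← line_sum two]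
  refine Finset.sum_congr rfl fun x _ => ?_
  have hinv : (root P.S two P.eo (x • d))⁻¹ = root P.S two P.eo ((-x) • d) :=
    inv_eq_of_mul_eq_one_right (by
      rw [root_eo_mul two (hd.smul x) (hd.smul (-x)), ← add_smul, add_neg_cancel, zero_smul, root_eo_zero two])
  have hcoe : ∀ y : F, (root P.S two P.eo (y • d)).val =
      1 + y • alt P.S P.eo d + (2 : F)⁻¹ • ((y • alt P.S P.eo d) * (y • alt P.S P.eo d)) := fun y => by
    rw [root, expU_coe two (alt_cube P.S P.eo_iso (hd.smul y).eo'), alt_smul_right]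
  rw [sRoot, conjHom_apply, slotU_inv, hinv, slotU_coe, slotU_coe, hcoe, hcoe]
  simp only [slot_add', slot_sub', slot_smul', slot_mul', slot_one', neg_smul, neg_mul, mul_neg, neg_neg, ← sub_eq_add_neg]

theorem fix_tens (two : (2 : F) ≠ 0) (i : Fin t) {u d : Fin k → F} (hu : P.IsMid u) (hd : P.IsMid d)
    (A : Fin t → Matrix (Fin k) (Fin k) F) (hA : A i = alt P.S P.eo d) :
    conjHom (sRoot P.S two i P.eo u) (tens A) = tens A := by
  rw [sRoot, conjHom_slotU_tens, hA]
  suffices e : (root P.S two P.eo u).val * alt P.S P.eo d = alt P.S P.eo d * (root P.S two P.eo u).val by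
    rw [e, mul_assoc, Units.mul_inv, mul_one, ← hA, Function.update_eq_self]
  have hc : alt P.S P.eo u * alt P.S P.eo d = alt P.S P.eo d * alt P.S P.eo u := by
    rw [alt, alt, sub_mul, sub_mul, mul_sub, mul_sub, mul_sub, mul_sub]
    simp only [rk_mul, hu.eo, hu.eo', hd.eo, hd.eo', P.eo_iso, zero_smul, sf_symm P.S d u]
  rw [root, expU_coe two (alt_cube P.S P.eo_iso hu.eo')]
  simp only [add_mul, mul_add, one_mul, mul_one, Matrix.smul_mul, Matrix.mul_smul, mul_assoc]
  rw [hc, ← mul_assoc (alt P.S P.eo u), hc]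
  simp only [mul_assoc]

/-- A value of the defect between two squares of a root, negated by the stabiliser, vanishes. -/
theorem eq_zero_of_flip (two : (2 : F) ≠ 0) (hM : ContainsW P.S H) (i : Fin t) {h : GL (Fin k) F}
    (hh : h ∈ Om P.S) {ε : F} (hε : ε * ε = 1) (hl : h.val * P.E = ε • P.E) (hr : P.E * (h⁻¹).val = ε • P.E)
    {A : Fin t → Matrix (Fin k) (Fin k) F} (hA : h.val * A i * (h⁻¹).val = -A i) {c : F}
    {Y : Matrix (Fin t → Fin k) (Fin t → Fin k) F}
    (hD : defect H (tens A) = c • (slot i P.E * Y * slot i P.E)) :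
    defect H (tens A) = 0 := by
  have h1 := defect_equivariant (hM _ (slotU_mem i h) (slotU_mem_Om two hh i)) (slotU_mem i h) (tens A)
  rw [conjHom_slotU_tens, hA, ← neg_one_smul F (A i), tens_update_smul, Function.update_eq_self, map_smul, hD,
    map_smul] at h1
  have e : conjHom (slotU i h) (slot i P.E * Y * slot i P.E) = slot i P.E * Y * slot i P.E := by
    rw [conjHom_apply, slotU_inv, slotU_coe, slotU_coe]
    have e1 : slot i h.val * slot i P.E = ε • slot i P.E := by rw [← slot_mul', hl, slot_smul']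
    have e2 : slot i P.E * slot i (h⁻¹).val = ε • slot i P.E := by rw [← slot_mul', hr, slot_smul']
    calc slot i h.val * (slot i P.E * Y * slot i P.E) * slot i (h⁻¹).val
        = (slot i h.val * slot i P.E) * Y * (slot i P.E * slot i (h⁻¹).val) := by simp only [mul_assoc]
      _ = slot i P.E * Y * slot i P.E := by
        rw [e1, e2, Matrix.smul_mul, Matrix.smul_mul, Matrix.mul_smul, smul_smul, hε, one_smul]
  rw [e] at h1
  have h2 : (2 : F) • (c • (slot i P.E * Y * slot i P.E)) = 0 := by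
    rw [neg_one_smul, neg_eq_iff_add_eq_zero] at h1
    rwa [two_smul]
  rw [hD]
  exact (smul_eq_zero.mp h2).resolve_left two

/-- The defect vanishes on tensors with a root in one slot. -/
theorem exists_base (hP : P.Good) (hM : ContainsW P.S H) (hmov : Moves P.S hP.two H) (i : Fin t) :
    ∃ a, a ≠ P.i0 ∧ a ≠ P.i1 ∧
      ∀ A, A i = alt P.S P.eo (Pi.single a 1) → defect H (tens A) = 0 := by
  classical
  have two := hP.two
  have hk := P.hk
  obtain ⟨c0, c1⟩ := P.i2_ne
  have hc : Fintype.card F = 3 ∨ Fintype.card F = 5 ∨ 7 ≤ Fintype.card F := by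
    have h2 : 2 ≤ Fintype.card F := Fintype.one_lt_card
    have hodd : ¬ 2 ∣ Fintype.card F := by
      rintro ⟨m, hm⟩
      obtain ⟨p, hp⟩ := CharP.exists F
      obtain ⟨r, hp', hr⟩ := FiniteField.card F p
      have h2p : 2 ∣ p ^ (r : ℕ) := by rw [← hr, hm]; exact dvd_mul_right 2 m
      have := (Nat.prime_dvd_prime_iff_eq Nat.prime_two hp').mp (Nat.prime_two.dvd_of_dvd_pow h2p)
      exact two (by have h := CharP.cast_eq_zero F p; rwa [← this] at h)
    omega
  by_cases h3 : Fintype.card F = 3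
  swap
  · refine ⟨P.i2, c0, c1, fun A hA => ?_⟩
    set d : Fin k → F := Pi.single P.i2 1
    have hd : P.IsMid d := Std.isMid_single c0 c1
    let δ : F →+ (Fin k → F) := AddMonoidHom.mk' (fun x => x • d) fun x y => add_smul x y d
    obtain ⟨Y, hY⟩ := defect_sum two hM hmov i δ (fun v => hd.smul v) (fun v hv => by
      show sf P.S (v • d) (v • d) ≠ 0
      rw [sf_smul_left, sf_smul_right, Std.sf_single_mid c0 c1]
      exact mul_ne_zero hv (mul_ne_zero hv (P.w_ne _))) (X := tens A) fun v => fix_tens two i (hd.smul v) hd A hA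
    simp only [δ, AddMonoidHom.mk'_apply] at hY
    rw [sum_conj_root two i hd] at hY
    rw [FiniteField.sum_pow_lt_card_sub_one _ 2 (by omega), zero_smul, zero_add, ← slot_mul',
      alt_sq P.S P.eo_iso hd.eo'] at hY
    by_cases h5 : Fintype.card F = 5
    swap
    · rw [hY, FiniteField.sum_pow_lt_card_sub_one _ 4 (by omega), zero_smul]
    -- five elements
    obtain ⟨r, hr⟩ : IsSquare (-1 : F) := FiniteField.isSquare_neg_one_iff.mpr (by rw [h5]; decide)
    have hr0 : r ≠ 0 := fun h => by simp [h] at hr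
    let f1 : Fin k → F := fun b => if b = P.i0 then r else if b = P.i1 then r⁻¹ else 1
    let f2 : Fin k → F := fun b => if b = P.i0 then r⁻¹ else if b = P.i1 then r else 1
    have hf : ∀ b, f1 b * f2 b = 1 := fun b => by simp only [f1, f2]; split_ifs <;> simp [hr0]
    let g : GL (Fin k) F := ⟨diagonal f1, diagonal f2,
      by rw [diagonal_mul_diagonal, ← diagonal_one]; exact congrArg diagonal (funext hf),
      by rw [diagonal_mul_diagonal, ← diagonal_one]; exact congrArg diagonal (funext fun b => by rw [mul_comm, hf b])⟩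
    have hgO : g ∈ O P.S := by
      rw [mem_O_iff]
      have e : adj P.S (diagonal f1) = diagonal f2 := by
        ext a b
        by_cases hab : a = b
        · subst hab
          rw [adj, Matrix.of_apply, div_self (P.S.w_ne a), one_mul, diagonal_apply_eq, diagonal_apply_eq]
          show f1 (Equiv.swap P.i0 P.i1 a) = f2 a
          rcases eq_or_ne a P.i0 with rfl | ha0
          · simp [f1, f2, Ne.symm P.i0_ne_i1]
          rcases eq_or_ne a P.i1 with rfl | ha1
          · simp [f1, f2, Ne.symm P.i0_ne_i1]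
          simp [Equiv.swap_apply_of_ne_of_ne ha0 ha1, f1, f2, ha0, ha1]
        · rw [adj, Matrix.of_apply, diagonal_apply_ne _ (P.S.J.injective.ne (Ne.symm hab)), mul_zero,
            diagonal_apply_ne _ hab]
      show adj P.S (diagonal f1) * diagonal f1 = 1
      rw [e, diagonal_mul_diagonal, ← diagonal_one]
      exact congrArg diagonal (funext fun b => by rw [mul_comm, hf b])
    have hho : (g * g).val *ᵥ P.eo = (-1 : F) • P.eo := by
      show (diagonal f1 * diagonal f1) *ᵥ P.eo = _
      rw [diagonal_mul_diagonal]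
      funext b
      rw [mulVec_diagonal]
      by_cases hb : b = P.i0
      · subst hb; simp [f1, Std.eo, ← hr]
      · simp [Std.eo, hb]
    have hhd : (g * g).val *ᵥ d = d := by
      show (diagonal f1 * diagonal f1) *ᵥ d = _
      rw [diagonal_mul_diagonal]
      funext b
      rw [mulVec_diagonal]
      by_cases hb : b = P.i2
      · subst hb; simp [f1, d, c0, c1]
      · simp [d, hb]
    have hgg := mul_mem hgO hgO
    refine eq_zero_of_flip two hM i (sq_mem_Om P.S two hgO) (ε := -1) (by ring) ?_ ?_ (A := A) ?_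
      (c := (∑ x : F, x ^ 4) * ((2 : F)⁻¹ * (2 : F)⁻¹ * (-sf P.S d d * -sf P.S d d))) (Y := Y) ?_
    · rw [Std.E, mul_rk, hho, rk_smul_left]
    · rw [Std.E, rk_mul_left, ← inv_eq_adj _ (inv_mem hgg), inv_inv, hho, rk_smul_right]
    · rw [hA, conj_alt P.S hgg, hho, hhd, alt_smul_left, neg_one_smul]
    · rw [hY]
      simp only [slot_smul', Matrix.smul_mul, Matrix.mul_smul, smul_smul, Std.E]
  -- three elements
  have hw3 : ∀ a, P.w a = 1 ∨ P.w a = -1 := fun a => by
    have h := FiniteField.pow_card_sub_one_eq_one (P.w a) (P.w_ne a)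
    rw [h3] at h
    exact mul_self_eq_one_iff.mp (by linear_combination h)
  obtain ⟨a, b, a0, a1, b0, b1, hab, hw⟩ : ∃ a b, a ≠ P.i0 ∧ a ≠ P.i1 ∧ b ≠ P.i0 ∧ b ≠ P.i1 ∧ a ≠ b ∧
      P.w a = P.w b := by
    have h4 : 4 ≤ k := by
      rcases Nat.lt_or_ge k 4 with h | h
      · exact absurd ⟨(Nat.card_eq_fintype_card (α := F)).trans h3, by omega⟩ hP.hex
      · exact h
    let j3 : Fin k := ⟨3, by omega⟩
    have d0 : j3 ≠ P.i0 := by simp [j3, Std.i0, Fin.ext_iff]
    have d1 : j3 ≠ P.i1 := by simp [j3, Std.i1, Fin.ext_iff]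
    have d2 : P.i2 ≠ j3 := by simp [j3, Std.i2, Fin.ext_iff]
    by_cases hk4 : k = 4
    · refine ⟨P.i2, j3, c0, c1, d0, d1, d2, ?_⟩
      by_contra hne
      have hsum : P.w P.i2 + P.w j3 = 0 := by
        rcases hw3 P.i2 with e | e <;> rcases hw3 j3 with e' | e' <;> rw [e, e'] at hne ⊢ <;> simp_all
      have hm : P.IsMid (Pi.single P.i2 1 + Pi.single j3 (1 : F)) :=
        (Std.isMid_single c0 c1).add (Std.isMid_single d0 d1)
      have hz := hP.minus hk4 _ hm (by
        simp only [sf_add_left, sf_add_right, Std.sf_single_mid c0 c1, Std.sf_single_mid d0 d1, sf_single,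
          Std.J_mid c0 c1, Std.J_mid d0 d1, Pi.single_eq_of_ne d2, Pi.single_eq_of_ne d2.symm, mul_zero]
        linear_combination hsum)
      have := congrFun hz P.i2
      simp [Pi.single_eq_of_ne d2] at this
    let j4 : Fin k := ⟨4, by omega⟩
    have e0 : j4 ≠ P.i0 := by simp [j4, Std.i0, Fin.ext_iff]
    have e1 : j4 ≠ P.i1 := by simp [j4, Std.i1, Fin.ext_iff]
    rcases hw3 P.i2 with e | e <;> rcases hw3 j3 with e' | e' <;> rcases hw3 j4 with e'' | e''
    all_goals first
      | exact ⟨P.i2, j3, c0, c1, d0, d1, d2, e.trans e'.symm⟩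
      | exact ⟨P.i2, j4, c0, c1, e0, e1, by simp [j4, Std.i2, Fin.ext_iff], e.trans e''.symm⟩
      | exact ⟨j3, j4, d0, d1, e0, e1, by simp [j3, j4, Fin.ext_iff], e'.trans e''.symm⟩
  refine ⟨a, a0, a1, fun A hA => ?_⟩
  set u : Fin k → F := Pi.single a 1
  set v : Fin k → F := Pi.single b 1
  have hu : P.IsMid u := Std.isMid_single a0 a1
  have hv : P.IsMid v := Std.isMid_single b0 b1
  have huv : sf P.S u v = 0 := by
    show sf P.S (Pi.single a 1) (Pi.single b 1) = 0
    rw [sf_single, Std.J_mid a0 a1, Pi.single_eq_of_ne hab, mul_zero]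
  have hvu : sf P.S v u = 0 := by rw [sf_symm, huv]
  let δ : F × F →+ (Fin k → F) := AddMonoidHom.mk' (fun p => p.1 • u + p.2 • v) fun x y => by
    simp only [Prod.fst_add, Prod.snd_add]; module
  have hδ : ∀ p, P.IsMid (δ p) := fun p => (hu.smul _).add (hv.smul _)
  obtain ⟨Y, hY⟩ := defect_sum two hM hmov i δ hδ (fun p hp => by
    show sf P.S (p.1 • u + p.2 • v) (p.1 • u + p.2 • v) ≠ 0
    simp only [sf_add_left, sf_add_right, sf_smul_left, sf_smul_right, huv, hvu, u, v, Std.sf_single_mid a0 a1,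
      Std.sf_single_mid b0 b1, hw, mul_zero, add_zero, zero_add]
    intro h
    rcases mul_eq_zero.mp (show (p.1 * p.1 + p.2 * p.2) * P.w b = 0 by linear_combination h) with h' | h'
    swap
    · exact P.w_ne b h'
    by_cases h2 : p.2 = 0
    · rw [h2, mul_zero, add_zero] at h'
      exact hp (Prod.ext (mul_self_eq_zero.mp h') h2)
    · have : IsSquare (-1 : F) := ⟨p.1 / p.2, by field_simp; linear_combination -h'⟩
      rw [FiniteField.isSquare_neg_one_iff, h3] at this
      exact this rfl) (X := tens A) fun p => fix_tens two i (hδ p) hu A hA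
  have hsplit : ∀ x y : F, conjHom (sRoot P.S two i P.eo (δ (x, y))) Y =
      conjHom (sRoot P.S two i P.eo (y • v)) (conjHom (sRoot P.S two i P.eo (x • u)) Y) := fun x y => by
    rw [← conjHom_mul', sRoot, sRoot, sRoot, ← slotU_mul, root_eo_mul two (hv.smul y) (hu.smul x),
      add_comm (y • v)]
    rfl
  rw [Fintype.sum_prod_type] at hY
  simp only [hsplit] at hY
  rw [Finset.sum_comm] at hY
  simp only [← map_sum, sum_conj_root two i hu] at hY
  rw [sum_conj_root two i hv] at hY
  set Nu := slot i (alt P.S P.eo u)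
  set Nv := slot i (alt P.S P.eo v)
  set E' := slot i P.E
  have hNu : Nu * Nu = -P.w b • E' := by
    simp only [Nu, E', ← slot_mul', alt_sq P.S P.eo_iso hu.eo', u, Std.sf_single_mid a0 a1, hw, slot_smul', Std.E]
  have hNv : Nv * Nv = -P.w b • E' := by
    simp only [Nv, E', ← slot_mul', alt_sq P.S P.eo_iso hv.eo', v, Std.sf_single_mid b0 b1, slot_smul', Std.E]
  have hz1 : Nv * Nu = 0 := by
    simp only [Nu, Nv, ← slot_mul', alt, sub_mul, mul_sub, rk_mul, P.eo_iso, huv, hvu, hu.eo, hu.eo', hv.eo, hv.eo', zero_smul,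
      sub_self, slot_zero']
  have hz2 : Nu * Nv = 0 := by
    simp only [Nu, Nv, ← slot_mul', alt, sub_mul, mul_sub, rk_mul, P.eo_iso, huv, hvu, hu.eo, hu.eo', hv.eo, hv.eo', zero_smul,
      sub_self, slot_zero']
  have hE : E' * E' = 0 := by simp only [E', ← slot_mul', E_sq, slot_zero']
  have hEu : E' * Nu = 0 := by
    simp only [E', Nu, ← slot_mul', Std.E, alt, mul_sub, rk_mul, P.eo_iso, hu.eo, zero_smul, sub_zero, slot_zero']
  have huE : Nu * E' = 0 := by
    simp only [E', Nu, ← slot_mul', Std.E, alt, sub_mul, rk_mul, P.eo_iso, hu.eo', zero_smul, sub_zero, slot_zero']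
  have hvE : Nv * E' = 0 := by
    simp only [E', Nv, ← slot_mul', Std.E, alt, sub_mul, rk_mul, P.eo_iso, hv.eo', zero_smul, sub_zero, slot_zero']
  have hEv : E' * Nv = 0 := by
    simp only [E', Nv, ← slot_mul', Std.E, alt, mul_sub, rk_mul, P.eo_iso, hv.eo, zero_smul, sub_zero, slot_zero']
  have kl : ∀ {X X' : Matrix (Fin t → Fin k) (Fin t → Fin k) F}, X * X' = 0 → ∀ Z, X * (X' * Z) = 0 :=
    fun h Z => by rw [← mul_assoc, h, zero_mul]
  rw [hNu, hNv] at hY
  simp only [mul_add, add_mul, mul_sub, sub_mul, Matrix.smul_mul, Matrix.mul_smul, smul_sub, smul_add,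
    mul_assoc, kl hE, kl hz1, kl hEu, kl hvE, hE, hz2, huE, hEv, mul_zero, smul_zero, sub_zero, add_zero,
    zero_add, smul_smul, ← add_smul] at hY
  -- the only surviving term
  have s0 : ∀ x y x' y' : Fin k, y ≠ x' → Matrix.single x y (1 : F) * Matrix.single x' y' 1 = 0 := fun x y x' y' h =>
    by simp [h]
  let R : GL (Fin k) F := ⟨
    (1 : Matrix (Fin k) (Fin k) F) - Matrix.single a a 1 - Matrix.single b b 1 - Matrix.single a b 1 + Matrix.single b a 1,
    (1 : Matrix (Fin k) (Fin k) F) - Matrix.single a a 1 - Matrix.single b b 1 + Matrix.single a b 1 - Matrix.single b a 1,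
    by
      simp only [mul_add, add_mul, mul_sub, sub_mul, one_mul, mul_one, Matrix.single_mul_single_same,
        s0 _ a b _ hab, s0 _ b a _ hab.symm]
      abel,
    by
      simp only [mul_add, add_mul, mul_sub, sub_mul, one_mul, mul_one, Matrix.single_mul_single_same,
        s0 _ a b _ hab, s0 _ b a _ hab.symm]
      abel⟩
  have hsa : ∀ c e' : Fin k, ∀ z : Fin k → F, Matrix.single c e' (1 : F) *ᵥ z = Pi.single c (z e') := fun c e' z => by
    rw [Matrix.single_mulVec, one_mul]
    rfl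
  have hRv : ∀ z : Fin k → F, R.val *ᵥ z =
      z - Pi.single a (z a) - Pi.single b (z b) - Pi.single a (z b) + Pi.single b (z a) := fun z => by
    show (_ - _ - _ - _ + _ : Matrix (Fin k) (Fin k) F) *ᵥ z = _
    simp only [add_mulVec, sub_mulVec, one_mulVec, hsa]
  have hRu : R.val *ᵥ u = v := by
    rw [hRv]; funext c
    by_cases hca : c = a
    · subst hca; simp [u, v, hab]
    · by_cases hcb : c = b
      · subst hcb; simp [u, v, hca, Ne.symm hca]
      · simp [u, v, hca, hcb]
  have hRR : R.val *ᵥ v = (-1 : F) • u := by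
    rw [hRv]; funext c
    by_cases hca : c = a
    · subst hca; simp [u, v, hab]
    · by_cases hcb : c = b
      · subst hcb; simp [u, v, hca, Ne.symm hca]
      · simp [u, v, hca, hcb]
  have hRo : R.val *ᵥ P.eo = P.eo := by
    rw [hRv]; simp [Std.eo, a0, b0]
  have hRO : R ∈ O P.S := by
    refine (mem_O_iff _).mpr ?_
    have e : adj P.S R.val = (R⁻¹).val := by
      show adj P.S (_ - _ - _ - _ + _) = (_ - _ - _ + _ - _ : Matrix (Fin k) (Fin k) F)
      have hs : ∀ c e', c ≠ P.i0 → c ≠ P.i1 → e' ≠ P.i0 → e' ≠ P.i1 → P.w c = P.w e' →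
          adj P.S (Matrix.single c e' (1 : F)) = Matrix.single e' c 1 := fun c e' h0 h1 h0' h1' hce => by
        rw [single_eq_rk P.S, adj_smul, adj_rk, Std.J_mid h0' h1', rk_single, Std.J_mid h0 h1, smul_smul]
        show ((P.w e')⁻¹ * P.w c) • _ = _
        rw [hce, inv_mul_cancel₀ (P.w_ne _), one_smul]
      rw [adj_add, adj_sub, adj_sub, adj_sub, adj_one, hs a a a0 a1 a0 a1 rfl, hs b b b0 b1 b0 b1 rfl,
        hs a b a0 a1 b0 b1 hw, hs b a b0 b1 a0 a1 hw.symm]
      abel
    rw [e, Units.inv_mul]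
  have hgg := mul_mem hRO hRO
  have hho : (R * R).val *ᵥ P.eo = P.eo := by rw [Units.val_mul, ← mulVec_mulVec, hRo, hRo]
  have hhu : (R * R).val *ᵥ u = (-1 : F) • u := by rw [Units.val_mul, ← mulVec_mulVec, hRu, hRR]
  rw [← mul_assoc E' Y E'] at hY
  refine eq_zero_of_flip two hM i (sq_mem_Om P.S two hRO) (ε := 1) (one_mul _) ?_ ?_ (A := A) ?_ hY
  · rw [Std.E, mul_rk, hho, one_smul]
  · rw [Std.E, rk_mul_left, ← inv_eq_adj _ (inv_mem hgg), inv_inv, hho, one_smul]
  · rw [hA, conj_alt P.S hgg, hho, hhu, alt_smul_right, neg_one_smul]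

/-- Without fusion there is nothing outside the stabiliser. -/
theorem le_wreath_of_moves (hP : P.Good) (ht : 1 ≤ t) (hH : H ≤ Om (powS P.S t)) (hM : ContainsW P.S H)
    (hmov : Moves P.S hP.two H) : H ≤ Geo.tensorWreathStandard k t F := by
  classical
  have two := hP.two
  let R : Fin t → Submodule F (Matrix (Fin k) (Fin k) F) := fun l =>
    { carrier := {B | ∀ A, defect H (tens (Function.update A l B)) = 0}
      zero_mem' := fun A => by
        rw [tens_eq_zero (l := l) (Function.update_self _ _ _), map_zero]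
      add_mem' := fun {B B'} hB hB' A => by
        rw [tens_update_add, map_add, hB A, hB' A, add_zero]
      smul_mem' := fun c B hB A => by rw [tens_update_smul, map_smul, hB A, smul_zero] }
  have stable : ∀ l, ∀ g ∈ Om P.S, ∀ B ∈ R l, g.val * B * (g⁻¹).val ∈ R l := by
    intro l g hg B hB A
    have h := congrArg (conjHom (slotU l g)) (hB A)
    rw [map_zero, ← defect_equivariant (hM _ (slotU_mem _ _) (slotU_mem_Om two hg l)) (slotU_mem _ _),
      conjHom_slotU_tens, Function.update_self, Function.update_idem] at h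
    exact h
  have move : ∀ l {N : Matrix (Fin k) (Fin k) F} (hN : N * N * N = 0), adj P.S N = -N → ∀ u v, alt P.S u v ∈ R l →
      alt P.S (u + N *ᵥ u + (2 : F)⁻¹ • (N *ᵥ (N *ᵥ u))) (v + N *ᵥ v + (2 : F)⁻¹ • (N *ᵥ (N *ᵥ v))) ∈ R l := by
    intro l N hN hs u v h
    have h1 := stable l _ (expU_mem_Om two hN hs) _ h
    rw [conj_alt P.S (expU_mem_O two hN hs), expU_coe two hN] at h1
    simpa [add_mulVec, smul_mulVec, ← mulVec_mulVec] using h1
  have half : ∀ l {B : Matrix (Fin k) (Fin k) F}, (2 : F) • B ∈ R l → B ∈ R l := fun l {B} h => by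
    simpa [smul_smul, two] using (R l).smul_mem (2 : F)⁻¹ h
  have hall : ∀ l B, adj P.S B = -B → B ∈ R l := by
    intro l B hB
    obtain ⟨a, a0, a1, hbase⟩ := exists_base hP hM hmov l
    set d : Fin k → F := Pi.single a 1
    have hd : P.IsMid d := Std.isMid_single a0 a1
    have hd0 : sf P.S d d ≠ 0 := by rw [Std.sf_single_mid a0 a1]; exact P.w_ne a
    have hdR : alt P.S P.eo d ∈ R l := fun A => hbase _ (Function.update_self _ _ _)
    -- conjugates of a root by the root elements of the second vector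
    have pull : ∀ c z, P.IsMid c → P.IsMid z → alt P.S P.eo z ∈ R l →
        -alt P.S c z + sf P.S z c • alt P.S P.eo P.ew ∈ R l ∧
          sf P.S z c • alt P.S P.ew c - (2⁻¹ * sf P.S c c) • alt P.S P.ew z ∈ R l := by
      intro c z hc hz h
      have key : ∀ s : F, alt P.S P.eo z + s • (-alt P.S c z + sf P.S z c • alt P.S P.eo P.ew) +
          (s * s) • (sf P.S z c • alt P.S P.ew c - (2⁻¹ * sf P.S c c) • alt P.S P.ew z) ∈ R l := by
        intro s
        have hcs := hc.smul s
        have h1 := move l (alt_cube P.S P.ew_iso hcs.ew') (adj_alt _ _ _) _ _ h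
        rw [Std.alt_w_eo hcs, mulVec_neg, Std.alt_w_mid _ hcs, Std.alt_w_mid _ hz, mulVec_smul] at h1
        have hww : alt P.S P.ew (s • c) *ᵥ P.ew = 0 := by
          rw [Std.alt_w, hcs.ew']; simp [Std.ew, P.i0_ne_i1]
        rw [hww, smul_zero, smul_zero, add_zero] at h1
        convert h1 using 1
        simp only [alt_add_left, alt_add_right, alt_smul_left, alt_smul_right, sf_smul_left, sf_smul_right,
          ← neg_one_smul F (s • c), ← neg_one_smul F ((_ : F) • P.ew), alt_self, alt_swap P.S P.ew c, smul_zero,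
          alt_swap P.S P.ew z]
        module
      have h1 := key 1
      have h2 := key (-1)
      constructor
      · refine half l ?_
        convert (R l).sub_mem h1 h2 using 1
        module
      · refine half l ?_
        convert (R l).sub_mem ((R l).add_mem h1 h2) ((R l).smul_mem 2 h) using 1
        module
    have hH' : alt P.S P.eo P.ew ∈ R l := by
      have h := (pull d d hd hd hdR).1
      rw [alt_self, neg_zero, zero_add] at h
      simpa [smul_smul, inv_mul_cancel₀ hd0] using (R l).smul_mem (sf P.S d d)⁻¹ h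
    have hcd : ∀ c, P.IsMid c → alt P.S c d ∈ R l := fun c hc => by
      have := (R l).sub_mem ((R l).smul_mem (sf P.S d c) hH') (pull c d hc hd hdR).1
      simpa using this
    have ho : ∀ c, P.IsMid c → alt P.S P.eo c ∈ R l := by
      intro c hc
      have h1 := move l (alt_cube P.S P.eo_iso hd.eo') (adj_alt _ _ _) _ _ (hcd c hc)
      rw [Std.alt_o_mid _ hc, Std.alt_o_mid _ hd, mulVec_smul, mulVec_smul, Std.alt_o_eo hd] at h1
      simp only [smul_zero, add_zero] at h1
      have h2 : sf P.S d d • alt P.S P.eo c ∈ R l := by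
        have h3 := (R l).add_mem ((R l).sub_mem (hcd c hc) h1) ((R l).smul_mem (sf P.S c d) hdR)
        convert h3 using 1
        simp only [alt_add_left, alt_add_right, alt_smul_left, alt_smul_right, alt_self, alt_swap P.S P.eo c]
        module
      simpa [smul_smul, inv_mul_cancel₀ hd0] using (R l).smul_mem (sf P.S d d)⁻¹ h2
    have hww : ∀ c, P.IsMid c → alt P.S P.ew c ∈ R l := by
      intro c hc
      have hwd : alt P.S P.ew d ∈ R l := by
        have h := (pull d d hd hd hdR).2
        rw [← sub_smul, show sf P.S d d - 2⁻¹ * sf P.S d d = 2⁻¹ * sf P.S d d by field_simp; ring] at h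
        exact ((R l).smul_mem_iff (mul_ne_zero (inv_ne_zero two) hd0)).mp h
      have h := (pull d c hd hc (ho c hc)).2
      have h2 : (2⁻¹ * sf P.S d d) • alt P.S P.ew c ∈ R l := by
        convert (R l).sub_mem ((R l).smul_mem (sf P.S c d) hwd) h using 1
        module
      exact ((R l).smul_mem_iff (mul_ne_zero (inv_ne_zero two) hd0)).mp h2
    have hcc : ∀ c z, P.IsMid c → P.IsMid z → alt P.S c z ∈ R l := fun c z hc hz => by
      have := (R l).sub_mem ((R l).smul_mem (sf P.S z c) hH') (pull c z hc hz (ho z hz)).1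
      simpa using this
    exact Std.skew_of_parts two (R l) hH' ho hww hcc hB
  -- the averaged map is the projection on the skew maps
  have hz : ∀ X, adj (powS P.S t) X = -X → avg H X = Phi X := by
    let adjL : Matrix (Fin t → Fin k) (Fin t → Fin k) F →ₗ[F] Matrix (Fin t → Fin k) (Fin t → Fin k) F :=
      { toFun := adj (powS P.S t), map_add' := adj_add _, map_smul' := adj_smul _ }
    have key : (defect H) ∘ₗ (LinearMap.id - adjL) = 0 := linearMap_ext_tens fun A => by
      let B : ℕ → Fin t → Matrix (Fin k) (Fin k) F := fun m j => if (j : ℕ) < m then adj P.S (A j) else A j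
      have hstep : ∀ m, m ≤ t → defect H (tens A - tens (B m)) = 0 := by
        intro m
        induction m with
        | zero =>
          intro _
          rw [show B 0 = A from funext fun j => by simp [B], sub_self, map_zero]
        | succ m ih =>
          intro hm
          let jm : Fin t := ⟨m, by omega⟩
          have e1 : B m = Function.update (B m) jm (A jm) := by
            conv_lhs => rw [← Function.update_eq_self jm (B m)]
            simp [B, jm]
          have e2 : B (m + 1) = Function.update (B m) jm (adj P.S (A jm)) := by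
            funext j
            rcases eq_or_ne j jm with rfl | hj
            · simp [B, jm]
            · have hj' : (j : ℕ) ≠ m := fun h => hj (Fin.ext h)
              rw [Function.update_of_ne hj]
              simp only [B]
              exact if_congr (by omega) rfl rfl
          have e3 : tens (B m) - tens (B (m + 1)) = tens (Function.update (B m) jm (A jm - adj P.S (A jm))) := by
            conv_lhs => rw [e1, e2]
            rw [sub_eq_iff_eq_add, ← tens_update_add, sub_add_cancel]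
          have e4 : defect H (tens (B m) - tens (B (m + 1))) = 0 := by
            rw [e3]
            exact hall jm _ (by rw [adj_sub, adj_adj, neg_sub]) _
          rw [← sub_add_sub_cancel (tens A) (tens (B m)) (tens (B (m + 1))), map_add, ih (by omega), e4, add_zero]
      have h := hstep t le_rfl
      rw [show B t = fun j => adj P.S (A j) from funext fun j => by simp [B, j.2], ← adj_tens] at h
      exact h
    intro X hX
    have h := LinearMap.congr_fun key X
    simp only [LinearMap.comp_apply, LinearMap.sub_apply, LinearMap.id_apply, LinearMap.zero_apply] at h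
    rw [show adjL X = -X from hX, sub_neg_eq_add, ← two_smul F X, map_smul] at h
    exact sub_eq_zero.mp ((smul_eq_zero.mp h).resolve_left two)
  intro g hg
  have hgO := Om_le_O _ two (hH hg)
  refine mem_wreath_of_alt hP ht (IsSim.of_mem hgO) fun i A hA => ?_
  obtain ⟨c0, c1⟩ := P.i2_ne
  set Q := (P.w P.i2)⁻¹ • rk P.S (Pi.single P.i2 (1 : F)) (Pi.single P.i2 1) with hQ
  have hQs : adj P.S Q = Q := by rw [hQ, adj_smul, adj_rk]
  have hQt : Q.trace = 1 := by
    rw [hQ, trace_smul, trace_rk, Std.sf_single_mid c0 c1, smul_eq_mul, inv_mul_cancel₀ (P.w_ne _)]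
  have hAt : A.trace = 0 := by
    have h1 : (adj P.S A).trace = A.trace := by
      simp only [Matrix.trace, Matrix.diag, adj, Matrix.of_apply]
      rw [← Equiv.sum_comp P.S.J]
      refine Finset.sum_congr rfl fun b _ => ?_
      rw [div_self (P.S.w_ne _), one_mul, P.S.inv]
    rw [hA, trace_neg] at h1
    exact (mul_eq_zero.mp (show (2 : F) * A.trace = 0 by linear_combination -h1)).resolve_left two
  set X := tens (Function.update (fun _ => Q) i A) with hX
  have hPhi : Phi X = slot i A := by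
    rw [hX, Phi_apply, Finset.sum_eq_single i]
    · rw [ptr_tens, Function.update_self, Finset.prod_eq_one (fun j _ => by rw [Function.update_of_ne j.2, hQt]),
        one_smul]
    · intro j _ hj
      rw [ptr_tens, Finset.prod_eq_zero (Finset.mem_univ (⟨i, Ne.symm hj⟩ : {l // l ≠ j}))
        (by rw [Function.update_self, hAt]), zero_smul, slot_zero']
    · simp
  have hXs : adj (powS P.S t) X = -X := by
    rw [hX, adj_tens, ← neg_one_smul F (tens _), ← tens_update_smul, neg_one_smul]
    congr 1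
    funext j
    rcases eq_or_ne j i with rfl | hj
    · simp [hA]
    · simp [Function.update_of_ne hj, hQs]
  refine ⟨fun j => ptr j (conjHom g X), ?_⟩
  rw [← conjHom_apply, ← hPhi, ← hz X hXs, ← avg_equivariant H hg, hz _ (by
    rw [conjHom_apply, adj_conj _ hgO, hXs, mul_neg, neg_mul]), Phi_apply]

end Cfsg.Agent.WreathO
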