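import Cfsg.Agent.WreathO.Tensor

/-!
A wreath element with cubic displacement of small rank fixes the factors (helper31).
-/

set_option autoImplicit false
set_option linter.unusedSectionVars false

namespace Cfsg.Agent.WreathO

open Matrix Cfsg.Agent.MaxSub Cfsg.Agent.MaxSub.Asch Cfsg.Agent.FG75.SpinTensor Cfsg.Agent.WreathMax

variable {F : Type*} [Field F] {k t : ℕ}

/-- The slots of a power of a wreath element. -/
def permProd (gs : Fin t → GL (Fin k) F) (σ : Equiv.Perm (Fin t)) : ℕ → Fin t → GL (Fin k) F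
  | 0 => 1
  | n + 1 => gs * fun i => permProd gs σ n (σ.symm i)

theorem wreath_pow (gs : Fin t → GL (Fin k) F) (σ : Equiv.Perm (Fin t)) (n : ℕ) :
    (tensGL gs * factorPerm σ : GL (Fin t → Fin k) F) ^ n =
      tensGL (permProd gs σ n) * factorPerm (σ ^ n) := by
  induction n with
  | zero => simp [permProd, factorPerm_one, tensGL_one]
  | succ n ih => rw [pow_succ', ih, wreath_mul, pow_succ' σ]; rfl

/-- Words along a cycle of prime length, up to shifting, have many non-maximal members. -/
theorem exists_movers (p k : ℕ) [hp : Fact p.Prime] (hp3 : 3 ≤ p) (hk : 3 ≤ k) (h : 5 ≤ p ∨ 4 ≤ k) :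
    ∃ Y : Finset (ZMod p → Fin k), 2 * k ^ (p - 1) < Y.card ∧
      ∀ x : ZMod p → Fin k, ∃ n ≤ p, (fun l : ZMod p => x (l - (n : ZMod p))) ∉ Y := by
  classical
  let e := Fintype.equivFin (ZMod p → Fin k)
  let sh : ZMod p → (ZMod p → Fin k) → ZMod p → Fin k := fun i x l => x (l - i)
  have sh_sh : ∀ i j x, sh i (sh j x) = sh (i + j) x := fun i j x => by
    funext l; show x (l - i - j) = x (l - (i + j)); rw [sub_sub]
  let Y := Finset.univ.filter fun x => ∃ i, e x < e (sh i x)
  refine ⟨Y, ?_, fun x => ?_⟩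
  · let C := Finset.univ.filter fun x : ZMod p → Fin k => ∀ a, x a = x 0
    let X := Finset.univ.filter fun x => (∀ i, e (sh i x) ≤ e x) ∧ ∃ a, x a ≠ x 0
    have hC : C.card ≤ k := by
      refine (Finset.card_le_card_of_injOn (fun x => x 0) (fun x _ => Finset.mem_univ _)
        fun x hx x' hx' hxx => ?_).trans (by simp)
      simp only [C, Finset.coe_filter, Finset.mem_univ, true_and, Set.mem_ofPred_eq] at hx hx'
      funext a
      rw [hx a, hx' a]
      exact hxx
    have hX : X.card * p ≤ k ^ p := by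
      have h1 := Finset.card_le_card_of_injOn (s := X ×ˢ (Finset.univ : Finset (ZMod p)))
        (t := (Finset.univ : Finset (ZMod p → Fin k))) (fun z => sh z.2 z.1)
        (fun z _ => Finset.mem_univ _) (by
          rintro ⟨x, i⟩ hx ⟨x', j⟩ hx' hxx
          simp only [X, Finset.coe_product, Finset.coe_filter, Finset.coe_univ, Finset.mem_univ,
            true_and, Set.mem_prod, Set.mem_ofPred_eq, Set.mem_univ, and_true] at hx hx'
          dsimp only at hxx
          have h1 : sh (-i + j) x' = x := by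
            rw [← sh_sh, ← hxx, sh_sh, neg_add_cancel]
            funext l; simp [sh]
          have h2 : sh (-j + i) x = x' := by
            rw [← sh_sh, hxx, sh_sh, neg_add_cancel]
            funext l; simp [sh]
          have hle1 := hx'.1 (-i + j)
          have hle2 := hx.1 (-j + i)
          rw [h1] at hle1
          rw [h2] at hle2
          obtain rfl : x = x' := e.injective (le_antisymm hle1 hle2)
          obtain ⟨a, ha⟩ := hx.2
          refine Prod.ext rfl ?_
          show i = j
          by_contra hij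
          have hd : -j + i ≠ 0 := fun h0 => hij (neg_add_eq_zero.mp h0).symm
          have hm : ∀ m : ℕ, sh ((m : ZMod p) * (-j + i)) x = x := by
            intro m
            induction m with
            | zero => funext l; simp [sh]
            | succ m ih =>
              rw [Nat.cast_succ, add_mul, one_mul, ← sh_sh, h2, ih]
          have := congrFun (hm ((a / (-j + i)).val)) a
          rw [ZMod.natCast_rightInverse _, div_mul_cancel₀ _ hd] at this
          simp only [sh, sub_self] at this
          exact ha this.symm)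
      simpa [Finset.card_product, ZMod.card] using h1
    have hsplit : k ^ p ≤ Y.card + X.card + C.card := by
      have : (Finset.univ : Finset (ZMod p → Fin k)) ⊆ Y ∪ X ∪ C := by
        intro x _
        simp only [Y, X, C, Finset.mem_union, Finset.mem_filter, Finset.mem_univ, true_and]
        by_cases h1 : ∃ i, e x < e (sh i x)
        · exact Or.inl (Or.inl h1)
        push Not at h1
        by_cases h2 : ∀ a, x a = x 0
        · exact Or.inr h2
        push Not at h2
        exact Or.inl (Or.inr ⟨h1, h2⟩)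
      have h1 := (Finset.card_le_card this).trans ((Finset.card_union_le _ _).trans
        (Nat.add_le_add_right (Finset.card_union_le _ _) _))
      simpa [ZMod.card] using h1
    obtain ⟨q, rfl⟩ : ∃ q, p = q + 2 := ⟨p - 2, by omega⟩
    have hq : q + 1 ≤ k ^ q := Nat.lt_pow_self (by omega)
    have hb : 2 * (q + 2) + 2 ≤ (q + 1) * k := by
      rcases h with h | h <;> nlinarith
    have e1 : k ^ (q + 2) = k ^ q * k * k := by rw [pow_succ, pow_succ]
    have e2 : k ^ (q + 2 - 1) = k ^ q * k := by
      rw [show q + 2 - 1 = q + 1 by omega, pow_succ]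
    rw [e2]
    rw [e1] at hX hsplit
    nlinarith [Nat.mul_le_mul_left (k ^ q * k) hb, Nat.mul_le_mul_right k hq,
      Nat.mul_le_mul_left (q + 2) hsplit, Nat.mul_le_mul_left (q + 2) hC]
  · obtain ⟨i, hi⟩ := Finite.exists_max fun i => e (sh i x)
    refine ⟨i.val, (ZMod.val_lt i).le, ?_⟩
    rw [ZMod.natCast_rightInverse i]
    simp only [Y, Finset.mem_filter, Finset.mem_univ, true_and, not_exists, not_lt]
    intro j
    exact (show e (sh j (sh i x)) ≤ e (sh i x) by rw [sh_sh]; exact hi _)

/-- Cubic displacement of small rank forces the trivial permutation of the factors. -/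
theorem perm_trivial {F : Type*} [Field F] [Fintype F] {k t : ℕ} (hk : 3 ≤ k) (two : (2 : F) ≠ 0)
    {gs : Fin t → GL (Fin k) F} {σ : Equiv.Perm (Fin t)}
    (h3 : ((tensGL gs * factorPerm σ : GL (Fin t → Fin k) F).val - 1) *
      ((tensGL gs * factorPerm σ : GL (Fin t → Fin k) F).val - 1) *
      ((tensGL gs * factorPerm σ : GL (Fin t → Fin k) F).val - 1) = 0)
    (hr : ((tensGL gs * factorPerm σ : GL (Fin t → Fin k) F).val - 1).rank ≤ 2 * k ^ (t - 1))
    (hc : (3 : F) ≠ 0 ∨ 4 ≤ k) : σ = 1 := by
  classical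
  set w : GL (Fin t → Fin k) F := tensGL gs * factorPerm σ with hw
  obtain ⟨p, hchar⟩ := CharP.exists F
  have hp : Fact p.Prime := ⟨(CharP.char_is_prime_or_zero F p).resolve_right fun h => by
    subst h; exact CharP.char_ne_zero_of_finite F 0 rfl⟩
  have hp2 : p ≠ 2 := fun h => two (by
    subst h
    simpa using CharP.cast_eq_zero F 2)
  have hp3 : 3 ≤ p := by have := hp.out.two_le; omega
  have h54 : 5 ≤ p ∨ 4 ≤ k := hc.imp_left fun h => by
    have hne3 : p ≠ 3 := fun e => h (by subst e; simpa using CharP.cast_eq_zero F 3)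
    have hne4 : p ≠ 4 := fun e => by subst e; exact absurd hp.out (by norm_num)
    omega
  have : Nonempty (Fin k) := ⟨⟨0, by omega⟩⟩
  have hwp : w ^ p = 1 := by
    refine Units.ext ?_
    have hN : ((w : Matrix (Fin t → Fin k) (Fin t → Fin k) F) - 1) ^ p = 0 :=
      pow_eq_zero_of_le hp3 (by rw [pow_succ, pow_two]; exact h3)
    rw [Units.val_pow_eq_pow_val, Units.val_one,
      show (w : Matrix (Fin t → Fin k) (Fin t → Fin k) F) = (w.val - 1) + 1 by rw [sub_add_cancel],
      add_pow_char_of_commute (p := p) (Commute.one_right _), hN, one_pow, zero_add]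
  have hpow := wreath_pow gs σ p
  rw [← hw, hwp] at hpow
  have hσp : σ ^ p = 1 := (perm_unique (show 2 ≤ k by omega) (a := 1)
    (b := permProd gs σ p) (σ := (1 : Equiv.Perm (Fin t))) (by
      rw [factorPerm_one, tensGL_one, one_mul]; exact hpow)).symm
  rw [hσp, factorPerm_one, mul_one] at hpow
  have hsc : ∀ j, ∃ s : F, (permProd gs σ p j : Matrix (Fin k) (Fin k) F) = s • 1 := fun j => by
    obtain ⟨c, -, hc⟩ := tens_eq_one_imp (congrArg Units.val hpow.symm) j
    exact ⟨c, hc⟩
  by_contra hne
  obtain ⟨k₀, hk₀⟩ : ∃ a, σ a ≠ a := by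
    by_contra h
    push Not at h
    exact hne (Equiv.ext h)
  -- the cycle
  let c : ZMod p → Fin t := fun i => (σ ^ i.val) k₀
  have hpw : ∀ m : ℕ, σ ^ (m % p) = σ ^ m := fun m => (pow_eq_pow_mod m hσp).symm
  have cS : ∀ i, c (i + 1) = σ (c i) := fun i => by
    show (σ ^ (i + 1).val) k₀ = σ ((σ ^ i.val) k₀)
    rw [ZMod.val_add, ZMod.val_one, hpw, pow_succ', Equiv.Perm.mul_apply]
  have cP : ∀ i, σ.symm (c i) = c (i - 1) := fun i => by
    rw [Equiv.symm_apply_eq, ← cS, sub_add_cancel]
  have cN : ∀ (i : ZMod p) (n : ℕ), c (i + n) = (σ ^ n) (c i) := by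
    intro i n
    induction n with
    | zero => simp
    | succ n ih => rw [Nat.cast_succ, ← add_assoc, cS, ih, pow_succ', Equiv.Perm.mul_apply]
  have hcinj : Function.Injective c := by
    intro i j hij
    by_contra hd
    have hd' : j - i ≠ 0 := sub_ne_zero.mpr (Ne.symm hd)
    have hm : ∀ m : ℕ, c (i + (m : ZMod p) * (j - i)) = c i := by
      intro m
      induction m with
      | zero => simp
      | succ m ih =>
        rw [Nat.cast_succ, add_mul, one_mul, ← ZMod.natCast_rightInverse (j - i), ← add_assoc, cN,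
          ZMod.natCast_rightInverse, ih, ← cN, ZMod.natCast_rightInverse, add_sub_cancel, hij]
    have h1 := hm ((1 : ZMod p) / (j - i)).val
    rw [ZMod.natCast_rightInverse _, div_mul_cancel₀ _ hd', cS] at h1
    have h2 := cN i (-i).val
    rw [ZMod.natCast_rightInverse _, add_neg_cancel] at h2
    have h3 : σ (c 0) = c 0 := by
      rw [h2, ← Equiv.Perm.mul_apply, ← pow_succ', pow_succ, Equiv.Perm.mul_apply, h1]
    exact hk₀ (by simpa [c] using h3)
  -- normalisation
  let Q : Fin t → GL (Fin k) F := Function.extend c (fun i => permProd gs σ i.val (c i)) 1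
  have hQ : ∀ i, Q (c i) = permProd gs σ i.val (c i) := fun i => hcinj.extend_apply _ _ i
  let g' : Fin t → GL (Fin k) F := fun j => (Q j)⁻¹ * gs j * Q (σ.symm j)
  have hg' : ∀ i, ∃ s : F, (g' (c i) : Matrix (Fin k) (Fin k) F) = s • 1 := by
    intro i
    show ∃ s : F, (((Q (c i))⁻¹ * gs (c i) * Q (σ.symm (c i)) : GL (Fin k) F) :
      Matrix (Fin k) (Fin k) F) = s • 1
    rw [cP, hQ, hQ]
    by_cases hi : i = 0
    · subst hi
      obtain ⟨s, hs⟩ := hsc (c 0)
      refine ⟨s, ?_⟩
      have hv : ((0 : ZMod p) - 1).val + 1 = p := by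
        obtain ⟨q, rfl⟩ : ∃ q, p = q + 1 := ⟨p - 1, by omega⟩
        rw [zero_sub, ZMod.val_neg_one]
      rw [ZMod.val_zero, show permProd gs σ 0 (c 0) = 1 from rfl, inv_one, one_mul]
      have hs' : (gs (c 0) * permProd gs σ ((0 : ZMod p) - 1).val (σ.symm (c 0)) :
          GL (Fin k) F).val = s • 1 :=
        (congrArg (fun m => (permProd gs σ m (c 0) : Matrix (Fin k) (Fin k) F)) hv).trans hs
      rwa [cP] at hs'
    · refine ⟨1, ?_⟩
      have h0 : i.val ≠ 0 := fun h => hi ((ZMod.val_eq_zero i).mp h)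
      obtain ⟨m, hm⟩ : ∃ m, i.val = m + 1 := ⟨i.val - 1, by omega⟩
      have hv : (i - 1).val = m := by
        rw [ZMod.val_sub (by rw [ZMod.val_one]; omega), ZMod.val_one]; omega
      rw [hm, hv, show permProd gs σ (m + 1) (c i) = gs (c i) * permProd gs σ m (σ.symm (c i)) from rfl,
        cP, _root_.mul_inv_rev, mul_assoc, mul_assoc, inv_mul_cancel_left, inv_mul_cancel, Units.val_one,
        one_smul]
  set G : GL (Fin t → Fin k) F := (tensGL Q)⁻¹ * w * tensGL Q with hG
  have hGe : G = tensGL g' * factorPerm σ := by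
    have hi : (tensGL Q)⁻¹ = (tensGL fun j => (Q j)⁻¹ : GL (Fin t → Fin k) F) :=
      (map_inv (tensHom k t F) Q).symm
    rw [hG, hw, hi, mul_assoc, mul_assoc (tensGL gs), factorPerm_mul_tensGL, ← mul_assoc (tensGL gs),
      tensGL_mul, ← mul_assoc, tensGL_mul]
    congr 2
    funext j
    simp [g', mul_assoc]
  have key : ∀ z y, G.val z y ≠ 0 → ∀ i, z (c i) = y (c (i - 1)) := by
    intro z y hzy i
    rw [hGe, wreath_apply, Finset.prod_ne_zero_iff] at hzy
    have h := hzy (c i) (Finset.mem_univ _)
    obtain ⟨s, hs⟩ := hg' i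
    rw [hs, cP] at h
    by_contra hne'
    simp [hne'] at h
  have hrG : (G.val - 1).rank ≤ 2 * k ^ (t - 1) := by
    have h := ClMax99.TensorRank.rank_conj (tensGL Q)⁻¹ w.val 1
    rw [inv_inv, one_smul] at h
    rw [hG, Units.val_mul, Units.val_mul ((tensGL Q)⁻¹), h]
    exact hr
  -- the triangular submatrix
  obtain ⟨Y, hYc, hY⟩ := exists_movers p k hp3 hk h54
  let E : ZMod p ⊕ {j : Fin t // j ∉ Set.range c} ≃ Fin t :=
    ((Equiv.ofInjective c hcinj).sumCongr (Equiv.refl _)).trans (Equiv.Set.sumCompl (Set.range c))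
  have hE : ∀ i, E (Sum.inl i) = c i := fun i => rfl
  let φ : {x // x ∈ Y} × ({j : Fin t // j ∉ Set.range c} → Fin k) → Fin t → Fin k := fun z j => Sum.elim z.1.1 z.2 (E.symm j)
  have hφc : ∀ z i, φ z (c i) = z.1.1 i := fun z i => by
    simp [φ, ← hE i]
  have hφ : Function.Injective φ := fun z z' h => by
    refine Prod.ext (Subtype.ext (funext fun i => ?_)) (funext fun r => ?_)
    · rw [← hφc z i, h, hφc]
    · simpa [φ] using congrFun h (E (Sum.inr r))
  letI : DecidableEq ({x // x ∈ Y} × ({j : Fin t // j ∉ Set.range c} → Fin k)) :=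
    Classical.decEq _
  set B := G.val.submatrix φ φ with hB
  have hnil : ∀ (n : ℕ) z y, (B ^ n) z y ≠ 0 →
      (∀ l, z.1.1 l = y.1.1 (l - (n : ZMod p))) ∧
        ∀ m ≤ n, (fun l => y.1.1 (l - (m : ZMod p))) ∈ Y := by
    intro n
    induction n with
    | zero =>
      intro z y h
      rw [pow_zero, Matrix.one_apply] at h
      obtain rfl : z = y := by by_contra hzy; simp [hzy] at h
      refine ⟨by simp, fun m hm => ?_⟩
      obtain rfl : m = 0 := by omega
      simp
    | succ n ih =>
      intro z y h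
      rw [pow_succ', Matrix.mul_apply] at h
      obtain ⟨u, -, hu⟩ := Finset.exists_ne_zero_of_sum_ne_zero h
      obtain ⟨h1, h2⟩ := ih u y (right_ne_zero_of_mul hu)
      have h3 : ∀ l, z.1.1 l = y.1.1 (l - ((n + 1 : ℕ) : ZMod p)) := fun l => by
        rw [← hφc z l, key _ _ (left_ne_zero_of_mul hu) l, hφc, h1]
        exact congrArg y.1.1 (by push_cast; ring)
      refine ⟨h3, fun m hm => ?_⟩
      rcases Nat.lt_or_eq_of_le hm with hm | rfl
      · exact h2 m (by omega)
      · rw [← funext h3]; exact z.1.2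
  have hBp : IsNilpotent B := by
    refine ⟨p, Matrix.ext fun z y => ?_⟩
    by_contra h
    obtain ⟨n, hn, hn'⟩ := hY y.1.1
    exact hn' ((hnil p z y h).2 n hn)
  have hsub : (G.val - 1).submatrix φ φ = B - 1 := by
    rw [Matrix.submatrix_sub, hB]
    show _ - (1 : Matrix (Fin t → Fin k) (Fin t → Fin k) F).submatrix φ φ = _
    rw [Matrix.submatrix_one φ hφ]
  have hle := Matrix.rank_submatrix_le (G.val - 1) φ φ
  rw [hsub, Matrix.rank_of_isUnit _ hBp.isUnit_sub_one] at hle
  have hcard : Fintype.card ({x // x ∈ Y} × ({j : Fin t // j ∉ Set.range c} → Fin k)) = Y.card * k ^ Fintype.card {j : Fin t // j ∉ Set.range c} := by simp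
  have ht : t = p + Fintype.card {j : Fin t // j ∉ Set.range c} := by
    have := Fintype.card_congr E
    rw [Fintype.card_sum, ZMod.card, Fintype.card_fin] at this
    omega
  have := hle.trans hrG
  rw [hcard, show t - 1 = p - 1 + Fintype.card {j : Fin t // j ∉ Set.range c} by omega, pow_add, ← mul_assoc] at this
  have := Nat.le_of_mul_le_mul_right this (pow_pos (by omega) _)
  omega

end Cfsg.Agent.WreathO
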