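import Cfsg.Agent.WreathO.Defs
import Cfsg.Agent.WreathO.Perm
import Cfsg.Agent.WreathMax.SlotRank
import Cfsg.Agent.WreathMax.Stab

/-!
Factors of dimension three in characteristic three: images of slot roots with their root group in the
stabiliser are slot roots, and outside elements move the roots out of the stabiliser (helper50).
-/

set_option autoImplicit false
set_option linter.unusedSectionVars false

namespace Cfsg.Agent.WreathO

open Matrix Cfsg.Agent.MaxSub Cfsg.Agent.MaxSub.Asch Cfsg.Agent.FG75.SpinTensor Cfsg.Agent.WreathMax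

variable {F : Type*} [Field F]

/-- A combination with powers lying in a subspace for five scalars has all coefficients there. -/
theorem coeff_mem {V : Type*} [AddCommGroup V] [Module F V] (S : Submodule F V) (e : Fin 5 → V) (C : Finset F)
    (hC : 5 ≤ C.card) (h : ∀ c ∈ C, ∑ n : Fin 5, c ^ (n : ℕ) • e n ∈ S) (n : Fin 5) : e n ∈ S := by
  classical
  obtain ⟨v⟩ := Function.Embedding.nonempty_of_card_le (α := Fin 5) (β := C) (by simpa using hC)
  set M := Matrix.vandermonde fun m => (v m : F) with hMdef
  have hM : IsUnit M.det :=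
    (Matrix.det_vandermonde_ne_zero_iff.mpr (Subtype.val_injective.comp v.injective)).isUnit
  have e1 : e n = ∑ m, M⁻¹ n m • ∑ j, M m j • e j := by
    simp only [Finset.smul_sum, smul_smul]
    rw [Finset.sum_comm]
    simp only [← Finset.sum_smul, ← Matrix.mul_apply, Matrix.nonsing_inv_mul _ hM, Matrix.one_apply, ite_smul,
      one_smul, zero_smul, Finset.sum_ite_eq, Finset.mem_univ, if_true]
  rw [e1]
  refine S.sum_mem fun m _ => S.smul_mem _ ?_
  simpa [hMdef, Matrix.vandermonde] using h _ (v m).2

/-- The coefficients of the conjugate by an exponential. -/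
def conjCoef {R : Type*} [Ring R] [Algebra F R] (h : F) (N Y : R) : Fin 5 → R :=
  ![Y, N * Y - Y * N, h • (N * N * Y + Y * (N * N)) - N * Y * N, h • (N * Y * (N * N) - N * N * Y * N),
    (h * h) • (N * N * Y * (N * N))]

/-- The product of a square sandwich of commuting summands. -/
theorem split_expand {A : Type*} [Ring A] {S R Y : A} (hS : R * S = S * R) (hY : R * Y = Y * R)
    (h3 : R * R * R = 0) :
    (S + R) * (S + R) * Y * ((S + R) * (S + R)) =
      S * S * Y * (S * S) + ((S * S * Y * S + S * Y * (S * S)) + (S * S * Y * S + S * Y * (S * S))) * R +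
        (S * S * Y + Y * (S * S) + (S * Y * S + S * Y * S) + (S * Y * S + S * Y * S)) * (R * R) := by
  have hS' : ∀ z, R * (S * z) = S * (R * z) := fun z => by rw [← mul_assoc, hS, mul_assoc]
  have hY' : ∀ z, R * (Y * z) = Y * (R * z) := fun z => by rw [← mul_assoc, hY, mul_assoc]
  have h3' : R * (R * R) = 0 := by rw [← mul_assoc, h3]
  have h4 : ∀ z, R * (R * (R * z)) = 0 := fun z => by rw [← mul_assoc, ← mul_assoc, h3, zero_mul]
  simp only [mul_add, add_mul, mul_assoc, hS, hS', hY, hY', h3', h4, mul_zero, add_zero]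
  abel

section General

variable {ι : Type} [Fintype ι] [DecidableEq ι]

theorem expU_conj (two : (2 : F) ≠ 0) {N : Matrix ι ι F} (h : N * N * N = 0) (c : F) (Y : Matrix ι ι F) :
    (expU two (c • N)).val * Y * (expU two ((-c) • N)).val =
      ∑ n : Fin 5, c ^ (n : ℕ) • conjCoef (2 : F)⁻¹ N Y n := by
  have hc : ∀ b : F, (b • N) * (b • N) * (b • N) = 0 := fun b => by
    simp only [Matrix.smul_mul, Matrix.mul_smul, h, smul_zero]
  rw [expU_coe two (hc c), expU_coe two (hc (-c))]
  simp only [Fin.sum_univ_five, conjCoef, Matrix.cons_val, mul_add, add_mul, one_mul, mul_one, Matrix.smul_mul,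
    Matrix.mul_smul, smul_smul, mul_assoc, smul_sub, smul_add]
  simp only [Fin.val_zero, Fin.val_one, Fin.val_two, show ((3 : Fin 5) : ℕ) = 3 from rfl,
    show ((4 : Fin 5) : ℕ) = 4 from rfl]
  match_scalars <;> ring

variable (S : Sform ι F)

theorem alt_ne_zero {x d : ι → F} (h : IsRoot S x d) : alt S x d ≠ 0 := fun e => by
  obtain ⟨z, hz⟩ := exists_pair S h.ne0
  have h1 := congrArg (· *ᵥ z) e
  simp only [alt_mulVec, zero_mulVec, sf_symm S z x, hz, one_smul, sub_eq_zero] at h1
  exact h.aniso (by rw [← h1, sf_smul_left, sf_smul_right, h.iso, mul_zero, mul_zero])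

/-- A cubically nilpotent skew map in dimension three is the skew map of a root, and its kernel is the
image of its square. -/
theorem root_of_cube (hι : Fintype.card ι = 3) (two : (2 : F) ≠ 0) {K : Matrix ι ι F} (hK : adj S K = -K)
    (h3 : K * K * K = 0) (h0 : K ≠ 0) :
    K * K ≠ 0 ∧ (∃ y e, IsRoot S y e ∧ K = alt S y e) ∧
      ∃ X Y : Matrix ι ι F, X * K + K * K * Y = 1 := by
  classical
  have fK : ∀ a b, sf S (K *ᵥ a) b = -sf S a (K *ᵥ b) := fun a b => by
    rw [adj_mulVec, hK, neg_mulVec, sf_neg_right]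
  have fK0 : ∀ a, sf S (K *ᵥ a) a = 0 := fun a => by
    have h := fK a a
    rw [sf_symm S a] at h
    exact (mul_eq_zero.mp (show (2 : F) * sf S (K *ᵥ a) a = 0 by linear_combination h)).resolve_left two
  have hsq : K * K ≠ 0 := by
    intro hsq
    obtain ⟨v, hv⟩ : ∃ v, K *ᵥ v ≠ 0 := by
      by_contra hc
      push Not at hc
      exact h0 (Matrix.ext_of_mulVec_single fun b => by rw [hc, zero_mulVec])
    have hr := Matrix.rank_add_rank_le_card_of_mul_eq_zero hsq
    rw [hι] at hr
    have hle : Submodule.span F {K *ᵥ v} ≤ LinearMap.range (Matrix.mulVecLin K) := by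
      rw [Submodule.span_singleton_le_iff_mem]; exact ⟨v, rfl⟩
    have hline := Submodule.eq_of_le_of_finrank_le hle (by
      rw [finrank_span_singleton hv]; change K.rank ≤ 1; omega)
    obtain ⟨x₀, hx₀⟩ := exists_pair S hv
    have hmem : K *ᵥ x₀ ∈ Submodule.span F {K *ᵥ v} := hline ▸ ⟨x₀, rfl⟩
    obtain ⟨c, hc⟩ := Submodule.mem_span_singleton.mp hmem
    have hc0 : c = 0 := by
      have := fK0 x₀
      rwa [← hc, sf_smul_left, hx₀, mul_one] at this
    have := fK0 (v + x₀)
    rw [mulVec_add, ← hc, hc0, zero_smul, add_zero, sf_add_right, fK0 v, hx₀, zero_add] at this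
    exact one_ne_zero this
  obtain ⟨v, hv⟩ : ∃ v, (K * K) *ᵥ v ≠ 0 := by
    by_contra hc
    push Not at hc
    exact hsq (Matrix.ext_of_mulVec_single fun b => by rw [hc, zero_mulVec])
  rw [← mulVec_mulVec] at hv
  set p := K *ᵥ v with hp
  set y := K *ᵥ p with hy
  have hKy : K *ᵥ y = 0 := by
    rw [hy, hp, mulVec_mulVec, mulVec_mulVec, h3, zero_mulVec]
  have hli : LinearIndependent F ![v, p, y] := by
    rw [Fintype.linearIndependent_iff]
    intro a ha
    simp only [Fin.sum_univ_three, Matrix.cons_val] at ha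
    have h1 := congrArg (fun z => K *ᵥ (K *ᵥ z)) ha
    simp only [mulVec_add, mulVec_smul, mulVec_zero, ← hp, ← hy, hKy, smul_zero, add_zero] at h1
    have a0 := (smul_eq_zero.mp h1).resolve_right hv
    rw [a0, zero_smul, zero_add] at ha
    have h2 := congrArg (fun z => K *ᵥ z) ha
    simp only [mulVec_add, mulVec_smul, mulVec_zero, ← hy, hKy, smul_zero, add_zero] at h2
    have a1 := (smul_eq_zero.mp h2).resolve_right hv
    rw [a1, zero_smul, zero_add] at ha
    have a2 := (smul_eq_zero.mp ha).resolve_right hv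
    intro j
    fin_cases j <;> assumption
  have hcard : Fintype.card (Fin 3) = Module.finrank F (ι → F) := by
    rw [Module.finrank_fintype_fun_eq_card, hι, Fintype.card_fin]
  let B := basisOfLinearIndependentOfCardEqFinrank hli hcard
  have hB : ∀ j, B j = ![v, p, y] j := fun j => by simp [B]
  have hext : ∀ A A' : Matrix ι ι F, A *ᵥ v = A' *ᵥ v → A *ᵥ p = A' *ᵥ p → A *ᵥ y = A' *ᵥ y → A = A' := by
    intro A A' h1 h2 h4
    refine Matrix.toLin'.injective (B.ext fun j => ?_)
    rw [Matrix.toLin'_apply, Matrix.toLin'_apply, hB]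
    fin_cases j <;> assumption
  set c := sf S p p with hc
  have hyv : sf S y v = -c := by rw [hy, fK, ← hp]
  have hyp : sf S y p = 0 := fK0 p
  have hyy : sf S y y = 0 := by
    rw [show sf S y y = sf S (K *ᵥ p) y from rfl, fK, hKy, sf_zero_right, neg_zero]
  have hc0 : c ≠ 0 := fun hc' => by
    obtain ⟨z, hz⟩ := exists_pair S hv
    rw [← B.sum_repr z] at hz
    simp only [Fin.sum_univ_three, hB, Matrix.cons_val, sf_add_right, sf_smul_right, hyv, hc', hyp, hyy,
      neg_zero, mul_zero, add_zero] at hz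
    exact zero_ne_one hz
  refine ⟨hsq, ⟨y, c⁻¹ • p, ⟨hyy, by rw [sf_smul_right, hyp, mul_zero], ?_, hv⟩, ?_⟩, ?_⟩
  · rw [sf_smul_left, sf_smul_right, ← hc, inv_mul_cancel₀ hc0, mul_one]
    exact inv_ne_zero hc0
  · refine hext _ _ ?_ ?_ ?_
    · rw [alt_mulVec, sf_smul_right, sf_symm S v p, fK0 v, sf_symm S v y, hyv, mul_zero, zero_smul, zero_sub,
        smul_smul, neg_mul, mul_inv_cancel₀ hc0, neg_smul, one_smul, neg_neg]
    · rw [alt_mulVec, sf_smul_right, ← hc, inv_mul_cancel₀ hc0, one_smul, sf_symm S p y, hyp, zero_smul,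
        sub_zero]
    · rw [alt_mulVec, sf_smul_right, hyp, hyy, mul_zero, zero_smul, zero_smul, sub_zero, hKy]
  · refine ⟨LinearMap.toMatrix' (B.constr F ![0, v, p]), LinearMap.toMatrix' (B.constr F ![0, 0, v]), ?_⟩
    have hX : ∀ j (f : Fin 3 → ι → F), LinearMap.toMatrix' (B.constr F f) *ᵥ ![v, p, y] j = f j := fun j f => by
      rw [LinearMap.toMatrix'_mulVec, ← hB, B.constr_basis]
    have x0 := fun f => hX 0 f
    have x1 := fun f => hX 1 f
    have x2 := fun f => hX 2 f
    simp only [Matrix.cons_val] at x0 x1 x2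
    refine hext _ _ ?_ ?_ ?_ <;>
      simp only [add_mulVec, ← mulVec_mulVec, ← hp, ← hy, hKy, x0, x1, x2, Matrix.cons_val, mulVec_zero,
        one_mulVec, add_zero, zero_add]

end General

variable {k t : ℕ}

theorem three_card [Fintype F] {P : Std k F} (hP : P.Good) (hk3 : k = 3) (h30 : (3 : F) = 0) :
    9 ≤ Fintype.card F := by
  obtain ⟨p, hp⟩ := CharP.exists F
  obtain ⟨n, hpp, hn⟩ := FiniteField.card F p
  have h3 : p = 3 :=
    (Nat.prime_dvd_prime_iff_eq hpp Nat.prime_three).mp ((CharP.cast_eq_zero_iff F p 3).mp (by exact_mod_cast h30))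
  rw [hn, h3]
  have h2 : 2 ≤ (n : ℕ) := by
    by_contra hc
    have h1 : (n : ℕ) = 1 := by have := n.pos; omega
    exact hP.hex ⟨by rw [Nat.card_eq_fintype_card, hn, h3, h1, pow_one], hk3⟩
  calc 9 = 3 ^ 2 := by norm_num
    _ ≤ 3 ^ (n : ℕ) := Nat.pow_le_pow_right (by norm_num) h2

/-- Moving a slot past an element of the stabiliser. -/
theorem wreath_mul_slot (gs : Fin t → GL (Fin k) F) (σ : Equiv.Perm (Fin t)) (i : Fin t)
    (A : Matrix (Fin k) (Fin k) F) :
    (tensGL gs * factorPerm σ : GL (Fin t → Fin k) F).val * slot i A =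
      slot (σ i) ((gs (σ i)).val * A * ((gs (σ i))⁻¹).val) * (tensGL gs * factorPerm σ : GL (Fin t → Fin k) F).val := by
  rw [Units.val_mul, mul_assoc, factorPerm_mul_slot, ← mul_assoc, ← mul_assoc]
  congr 1
  show tens (fun l => (gs l).val) * slot (σ i) A = slot (σ i) _ * tens (fun l => (gs l).val)
  rw [slot_mul_tens, tens_mul_slot]
  congr 1
  funext l
  rcases eq_or_ne l (σ i) with rfl | hl
  · simp
  · simp [Function.update_of_ne hl]

/-- A slot kills a map commuting with it only if one of them vanishes. -/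
theorem slot_mul_eq_zero {a : Fin t} {U : Matrix (Fin k) (Fin k) F} {X : Matrix (Fin t → Fin k) (Fin t → Fin k) F}
    (hX : ∀ M, slot a M * X = X * slot a M) (h : slot a U * X = 0) : U = 0 ∨ X = 0 := by
  classical
  refine or_iff_not_imp_left.mpr fun hU => ?_
  obtain ⟨u, v, huv⟩ : ∃ u v, U u v ≠ 0 := by
    by_contra hc
    push Not at hc
    exact hU (Matrix.ext hc)
  have h1 : ∀ p, slot a (Matrix.single p p (1 : F)) * X = 0 := fun p => by
    have e : Matrix.single p p (1 : F) = (U u v)⁻¹ • (Matrix.single p u 1 * U * Matrix.single v p 1) := by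
      rw [Matrix.single_mul_mul_single, Matrix.smul_single, one_mul, mul_one, smul_eq_mul, inv_mul_cancel₀ huv]
    rw [e, slot_smul', slot_mul', slot_mul', smul_mul_assoc, mul_assoc (slot a _ * slot a U), hX, ← mul_assoc,
      mul_assoc (slot a _) (slot a U), h, mul_zero, zero_mul, smul_zero]
  have h2 : (1 : Matrix (Fin k) (Fin k) F) = ∑ p, Matrix.single p p 1 := by
    ext a b
    simp [Matrix.sum_apply, Matrix.single_apply, Matrix.one_apply, ite_and]
  rw [← one_mul X, ← slot_one' a, h2, slot_sum', Finset.sum_mul]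
  exact Finset.sum_eq_zero fun p _ => h1 p

/-- A derivation of a matrix algebra is inner. -/
theorem exists_inner (hk : 0 < k) (D : Matrix (Fin k) (Fin k) F → Matrix (Fin k) (Fin k) F)
    (hadd : ∀ A B, D (A + B) = D A + D B) (hsmul : ∀ (c : F) A, D (c • A) = c • D A)
    (hmul : ∀ A B, D (A * B) = D A * B + A * D B) : ∃ L, ∀ X, D X = L * X - X * L := by
  classical
  let z : Fin k := ⟨0, hk⟩
  let φ : Matrix (Fin k) (Fin k) F →ₗ[F] Matrix (Fin k) (Fin k) F :=
    { toFun := D, map_add' := hadd, map_smul' := hsmul }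
  refine ⟨∑ a, D (Matrix.single a z 1) * Matrix.single z a 1, fun X => ?_⟩
  have e1 : ∀ a, X * Matrix.single a z (1 : F) = ∑ b, X b a • Matrix.single b z 1 := fun a => by
    ext i j
    rcases eq_or_ne j z with rfl | hj
    · simp [Matrix.sum_apply, Matrix.smul_apply, Matrix.single_apply]
    · simp [Matrix.sum_apply, Matrix.smul_apply, Matrix.single_apply, hj, Ne.symm hj, Matrix.mul_apply]
  have e2 : ∀ b, (∑ a, X b a • Matrix.single z a (1 : F)) = Matrix.single z b 1 * X := fun b => by
    ext i j
    rcases eq_or_ne i z with rfl | hi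
    · simp [Matrix.sum_apply, Matrix.smul_apply, Matrix.single_apply]
    · simp [Matrix.sum_apply, Matrix.smul_apply, Matrix.single_apply, hi, Ne.symm hi, Matrix.mul_apply]
  have e3 : ∑ a, Matrix.single a z (1 : F) * Matrix.single z a 1 = 1 := by
    ext i j
    simp [Matrix.sum_apply, Matrix.single_apply, Matrix.one_apply, ite_and]
  have e4 : ∑ a, D (X * Matrix.single a z 1) * Matrix.single z a 1 =
      (∑ a, D (Matrix.single a z 1) * Matrix.single z a 1) * X := by
    have : ∀ a, D (X * Matrix.single a z 1) = ∑ b, X b a • D (Matrix.single b z 1) := fun a => by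
      rw [e1]
      exact (map_sum φ _ _).trans (Finset.sum_congr rfl fun b _ => map_smul φ _ _)
    simp only [this, Finset.sum_mul, mul_assoc, ← e2, Matrix.smul_mul, Finset.mul_sum, Matrix.mul_smul]
    exact Finset.sum_comm
  have e5 : X * (∑ a, D (Matrix.single a z 1) * Matrix.single z a 1) =
      (∑ a, D (X * Matrix.single a z 1) * Matrix.single z a 1) - D X := by
    rw [eq_sub_iff_add_eq]
    conv_lhs => arg 2; rw [← mul_one (D X), ← e3]
    simp only [Finset.mul_sum, hmul, add_mul, Finset.sum_add_distrib, mul_assoc]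
    abel
  rw [e5, e4]
  abel

variable [Fintype F] {P : Std k F}

/-- In dimension three and characteristic three the image of a slot root whose root group stays in the
stabiliser is a slot root. -/
theorem root_image_three (hP : P.Good) (hk3 : k = 3) (h30 : (3 : F) = 0) (_ht : 1 ≤ t)
    {g : GL (Fin t → Fin k) F} (hg : IsSim (powS P.S t) g) {i : Fin t} {x d : Fin k → F} (h : IsRoot P.S x d)
    (hW : ∀ c : F, c ≠ 0 → g * sRoot P.S hP.two i x (c • d) * g⁻¹ ∈ Geo.tensorWreathStandard k t F) :
    ∃ j y e, IsRoot P.S y e ∧ g.val * slot i (alt P.S x d) * g⁻¹.val = slot j (alt P.S y e) := by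
  classical
  have two := hP.two
  have hk : 0 < k := by omega
  have hq : 5 ≤ (Finset.univ : Finset F).card := by
    have := three_card hP hk3 h30; rw [Finset.card_univ]; omega
  set N := slot i (alt P.S x d) with hN
  have hN3 : N * N * N = 0 := slot_alt_cube P.S i h
  set N' := g.val * N * g⁻¹.val with hN'
  have hN'e : N' = conjHom g N := (conjHom_apply g N).symm
  have hN'3 : N' * N' * N' = 0 := by rw [hN'e, ← map_mul, ← map_mul, hN3, map_zero]
  have hskew : adj (powS P.S t) N' = -N' := by
    rw [hN', hg.adj_conj, hN, adj_slot, adj_alt, ← neg_one_smul F (alt P.S x d), slot_smul', neg_one_smul,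
      mul_neg, neg_mul]
  have hN'0 : N' ≠ 0 := fun e => by
    have e1 : N = g⁻¹.val * N' * g.val := by
      simp only [hN', mul_assoc, Units.inv_mul, mul_one, Units.inv_mul_cancel_left]
    rw [e, mul_zero, zero_mul] at e1
    exact alt_ne_zero P.S h (slot_injective hk i (by rw [slot_zero']; exact e1))
  let r : F → GL (Fin t → Fin k) F := fun c => expU two (c • N')
  have hr : ∀ c, r c ∈ Geo.tensorWreathStandard k t F := fun c => by
    rcases eq_or_ne c 0 with rfl | hc
    · show expU two ((0 : F) • N') ∈ _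
      rw [zero_smul, expU_zero]; exact one_mem _
    · have := hW c hc
      rw [sRoot_eq P.S two i ⟨h.iso, by rw [sf_smul_right, h.orth, mul_zero],
        by rw [sf_smul_left, sf_smul_right]; exact mul_ne_zero hc (mul_ne_zero hc h.aniso), h.ne0⟩,
        alt_smul_right, slot_smul', conj_expU two g (by
          simp only [Matrix.smul_mul, Matrix.mul_smul, ← hN, hN3, smul_zero]), Matrix.mul_smul,
        Matrix.smul_mul] at this
      exact this
  choose gs σ hgs using fun c => exists_wreath_elem (hr c)
  have hσadd : ∀ a b, σ (a + b) = σ a * σ b := fun a b => by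
    refine (perm_unique (show 2 ≤ k by omega) (a := gs a * fun l => gs b ((σ a).symm l)) (b := gs (a + b)) ?_).symm
    rw [← wreath_mul, ← hgs, ← hgs, ← hgs]
    exact expU_mul two hN'3 a b
  have hconj : ∀ c l M, (r c).val * slot l M * (r (-c)).val =
      slot (σ c l) ((gs c (σ c l)).val * M * ((gs c (σ c l))⁻¹).val) := fun c l M => by
    have e1 : r c * r (-c) = 1 := by
      show expU two (c • N') * expU two ((-c) • N') = 1
      rw [expU_mul two hN'3, add_neg_cancel, zero_smul, expU_zero]
    rw [hgs c, wreath_mul_slot, ← hgs c, mul_assoc, ← Units.val_mul, e1, Units.val_one, mul_one]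
  -- the permutations are trivial
  have hσ : ∀ c l, σ c l = l := by
    by_contra hc
    push Not at hc
    obtain ⟨c₀, l, hl⟩ := hc
    let A := Finset.univ.filter fun c => σ c l = l
    have hA : A.card + A.card ≤ Fintype.card F := by
      have h1 : A.card ≤ Aᶜ.card := Finset.card_le_card_of_injOn (fun c => c₀ + c)
        (fun c hcA => by
          simp only [Finset.mem_coe, A, Finset.mem_filter, Finset.mem_univ, true_and] at hcA
          simp only [Finset.mem_coe, Finset.mem_compl, A, Finset.mem_filter, Finset.mem_univ, true_and, hσadd,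
            Equiv.Perm.mul_apply, hcA]
          exact hl)
        fun _ _ _ _ e => add_left_cancel e
      rw [Finset.card_compl] at h1
      have := Finset.card_le_univ A
      omega
    have hC : 5 ≤ Aᶜ.card := by
      rw [Finset.card_compl]; have := three_card hP hk3 h30; omega
    have hcomm : ∀ M M' : Matrix (Fin k) (Fin k) F, slot l M * slot l M' = slot l M' * slot l M := by
      intro M M'
      let e : Fin 5 → Matrix (Fin t → Fin k) (Fin t → Fin k) F := fun n =>
        conjCoef (2 : F)⁻¹ N' (slot l M) n * slot l M' - slot l M' * conjCoef (2 : F)⁻¹ N' (slot l M) n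
      have h0 := coeff_mem (⊥ : Submodule F _) e Aᶜ hC (fun c hcA => by
        simp only [Finset.mem_compl, A, Finset.mem_filter, Finset.mem_univ, true_and] at hcA
        rw [Submodule.mem_bot]
        have e1 : ∑ n : Fin 5, c ^ (n : ℕ) • e n =
            (∑ n : Fin 5, c ^ (n : ℕ) • conjCoef (2 : F)⁻¹ N' (slot l M) n) * slot l M' -
              slot l M' * ∑ n : Fin 5, c ^ (n : ℕ) • conjCoef (2 : F)⁻¹ N' (slot l M) n := by
          simp only [e, smul_sub, Finset.sum_sub_distrib, Finset.sum_mul, Finset.mul_sum, Matrix.smul_mul,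
            Matrix.mul_smul]
        rw [e1, ← expU_conj two hN'3]
        change (r c).val * slot l M * (r (-c)).val * _ - _ * ((r c).val * slot l M * (r (-c)).val) = 0
        rw [hconj c l M, slot_comm hcA, sub_self]) 0
      simpa [e, conjCoef, sub_eq_zero] using h0
    let a : Fin k := ⟨0, by omega⟩
    let b : Fin k := ⟨1, by omega⟩
    have hab : a ≠ b := by simp [a, b]
    have h1 := hcomm (Matrix.single a b 1) (Matrix.single b a 1)
    rw [← slot_mul', ← slot_mul'] at h1
    have h2 := congrFun (congrFun (slot_injective hk l h1) a) a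
    simp [Matrix.single_mul_single_same, hab.symm] at h2
  -- the coefficients stay in the slots
  have hco : ∀ l M n, ∃ f, slot l f = conjCoef (2 : F)⁻¹ N' (slot l M) n := fun l M n => by
    have h1 := coeff_mem (LinearMap.range (slotHom l).toLinearMap) (conjCoef (2 : F)⁻¹ N' (slot l M))
      Finset.univ hq (fun c _ => by
        rw [← expU_conj two hN'3]
        change (r c).val * slot l M * (r (-c)).val ∈ _
        rw [hconj c l M, hσ]
        exact ⟨_, rfl⟩) n
    obtain ⟨f, hf⟩ := h1
    exact ⟨f, hf⟩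
  have hD : ∀ l M, ∃ f, slot l f = N' * slot l M - slot l M * N' := fun l M => by
    simpa [conjCoef] using hco l M 1
  choose D hDe using hD
  have hinner : ∀ l, ∃ L, ∀ M, D l M = L * M - M * L := fun l =>
    exists_inner hk (D l)
      (fun A B => slot_injective hk l (by
        simp only [slot_add', hDe, mul_add, add_mul]; abel))
      (fun c A => slot_injective hk l (by
        simp only [slot_smul', hDe, Matrix.mul_smul, Matrix.smul_mul, smul_sub]))
      (fun A B => slot_injective hk l (by
        simp only [slot_add', slot_mul', hDe, mul_sub, sub_mul, mul_assoc]; abel))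
  choose L hL using hinner
  obtain ⟨γ, hγ⟩ := slot_centraliser (T := N' - ∑ l, slot l (L l)) fun l M => by
    show _ * _ = _ * _
    have h2 : (∑ m, slot m (L m)) * slot l M - slot l M * (∑ m, slot m (L m)) = N' * slot l M - slot l M * N' := by
      rw [Finset.sum_mul, Finset.mul_sum, ← Finset.sum_sub_distrib, Finset.sum_eq_single l, ← hDe, hL,
        slot_sub', slot_mul', slot_mul']
      · intro m _ hm; rw [slot_comm hm, sub_self]
      · simp
    rw [sub_mul, mul_sub]
    linear_combination (norm := abel) -h2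
  let K : Fin t → Matrix (Fin k) (Fin k) F := fun l => (2 : F)⁻¹ • (L l - adj P.S (L l))
  have hKskew : ∀ l, adj P.S (K l) = -K l := fun l => by
    simp only [K, adj_smul, adj_sub, adj_adj]; module
  have hsum : N' = ∑ l, slot l (K l) := by
    let φ : Matrix (Fin t → Fin k) (Fin t → Fin k) F →ₗ[F] Matrix (Fin t → Fin k) (Fin t → Fin k) F :=
      { toFun := adj (powS P.S t), map_add' := adj_add _, map_smul' := adj_smul _ }
    have h1 : adj (powS P.S t) (∑ l, slot l (L l)) = ∑ l, slot l (adj P.S (L l)) :=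
      (map_sum φ _ _).trans (Finset.sum_congr rfl fun l _ => adj_slot _ _ _)
    have h2 : N' = (2 : F)⁻¹ • (N' - adj (powS P.S t) N') := by
      rw [hskew, sub_neg_eq_add, ← two_smul F N', smul_smul, inv_mul_cancel₀ two, one_smul]
    conv_lhs => rw [h2, show N' = γ • 1 + ∑ l, slot l (L l) by rw [← hγ, sub_add_cancel]]
    rw [adj_add, adj_smul, adj_one, h1, add_sub_add_left_eq_sub, ← Finset.sum_sub_distrib, Finset.smul_sum]
    exact Finset.sum_congr rfl fun l _ => by simp only [K, slot_smul', slot_sub']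
  obtain ⟨a, ha⟩ : ∃ a, K a ≠ 0 := by
    by_contra hc
    push Not at hc
    exact hN'0 (by rw [hsum]; exact Finset.sum_eq_zero fun l _ => by rw [hc, slot_zero'])
  set R := ∑ l ∈ Finset.univ.erase a, slot l (K l) with hR
  have hNR : N' = slot a (K a) + R := by
    rw [hsum, hR]; exact (Finset.add_sum_erase _ (fun l => slot l (K l)) (Finset.mem_univ a)).symm
  have hRc : ∀ M, slot a M * R = R * slot a M := fun M => by
    rw [hR, Finset.mul_sum, Finset.sum_mul]
    exact Finset.sum_congr rfl fun l hl => slot_comm (Ne.symm (Finset.ne_of_mem_erase hl)) _ _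
  set S₁ := slot a (K a) with hS₁
  have hSR : R * S₁ = S₁ * R := (hRc _).symm
  have hcube : S₁ * S₁ * S₁ + R * R * R = 0 := by
    have e1 : (S₁ + R) * (S₁ + R) * (S₁ + R) =
        S₁ * S₁ * S₁ + R * R * R + (3 : F) • (S₁ * (S₁ * R) + S₁ * (R * R)) := by
      have hSR' : ∀ z, R * (S₁ * z) = S₁ * (R * z) := fun z => by rw [← mul_assoc, hSR, mul_assoc]
      simp only [mul_add, add_mul, mul_assoc, hSR, hSR', smul_add]
      module
    rw [← hNR, hN'3, h30, zero_smul, add_zero] at e1
    exact e1.symm
  obtain ⟨c, hc⟩ := slot_centraliser (T := S₁ * S₁ * S₁) fun l M => by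
    rcases eq_or_ne l a with rfl | hla
    · rw [show S₁ * S₁ * S₁ = -(R * R * R) from eq_neg_of_add_eq_zero_left hcube]
      have h1 : Commute R (slot l M) := (hRc M).symm
      exact ((h1.mul_left h1).mul_left h1).neg_left
    · rw [hS₁, ← slot_mul', ← slot_mul']
      exact slot_comm (Ne.symm hla) _ _
  rw [hS₁, ← slot_mul', ← slot_mul'] at hc
  have hK3 : K a * K a * K a = 0 := by
    have h1 := slot_eq_smul_one hk hc
    have h2 := congrArg (adj P.S) h1
    rw [adj_mul, adj_mul, hKskew, adj_smul, adj_one] at h2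
    simp only [neg_mul, mul_neg, neg_neg, ← mul_assoc, h1] at h2
    have h3 : (2 : F) • (c • (1 : Matrix (Fin k) (Fin k) F)) = 0 := by
      rw [two_smul]; nth_rewrite 1 [← h2]; exact neg_add_cancel _
    rw [h1]
    exact (smul_eq_zero.mp h3).resolve_left two
  obtain ⟨hK2, ⟨y, e, hye, hKe⟩, -⟩ := root_of_cube P.S (by simp [hk3]) two (hKskew a) hK3 ha
  suffices hR0 : R = 0 by exact ⟨a, y, e, hye, by rw [hNR, hR0, add_zero, hS₁, hKe]⟩
  by_contra hR0
  have hR3 : R * R * R = 0 := by
    rw [hS₁, ← slot_mul', ← slot_mul', hK3, slot_zero', zero_add] at hcube; exact hcube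
  have hkey : ∀ M, (K a * K a * M * K a + K a * M * (K a * K a)) +
      (K a * K a * M * K a + K a * M * (K a * K a)) = 0 := fun M => by
    obtain ⟨f, hf⟩ := hco a M 4
    simp only [conjCoef, Matrix.cons_val] at hf
    set h2 := (2 : F)⁻¹ * (2 : F)⁻¹ with hh2
    have hh0 : h2 ≠ 0 := mul_ne_zero (inv_ne_zero two) (inv_ne_zero two)
    rw [hNR, split_expand hSR (hRc M).symm hR3] at hf
    set A₁ := (K a * K a * M * K a + K a * M * (K a * K a)) + (K a * K a * M * K a + K a * M * (K a * K a))
    set A₀ := K a * K a * M * (K a * K a) - h2⁻¹ • f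
    set A₂ := K a * K a * M + M * (K a * K a) + (K a * M * K a + K a * M * K a) + (K a * M * K a + K a * M * K a)
    have hzero : slot a A₀ + slot a A₁ * R + slot a A₂ * (R * R) = 0 := by
      simp only [A₀, A₁, A₂, slot_sub', slot_add', slot_mul', slot_smul', hf, ← hS₁, smul_smul,
        inv_mul_cancel₀ hh0, one_smul]
      abel
    have hR2c : ∀ M', slot a M' * (R * R) = R * R * slot a M' := fun M' => by
      rw [← mul_assoc, hRc, mul_assoc, hRc, ← mul_assoc]
    have h3' : R * (R * R) = 0 := by rw [← mul_assoc, hR3]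
    by_cases hR2 : R * R = 0
    · rw [hR2, mul_zero, add_zero] at hzero
      have h0 := congrArg (· * R) hzero
      simp only [add_mul, mul_assoc, hR2, mul_zero, add_zero, zero_mul] at h0
      have hA0 := (slot_mul_eq_zero hRc h0).resolve_right hR0
      rw [hA0, slot_zero', zero_add] at hzero
      exact (slot_mul_eq_zero hRc hzero).resolve_right hR0
    · have h0 := congrArg (· * (R * R)) hzero
      simp only [add_mul, mul_assoc, h3', mul_zero, add_zero, zero_mul] at h0
      have hA0 := (slot_mul_eq_zero hR2c h0).resolve_right hR2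
      rw [hA0, slot_zero', zero_add] at hzero
      have h1 := congrArg (· * R) hzero
      simp only [add_mul, mul_assoc, h3', mul_zero, add_zero, zero_mul] at h1
      exact (slot_mul_eq_zero hR2c h1).resolve_right hR2
  obtain ⟨v, hv⟩ : ∃ v, (K a * K a) *ᵥ v ≠ 0 := by
    by_contra hc
    push Not at hc
    exact hK2 (Matrix.ext_of_mulVec_single fun b => by rw [hc, zero_mulVec])
  rw [← mulVec_mulVec] at hv
  set w := K a *ᵥ (K a *ᵥ v) with hw
  obtain ⟨b, hb⟩ := Function.ne_iff.mp hv
  let φ : Fin k → F := Pi.single b (w b)⁻¹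
  have hhalf : ∀ Z : Matrix (Fin k) (Fin k) F, Z + Z = 0 → Z = 0 := fun Z hZ => by
    rw [← two_smul F Z] at hZ
    exact (smul_eq_zero.mp hZ).resolve_left two
  have h1 := congrArg (· *ᵥ v) (hhalf _ (hkey (vecMulVec v φ)))
  have hφ : φ ⬝ᵥ w = 1 := by
    simp only [φ, single_dotProduct]; exact inv_mul_cancel₀ hb
  simp only [add_mulVec, ← mulVec_mulVec, vecMulVec_mulVec, ← hw, hφ, zero_mulVec, op_smul_eq_smul, mulVec_smul,
    one_smul] at h1
  have h2 := congrArg (fun z => K a *ᵥ z) h1
  have hKw : K a *ᵥ w = 0 := by rw [hw, mulVec_mulVec, mulVec_mulVec, hK3, zero_mulVec]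
  simp only [mulVec_add, mulVec_smul, hKw, smul_zero, zero_add, mulVec_zero, ← hw] at h2
  exact hv h2

/-- In dimension three and characteristic three, without fusion, elements outside the stabiliser move the
slot roots out of it. -/
theorem noFus_moves_three (hP : P.Good) (hk3 : k = 3) (h30 : (3 : F) = 0) (ht : 1 ≤ t)
    {H : Subgroup (GL (Fin t → Fin k) F)} (hH : H ≤ Om (powS P.S t)) (hM : ContainsW P.S H)
    (hN : NoFus P.S H) : Moves P.S hP.two H := by
  classical
  intro g hgH hgW i x d hd hwW
  have two := hP.two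
  have hk : 0 < k := by omega
  set h2 := (2 : F)⁻¹ with hh2
  have h22 : h2 + h2 = 1 := by rw [hh2]; field_simp; norm_num
  set u := sRoot P.S two i x d with hu
  set w := g⁻¹ * u * g with hw
  have hwH : w ∈ H := mul_mem (mul_mem (inv_mem hgH) (sRoot_mem P.S two hM i hd)) hgH
  obtain ⟨gs, σ, hgs⟩ := exists_wreath_elem hwW
  set N := slot i (alt P.S x d) with hNd
  have hN3 : N * N * N = 0 := slot_alt_cube P.S i hd
  have hue : u = expU two N := sRoot_eq P.S two i hd
  have hw3 : w ^ 3 = 1 := by
    have hu3 : u ^ 3 = 1 := by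
      rw [hue, show expU two N = expU two ((1 : F) • N) by rw [one_smul], pow_succ, pow_two, expU_mul two hN3,
        expU_mul two hN3, show (1 : F) + 1 + 1 = 3 by norm_num, h30, zero_smul, expU_zero]
    have : w ^ 3 = g⁻¹ * u ^ 3 * g := by
      have e := conj_pow (i := 3) (a := g⁻¹) (b := u)
      rwa [inv_inv, ← hw] at e
    rw [this, hu3, mul_one, inv_mul_cancel]
  have hpow := wreath_pow gs σ 3
  rw [← hgs, hw3] at hpow
  have hσ3 : σ ^ 3 = 1 := (perm_unique (show 2 ≤ k by omega) (a := 1) (b := permProd gs σ 3)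
    (σ := (1 : Equiv.Perm (Fin t))) (by rw [factorPerm_one, tensGL_one, one_mul]; exact hpow)).symm
  rw [hσ3, factorPerm_one, mul_one] at hpow
  have hsc : ∀ j, ∃ s : F, (permProd gs σ 3 j).val = s • 1 := fun j => by
    obtain ⟨c, -, hc⟩ := tens_eq_one_imp (congrArg Units.val hpow.symm) j
    exact ⟨c, hc⟩
  have hs3 : ∀ j, σ (σ (σ j)) = j := fun j => by
    have := congrArg (fun τ : Equiv.Perm (Fin t) => τ j) hσ3
    simpa [pow_succ] using this
  have hsy : ∀ j, σ.symm j = σ (σ j) := fun j => by rw [Equiv.symm_apply_eq, hs3]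
  -- the kernel of the root element is the image of the square
  set M := u.val - 1 with hMd
  have hMe : M = N + h2 • (N * N) := by rw [hMd, hue, expU_coe two hN3, ← hh2]; abel
  have hMM : M * M = N * N := by
    simp only [hMe, mul_add, add_mul, Matrix.smul_mul, Matrix.mul_smul, ← mul_assoc, hN3, zero_mul, smul_zero,
      add_zero]
  have hNM : N = M - h2 • (M * M) := by rw [hMM, hMe, add_sub_cancel_right]
  -- a fixed factor carrying a nonscalar map
  obtain ⟨l, hl, hla⟩ : ∃ l, σ l = l ∧ ∀ s : F, (gs l).val ≠ s • 1 := by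
    by_contra hc
    push Not at hc
    obtain ⟨m, hm1, hmem, hmfix⟩ : ∃ m : Fin t → Fin t, (∀ j, m (σ j) = m j) ∧
        (∀ j, j = m j ∨ j = σ (m j) ∨ j = σ (σ (m j))) ∧ ∀ j, σ j = j → m j = j := by
      refine ⟨fun j => min j (min (σ j) (σ (σ j))), fun j => ?_, fun j => ?_, fun j hj => by simp [hj]⟩
      · dsimp only; rw [hs3, ← min_assoc, min_comm]
      dsimp only
      rcases min_choice j (min (σ j) (σ (σ j))) with h | h
      · exact Or.inl h.symm
      rcases min_choice (σ j) (σ (σ j)) with h' | h'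
      · refine Or.inr (Or.inr ?_); rw [h, h', hs3]
      · refine Or.inr (Or.inl ?_); rw [h, h', hs3]
    let Q : Fin t → GL (Fin k) F := fun j =>
      if j = m j then 1 else if j = σ (m j) then gs j else gs j * gs (σ (m j))
    let g' : Fin t → GL (Fin k) F := fun j => (Q j)⁻¹ * gs j * Q (σ.symm j)
    have hg' : ∀ j, ∃ s : F, (g' j).val = s • 1 := by
      intro j
      by_cases hfix : σ j = j
      · obtain ⟨s, hs⟩ := hc j hfix
        exact ⟨s, by simp [g', Q, hsy, hfix, hmfix j hfix, hs]⟩
      obtain ⟨q, hq⟩ : ∃ q, m j = q := ⟨_, rfl⟩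
      have hj := hmem j
      rw [hq] at hj
      have hmq : m q = q := by
        rcases hj with h | h | h <;> (conv_rhs => rw [← hq, h])
        · simp only [hm1]
        · simp only [hm1]
      have hne : σ q ≠ q := fun e => hfix (by
        rcases hj with h | h | h <;> (rw [h]; simp only [e]))
      have hne' : σ (σ q) ≠ σ q := fun e => hne (σ.injective e)
      have hne'' : σ (σ q) ≠ q := fun e => hne (by
        have := congrArg σ e; rw [hs3] at this; exact this.symm)
      rcases hj with rfl | rfl | rfl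
      · obtain ⟨s, hs⟩ := hsc j
        refine ⟨s, ?_⟩
        rw [← hs]
        congr 1
        show (Q j)⁻¹ * gs j * Q (σ.symm j) = gs j * (gs (σ.symm j) * (gs (σ.symm (σ.symm j)) * 1))
        simp [Q, hsy, hs3, hm1, hmq, hne', hne'']
      · refine ⟨1, ?_⟩
        simp [g', Q, hsy, hs3, hm1, hmq, hne]
      · refine ⟨1, ?_⟩
        simp [g', Q, hsy, hs3, hm1, hmq, hne, hne', hne'', mul_assoc]
    choose s hs using hg'
    set G : GL (Fin t → Fin k) F := (tensGL Q)⁻¹ * w * tensGL Q with hG
    have hGe : G = tensGL g' * factorPerm σ := by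
      have hi : (tensGL Q)⁻¹ = (tensGL fun j => (Q j)⁻¹ : GL (Fin t → Fin k) F) :=
        (map_inv (tensHom k t F) Q).symm
      rw [hG, hgs, hi, mul_assoc, mul_assoc (tensGL gs), factorPerm_mul_tensGL, ← mul_assoc (tensGL gs),
        tensGL_mul, ← mul_assoc, tensGL_mul]
      congr 2
      funext j
      simp [g', mul_assoc]
    let c₀ : Fin t → Fin k := fun _ => ⟨0, hk⟩
    set e₀ : (Fin t → Fin k) → F := Pi.single c₀ 1 with he₀
    set S₀ := ∏ j, s j with hS₀
    have hcol : G.val *ᵥ e₀ = S₀ • e₀ := by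
      funext z
      rw [he₀, mulVec_single_one, col_apply, hGe, wreath_apply, Pi.smul_apply, Pi.single_apply, smul_eq_mul]
      by_cases hz : z = c₀
      · subst hz; simp [hs, c₀, hS₀]
      · obtain ⟨j, hj⟩ := Function.ne_iff.mp hz
        rw [if_neg hz, mul_zero]
        exact Finset.prod_eq_zero (Finset.mem_univ j) (by simp only [c₀] at hj; simp [hs, c₀, hj])
    have hrow : e₀ ᵥ* G.val = S₀ • e₀ := by
      funext z
      rw [he₀, single_one_vecMul, row_apply, hGe, wreath_apply, Pi.smul_apply, Pi.single_apply, smul_eq_mul]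
      by_cases hz : z = c₀
      · subst hz; simp [hs, c₀, hS₀]
      · obtain ⟨j, hj⟩ := Function.ne_iff.mp hz
        rw [if_neg hz, mul_zero]
        exact Finset.prod_eq_zero (Finset.mem_univ (σ j)) (by simp only [c₀] at hj; simp [hs, c₀, Ne.symm hj])
    have hG3 : G ^ 3 = 1 := by
      have : G ^ 3 = (tensGL Q)⁻¹ * w ^ 3 * tensGL Q := by
        have e := conj_pow (i := 3) (a := (tensGL Q)⁻¹) (b := w)
        rwa [inv_inv, ← hG] at e
      rw [this, hw3, mul_one, inv_mul_cancel]
    have hS : S₀ = 1 := by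
      have h1 : (G.val * G.val * G.val) *ᵥ e₀ = (S₀ * S₀ * S₀) • e₀ := by
        simp only [← mulVec_mulVec, hcol, mulVec_smul, smul_smul, mul_assoc]
      rw [← Units.val_mul, ← Units.val_mul, show G * G * G = 1 by rw [← pow_two, ← pow_succ]; exact hG3,
        Units.val_one, one_mulVec] at h1
      have h2 := congrFun h1 c₀
      simp [he₀] at h2
      have h3 : (S₀ - 1) ^ 3 = 0 := by linear_combination -h2 + (-S₀ * S₀ + S₀) * h30
      exact sub_eq_zero.mp (pow_eq_zero_iff (by norm_num) |>.mp h3)
    rw [hS, one_smul] at hcol hrow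
    obtain ⟨X, Y, hXY⟩ := (root_of_cube P.S (by simp [hk3]) two (adj_alt P.S x d)
      (alt_cube P.S hd.iso hd.orth) (alt_ne_zero P.S hd)).2.2
    have hid : slot i X * (1 - h2 • M) * M + M * M * slot i Y = 1 := by
      rw [mul_assoc, sub_mul, one_mul, smul_mul_assoc, ← hNM, hMM, hNd, ← slot_mul', ← slot_mul', ← slot_mul',
        ← slot_add', hXY, slot_one']
    set hh := (g * tensGL Q)⁻¹ with hhd
    have hGu : conjHom hh M = G.val - 1 := by
      rw [hMd, map_sub, map_one, conjHom_apply, ← Units.val_mul, ← Units.val_mul, hG, hw, hhd]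
      congr 2
      group
    have hid' := congrArg (fun Z => e₀ ⬝ᵥ (conjHom hh Z *ᵥ e₀)) hid
    have hz1 : (G.val - 1) *ᵥ e₀ = 0 := by rw [sub_mulVec, hcol, one_mulVec, sub_self]
    have hz2 : e₀ ᵥ* (G.val - 1) = 0 := by rw [vecMul_sub, hrow, vecMul_one, sub_self]
    simp only [map_add, map_mul, map_one, hGu, add_mulVec, dotProduct_add, one_mulVec] at hid'
    rw [← mulVec_mulVec, hz1, mulVec_zero, dotProduct_zero, zero_add, dotProduct_mulVec, ← vecMul_vecMul,
      ← vecMul_vecMul, hz2, zero_vecMul, zero_vecMul, zero_dotProduct] at hid'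
    simp [he₀] at hid'
  -- the map of that factor is an exponential
  obtain ⟨ρ, hρ0, hρ⟩ := similitude_of_mem P.S (hgs ▸ Om_le_O _ two (hH hwH)) l
  obtain ⟨ε, hε⟩ := hsc l
  have hl' : σ.symm l = l := by rw [Equiv.symm_apply_eq, hl]
  set a := gs l with had
  have ha3 : a.val * a.val * a.val = ε • 1 := by
    rw [← hε]
    simp [permProd, hl', had, mul_assoc]
  obtain ⟨s, hs⟩ : ∃ s : F, s ^ 3 = ε := by
    refine Finite.surjective_of_injective (f := fun z : F => z ^ 3) (fun z z' e => ?_) ε
    have h3 : (z - z') ^ 3 = 0 := by linear_combination e + (z * z' * z' - z * z * z') * h30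
    exact sub_eq_zero.mp (pow_eq_zero_iff (by norm_num) |>.mp h3)
  have hone : (1 : Matrix (Fin k) (Fin k) F) ≠ 0 := fun e => by
    simpa using congrFun (congrFun e ⟨0, hk⟩) ⟨0, hk⟩
  have hs0 : s ≠ 0 := fun e => by
    have hu' : IsUnit (a.val * a.val * a.val) := (a.isUnit.mul a.isUnit).mul a.isUnit
    rw [ha3, ← hs, e, zero_pow (by norm_num), zero_smul] at hu'
    have := (Units.mul_inv hu'.unit)
    rw [IsUnit.unit_spec, zero_mul] at this
    exact hone this.symm
  set b := s⁻¹ • a.val with hb
  have hb3 : b * b * b = 1 := by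
    rw [hb]; simp only [Matrix.smul_mul, Matrix.mul_smul, smul_smul, ha3, ← hs]
    rw [show s⁻¹ * (s⁻¹ * s⁻¹ * s ^ 3) = 1 by field_simp, one_smul]
  have hab : a.val = s • b := by rw [hb, smul_smul, mul_inv_cancel₀ hs0, one_smul]
  set r := s⁻¹ * s⁻¹ * ρ with hrd
  have hrb : adj P.S b * b = r • 1 := by
    rw [hb, adj_smul, smul_mul_smul_comm, hρ, smul_smul, hrd]
  have hr1 : r = 1 := by
    have h1 : adj P.S (b * b * b) * (b * b * b) = (r * r * r) • 1 := by
      rw [adj_mul, adj_mul]
      calc adj P.S b * (adj P.S b * adj P.S b) * (b * b * b)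
          = adj P.S b * (adj P.S b * (adj P.S b * b) * b) * b := by simp only [mul_assoc]
        _ = _ := by
          simp only [hrb, Matrix.mul_smul, Matrix.smul_mul, mul_one, smul_smul]
    rw [hb3, adj_one, one_mul] at h1
    have h2 := congrFun (congrFun h1 ⟨0, hk⟩) ⟨0, hk⟩
    simp at h2
    have h3 : (r - 1) ^ 3 = 0 := by linear_combination -h2 + (-r * r + r) * h30
    exact sub_eq_zero.mp (pow_eq_zero_iff (by norm_num) |>.mp h3)
  have hbadj : adj P.S b = b * b := by
    rw [← mul_one (adj P.S b), ← hb3, ← mul_assoc, ← mul_assoc, hrb, hr1, one_smul, one_mul]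
  have h30' : ∀ Z : Matrix (Fin k) (Fin k) F, Z + Z + Z = 0 := fun Z => by
    rw [show Z + Z + Z = (3 : F) • Z by module, h30, zero_smul]
  set n := b - 1 with hn
  have hbn : b = 1 + n := by rw [hn, add_sub_cancel]
  have hn3 : n * n * n = 0 := by
    have e : (1 + n) * (1 + n) * (1 + n) = 1 + n * n * n + (n + n + n) + (n * n + n * n + n * n) := by noncomm_ring
    rw [← hbn, hb3, h30', h30', add_zero, add_zero] at e
    exact left_eq_add.mp e
  have hn4 : ∀ Z, n * (n * (n * Z)) = 0 := fun Z => by rw [← mul_assoc, ← mul_assoc, hn3, zero_mul]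
  have hn3' : n * (n * n) = 0 := by rw [← mul_assoc, hn3]
  set L := n - h2 • (n * n) with hL
  have hLskew : adj P.S L = -L := by
    have e1 : adj P.S n = n + n + n * n := by
      rw [hn, adj_sub, adj_one, hbadj, hbn]; noncomm_ring
    rw [hL, adj_sub, adj_smul, adj_mul, e1]
    simp only [mul_add, add_mul, mul_assoc, hn3', mul_zero, smul_zero, add_zero, smul_add, neg_sub]
    have e3 := h30' (n : Matrix (Fin k) (Fin k) F)
    have e4 := congrArg (fun Z => h2 • Z) (h30' (n * n))
    simp only [smul_add, smul_zero] at e4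
    have e5 : h2 • (n * n) + h2 • (n * n) = n * n := by rw [← add_smul, h22, one_smul]
    linear_combination (norm := abel) e3 - e4 - e5
  have hL3 : L * L * L = 0 := by
    simp only [hL, mul_sub, sub_mul, Matrix.smul_mul, Matrix.mul_smul, mul_assoc, hn3', mul_zero, smul_zero,
      sub_zero]
  have hbL : b = 1 + L + h2 • (L * L) := by
    simp only [hbn, hL, mul_sub, sub_mul, Matrix.smul_mul, Matrix.mul_smul, mul_assoc, hn3', mul_zero,
      smul_zero, sub_zero]
    module
  have hL0 : L ≠ 0 := fun e => hla s (by rw [hab, hbL, e, zero_mul, smul_zero, add_zero, add_zero])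
  obtain ⟨-, ⟨y, e, hye, hLe⟩, -⟩ := root_of_cube P.S (by simp [hk3]) two hLskew hL3 hL0
  -- the root group of that factor commutes with `w`
  have haL : a.val * L * (a⁻¹).val = L := by
    have : a.val * L = L * a.val := by
      rw [hab, Matrix.smul_mul, Matrix.mul_smul, hbL]
      simp only [add_mul, mul_add, one_mul, mul_one, Matrix.smul_mul, Matrix.mul_smul, mul_assoc]
    rw [this, mul_assoc, Units.mul_inv, mul_one]
  have hwL : w.val * slot l L = slot l L * w.val := by
    rw [hgs, wreath_mul_slot, hl, ← had, haL]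
  have hWc : ∀ c : F, c ≠ 0 →
      g * sRoot P.S two l y (c • e) * g⁻¹ ∈ Geo.tensorWreathStandard k t F := by
    intro c hc
    by_contra hout
    have hroot : IsRoot P.S y (c • e) := ⟨hye.iso, by rw [sf_smul_right, hye.orth, mul_zero],
      by rw [sf_smul_left, sf_smul_right]; exact mul_ne_zero hc (mul_ne_zero hc hye.aniso), hye.ne0⟩
    set q := g * sRoot P.S two l y (c • e) * g⁻¹ with hq
    have hqH : q ∈ H := mul_mem (mul_mem hgH (sRoot_mem P.S two hM l hroot)) (inv_mem hgH)
    have hRw : Commute (sRoot P.S two l y (c • e)) w := by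
      refine Units.ext ?_
      have h1 : Commute (slot l L) w.val := hwL.symm
      have eR : (sRoot P.S two l y (c • e)).val = 1 + c • slot l L + h2 • (c • slot l L * c • slot l L) := by
        rw [sRoot_eq P.S two l hroot, alt_smul_right, slot_smul', ← hLe, expU_coe two (by
          simp only [Matrix.smul_mul, Matrix.mul_smul, ← slot_mul', hL3, slot_zero', smul_zero])]
      show (sRoot P.S two l y (c • e)).val * w.val = w.val * (sRoot P.S two l y (c • e)).val
      rw [eR]
      exact (((Commute.one_left _).add_left (h1.smul_left c)).add_left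
        (((h1.smul_left c).mul_left (h1.smul_left c)).smul_left _)).eq
    have hqu : Commute q u := by
      have h1 := (SemiconjBy.conj_mk g (sRoot P.S two l y (c • e))).eq
      show q * u = u * q
      rw [show u = g * w * g⁻¹ by rw [hw]; group, hq]
      calc g * sRoot P.S two l y (c • e) * g⁻¹ * (g * w * g⁻¹)
          = g * (sRoot P.S two l y (c • e) * w) * g⁻¹ := by group
        _ = g * (w * sRoot P.S two l y (c • e)) * g⁻¹ := by rw [hRw.eq]
        _ = _ := by group
    have hqu' : Commute q.val u.val := hqu.map (Units.coeHom _)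
    have hqN : Commute q.val N := by
      have hqM : Commute q.val M := hqu'.sub_right (Commute.one_right _)
      rw [hNM]
      exact hqM.sub_right ((hqM.mul_right hqM).smul_right h2)
    exact hN q hqH hout i x d i x d hd hd (by
      rw [← hNd, mul_assoc, ← hqN.eq, ← mul_assoc, Units.inv_mul, one_mul])
  obtain ⟨j, y', e', hye', himg⟩ :=
    root_image_three hP hk3 h30 ht (IsSim.of_mem (Om_le_O _ two (hH hgH))) hye hWc
  refine hN g⁻¹ (inv_mem hgH) (fun hc => hgW (by simpa using inv_mem hc)) l y e j y' e' hye hye' ?_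
  rw [inv_inv]
  exact himg

end Cfsg.Agent.WreathO
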