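import Cfsg.Agent.WreathO.Perm
import Cfsg.Agent.WreathO.FusionThree

/-!
The image of a slot root inside the stabiliser of the decomposition is a slot root; without fusion,
outside elements move the slot roots out of the stabiliser (helper7).
-/

set_option autoImplicit false
set_option linter.unusedSectionVars false

namespace Cfsg.Agent.WreathO

open Matrix Cfsg.Agent.MaxSub Cfsg.Agent.MaxSub.Asch Cfsg.Agent.FG75.SpinTensor Cfsg.Agent.WreathMax
open scoped Kronecker

variable {F : Type*} [Field F] {k t : ℕ}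

/-! ### Vectors of a product of two index sets -/

section Kron

variable {W : Type} [Fintype W] [DecidableEq W]

/-- A pure tensor of a vector of the slot and a vector of the rest. -/
def tpv (x : Fin k → F) (z : W → F) : Fin k × W → F := fun p => x p.1 * z p.2

theorem kron_mulVec_tpv (B : Matrix (Fin k) (Fin k) F) (R : Matrix W W F) (x : Fin k → F) (z : W → F) :
    (B ⊗ₖ R) *ᵥ tpv x z = tpv (B *ᵥ x) (R *ᵥ z) := by
  funext p
  simp only [tpv, Matrix.mulVec, dotProduct, Matrix.kroneckerMap_apply, Fintype.sum_prod_type,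
    Finset.sum_mul_sum]
  exact Finset.sum_congr rfl fun i _ => Finset.sum_congr rfl fun j _ => by ring

/-- Three general vectors give a rank above twice the dimension of the rest. -/
theorem two_mul_card_lt_rank (X : Matrix (Fin k × W) (Fin k × W) F) (v₁ v₂ u : Fin k → F) (z₀ : W → F)
    (h : ∀ z z' : W → F, ∀ s : F, X *ᵥ (tpv v₁ z + tpv v₂ z' + s • tpv u z₀) = 0 → z = 0 ∧ z' = 0 ∧ s = 0) :
    2 * Fintype.card W < X.rank := by
  classical
  let L : ((W → F) × (W → F) × F) →ₗ[F] (Fin k × W → F) :=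
    { toFun := fun q => tpv v₁ q.1 + tpv v₂ q.2.1 + q.2.2 • tpv u z₀
      map_add' := fun q q' => by funext p; simp [tpv]; ring
      map_smul' := fun c q => by funext p; simp [tpv]; ring }
  have hinj : Function.Injective (Matrix.toLin' X ∘ₗ L) :=
    (injective_iff_map_eq_zero _).2 fun q hq => by
      obtain ⟨h1, h2, h3⟩ := h q.1 q.2.1 q.2.2 hq
      exact Prod.ext h1 (Prod.ext h2 h3)
  have h1 := LinearMap.finrank_range_of_inj hinj
  rw [Module.finrank_prod, Module.finrank_prod, Module.finrank_pi, Module.finrank_self] at h1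
  rw [ClMax99.TensorRank.rank_eq]
  have h2 := Submodule.finrank_mono (LinearMap.range_comp_le_range L (Matrix.toLin' X))
  omega

end Kron

/-! ### A slot against the others -/

variable {P : Std k F}

/-- A vector of a skew map of square zero pairs trivially with all images. -/
theorem skew_range_isotropic {a : Matrix (Fin k) (Fin k) F} (hs : adj P.S a = -a) (h2 : a * a = 0)
    (u w : Fin k → F) : sf P.S (a *ᵥ u) (a *ᵥ w) = 0 := by
  rw [adj_mulVec, hs, neg_mulVec, mulVec_mulVec, h2, zero_mulVec, neg_zero, sf_zero_right]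

/-- A non-zero skew map of square zero has two independent images. -/
theorem exists_two_images (two : (2 : F) ≠ 0) {a : Matrix (Fin k) (Fin k) F} (hs : adj P.S a = -a)
    (h0 : a ≠ 0) : ∃ v₁ v₂, ∀ α β : F, α • (a *ᵥ v₁) + β • (a *ᵥ v₂) = 0 → α = 0 ∧ β = 0 := by
  have hzero : ∀ z, sf P.S (a *ᵥ z) z = 0 := fun z => by
    have h := adj_mulVec P.S a z z
    rw [hs, neg_mulVec, sf_neg_right, sf_symm P.S z] at h
    exact (mul_eq_zero.mp (show (2 : F) * sf P.S (a *ᵥ z) z = 0 by linear_combination h)).resolve_left two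
  obtain ⟨v₁, hv₁⟩ : ∃ v, a *ᵥ v ≠ 0 := by
    by_contra hc
    push Not at hc
    exact h0 (Matrix.ext_of_mulVec_single fun b => by rw [hc, zero_mulVec])
  refine ⟨v₁, ?_⟩
  by_contra hc
  have hline : ∀ z, ∃ c : F, a *ᵥ z = c • (a *ᵥ v₁) := fun z => by
    by_contra hz
    push Not at hz
    refine hc ⟨z, fun α β e => ?_⟩
    by_cases hβ : β = 0
    · rw [hβ, zero_smul, add_zero] at e
      exact ⟨(smul_eq_zero.mp e).resolve_right hv₁, hβ⟩
    · refine absurd ?_ (hz (-(β⁻¹ * α)))
      rw [neg_smul, ← smul_smul, eq_neg_of_add_eq_zero_left e, smul_neg, neg_neg, inv_smul_smul₀ hβ]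
  obtain ⟨x, hx⟩ := exists_pair P.S hv₁
  obtain ⟨c, hcx⟩ := hline x
  have hc0 : c = 0 := by
    have := hzero x
    rwa [hcx, sf_smul_left, hx, mul_one] at this
  have := hzero (v₁ + x)
  rw [mulVec_add, hcx, hc0, zero_smul, add_zero, sf_add_right, hzero v₁, hx, zero_add] at this
  exact one_ne_zero this

/-- In dimension four no plane is totally isotropic. -/
theorem no_isotropic_plane (hP : P.Good) (h4 : k = 4) {y₁ y₂ : Fin k → F}
    (hind : ∀ α β : F, α • y₁ + β • y₂ = 0 → α = 0 ∧ β = 0)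
    (hiso : ∀ α β γ δ : F, sf P.S (α • y₁ + β • y₂) (γ • y₁ + δ • y₂) = 0) : False := by
  have key : ∀ b : Fin k, ∃ α β : F, α • y₁ + β • y₂ ≠ 0 ∧ (α • y₁ + β • y₂) b = 0 := fun b => by
    by_cases h1 : y₁ b = 0
    · exact ⟨1, 0, fun e => one_ne_zero (hind 1 0 e).1, by simp [h1]⟩
    · exact ⟨y₂ b, -(y₁ b), fun e => h1 (neg_eq_zero.mp (hind _ _ e).2), by simp; ring⟩
  obtain ⟨α, β, hy, hy1⟩ := key P.i1
  obtain ⟨γ, δ, hz, hz0⟩ := key P.i0
  set y := α • y₁ + β • y₂ with hydef
  set z := γ • y₁ + δ • y₂ with hzdef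
  have hyy : sf P.S y y = 0 := hiso α β α β
  have hzz : sf P.S z z = 0 := hiso γ δ γ δ
  have hyz : sf P.S y z = 0 := hiso α β γ δ
  obtain ⟨m, hm, hye⟩ := Std.decomp (P := P) y
  obtain ⟨n, hn, hze⟩ := Std.decomp (P := P) z
  rw [hy1, zero_smul, zero_add] at hye
  rw [hz0, zero_smul, add_zero] at hze
  have hm0 : m = 0 := hP.minus h4 m hm (by
    rw [hye] at hyy
    simpa [sf_add_left, sf_add_right, sf_smul_left, sf_smul_right, P.eo_iso, hm.eo, hm.eo'] using hyy)
  have hn0 : n = 0 := hP.minus h4 n hn (by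
    rw [hze] at hzz
    simpa [sf_add_left, sf_add_right, sf_smul_left, sf_smul_right, P.ew_iso, hn.ew, hn.ew'] using hzz)
  rw [hm0, zero_add] at hye
  rw [hn0, add_zero] at hze
  rw [hye, hze, sf_smul_left, sf_smul_right, P.eo_ew, mul_one] at hyz
  rcases mul_eq_zero.mp hyz with h | h
  · exact hy (by rw [hye, h, zero_smul])
  · exact hz (by rw [hze, h, zero_smul])

/-- A unipotent isometry of a slot against a unipotent map of the rest with cubic displacement of small
rank leaves the rest fixed. -/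
theorem rest_trivial (hP : P.Good) (hc : (3 : F) ≠ 0 ∨ 4 ≤ k) {W : Type} [Fintype W] [DecidableEq W]
    {a : Matrix (Fin k) (Fin k) F} {Z : Matrix W W F} (ha : adj P.S (1 + a) * (1 + a) = 1) (ha0 : a ≠ 0)
    (hZ : IsNilpotent (Z - 1))
    (h3 : (a ⊗ₖ Z + (1 : Matrix (Fin k) (Fin k) F) ⊗ₖ (Z - 1)) *
      (a ⊗ₖ Z + (1 : Matrix (Fin k) (Fin k) F) ⊗ₖ (Z - 1)) *
      (a ⊗ₖ Z + (1 : Matrix (Fin k) (Fin k) F) ⊗ₖ (Z - 1)) = 0)
    (hr : (a ⊗ₖ Z + (1 : Matrix (Fin k) (Fin k) F) ⊗ₖ (Z - 1)).rank ≤ 2 * Fintype.card W) : Z = 1 := by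
  classical
  set D := Z - 1 with hD
  set X := a ⊗ₖ Z + (1 : Matrix (Fin k) (Fin k) F) ⊗ₖ D with hX
  by_contra hZ1
  have hZi : ∀ z, Z *ᵥ z = 0 → z = 0 := fun z hz => by
    obtain ⟨U, hU⟩ : IsUnit Z := by simpa [hD] using hZ.isUnit_add_one
    have := congrArg ((U⁻¹).val *ᵥ ·) hz
    simpa [← hU, mulVec_mulVec] using this
  obtain ⟨z₁, hz₁⟩ : ∃ z, D *ᵥ z ≠ 0 := by
    by_contra hcc
    push Not at hcc
    exact hZ1 (sub_eq_zero.mp (Matrix.ext_of_mulVec_single fun b => by rw [hcc, zero_mulVec]))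
  obtain ⟨z₀, hz₀, hDz₀⟩ : ∃ z₀, z₀ ≠ 0 ∧ D *ᵥ z₀ = 0 := by
    by_contra hcc
    push Not at hcc
    obtain ⟨N, hN⟩ := hZ
    have : ∀ n z, (D ^ n) *ᵥ z = 0 → z = 0 := by
      intro n
      induction n with
      | zero => intro z hz; simpa using hz
      | succ n ih =>
        intro z hz
        rw [pow_succ, ← mulVec_mulVec] at hz
        by_contra hne
        exact hcc z hne (ih _ hz)
    exact hz₁ (this N _ (by rw [hN, zero_mulVec]))
  have hZz₀ : Z *ᵥ z₀ = z₀ := by
    rw [hD, sub_mulVec, one_mulVec, sub_eq_zero] at hDz₀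
    exact hDz₀
  have hXv : ∀ x z, X *ᵥ tpv x z = tpv (a *ᵥ x) (Z *ᵥ z) + tpv x (D *ᵥ z) := fun x z => by
    rw [hX, add_mulVec, kron_mulVec_tpv, kron_mulVec_tpv, one_mulVec]
  -- the slot map has cube zero
  have ha3 : a * a * a = 0 := by
    refine Matrix.ext_of_mulVec_single fun b => ?_
    set v : Fin k → F := Pi.single b 1
    have h0 : ∀ x, X *ᵥ tpv x z₀ = tpv (a *ᵥ x) z₀ := fun x => by
      rw [hXv, hZz₀, hDz₀]
      funext p; simp [tpv]
    have h1 := congrArg (· *ᵥ tpv v z₀) h3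
    simp only [← mulVec_mulVec, h0, zero_mulVec] at h1
    obtain ⟨j, hj⟩ := Function.ne_iff.mp hz₀
    funext i
    have h2 := congrFun h1 (i, j)
    simp only [tpv, Pi.zero_apply] at h2
    rw [← mulVec_mulVec, ← mulVec_mulVec, zero_mulVec, Pi.zero_apply]
    exact (mul_eq_zero.mp h2).resolve_right hj
  by_cases ha2 : a * a = 0
  · have hs : adj P.S a = -a := by
      have e1 : (1 + a) * (1 - a) = 1 := by
        rw [mul_sub, mul_one, add_mul, one_mul, ha2]; abel
      have e2 : adj P.S (1 + a) = 1 - a := by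
        calc adj P.S (1 + a) = adj P.S (1 + a) * ((1 + a) * (1 - a)) := by rw [e1, mul_one]
          _ = 1 - a := by rw [← mul_assoc, ha, one_mul]
      rw [adj_add, adj_one] at e2
      rw [eq_neg_iff_add_eq_zero]
      linear_combination (norm := abel) e2
    have haa : ∀ x, a *ᵥ (a *ᵥ x) = 0 := fun x => by rw [mulVec_mulVec, ha2, zero_mulVec]
    obtain ⟨v₁, v₂, hind⟩ := exists_two_images hP.two hs ha0
    obtain ⟨u, hau, hu⟩ : ∃ u, a *ᵥ u = 0 ∧ ∀ α β : F, u ≠ α • (a *ᵥ v₁) + β • (a *ᵥ v₂) := by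
      by_contra hcc
      push Not at hcc
      have hspan : ∀ x : Fin k → F, x ∈ Submodule.span F (Set.range ![v₁, v₂, a *ᵥ v₁, a *ᵥ v₂]) := fun x => by
        obtain ⟨α, β, e⟩ := hcc (a *ᵥ x) (haa x)
        obtain ⟨γ, δ, e'⟩ := hcc (x - α • v₁ - β • v₂) (by
          rw [mulVec_sub, mulVec_sub, mulVec_smul, mulVec_smul, e]; abel)
        rw [Submodule.mem_span_range_iff_exists_fun]
        refine ⟨![α, β, γ, δ], ?_⟩
        simp only [Fin.sum_univ_four, Matrix.cons_val]
        linear_combination (norm := module) -e'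
      have h4 : k ≤ 4 := by
        have h := (finrank_range_le_card (R := F) (![v₁, v₂, a *ᵥ v₁, a *ᵥ v₂]))
        rw [Set.finrank, Submodule.eq_top_iff'.mpr hspan, finrank_top, Module.finrank_fin_fun,
          Fintype.card_fin] at h
        exact h
      have hli : LinearIndependent F ![v₁, v₂, a *ᵥ v₁, a *ᵥ v₂] := by
        rw [Fintype.linearIndependent_iff]
        intro c hc'
        simp only [Fin.sum_univ_four, Matrix.cons_val] at hc'
        have e1 := congrArg (a *ᵥ ·) hc'
        simp only [mulVec_add, mulVec_smul, haa, smul_zero, add_zero, mulVec_zero] at e1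
        obtain ⟨c0, c1⟩ := hind _ _ e1
        rw [c0, c1, zero_smul, zero_smul, zero_add, zero_add] at hc'
        obtain ⟨c2, c3⟩ := hind _ _ hc'
        intro j
        fin_cases j <;> assumption
      have h4' : 4 ≤ k := by
        simpa using hli.fintype_card_le_finrank
      refine no_isotropic_plane hP (le_antisymm h4 h4') hind fun α β γ δ => ?_
      simp only [← mulVec_smul, ← mulVec_add]
      exact skew_range_isotropic hs ha2 _ _
    refine absurd hr (not_le.mpr (two_mul_card_lt_rank X v₁ v₂ u z₁ fun z z' s e => ?_))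
    rw [mulVec_add, mulVec_add, mulVec_smul, hXv, hXv, hXv, hau] at e
    have key : ∀ j, (D *ᵥ z) j • v₁ + (D *ᵥ z') j • v₂ + (Z *ᵥ z) j • (a *ᵥ v₁) +
        (Z *ᵥ z') j • (a *ᵥ v₂) + (s * (D *ᵥ z₁) j) • u = 0 := fun j => by
      funext i
      have e' := congrFun e (i, j)
      simp only [Pi.add_apply, Pi.smul_apply, smul_eq_mul, tpv, Pi.zero_apply] at e' ⊢
      linear_combination e'
    have hj : ∀ j, (Z *ᵥ z) j = 0 ∧ (Z *ᵥ z') j = 0 ∧ s * (D *ᵥ z₁) j = 0 := fun j => by
      have e1 := congrArg (a *ᵥ ·) (key j)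
      simp only [mulVec_add, mulVec_smul, haa, hau, smul_zero, add_zero, mulVec_zero] at e1
      obtain ⟨c0, c1⟩ := hind _ _ e1
      have e2 := key j
      rw [c0, c1, zero_smul, zero_smul, zero_add, zero_add] at e2
      have hs' : s * (D *ᵥ z₁) j = 0 := by
        by_contra hne
        refine hu (-((s * (D *ᵥ z₁) j)⁻¹ * (Z *ᵥ z) j)) (-((s * (D *ᵥ z₁) j)⁻¹ * (Z *ᵥ z') j)) ?_
        refine smul_right_injective (Fin k → F) hne ?_
        simp only [smul_add, smul_smul, mul_neg, mul_inv_cancel_left₀ hne]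
        linear_combination (norm := module) e2
      rw [hs', zero_smul, add_zero] at e2
      exact ⟨(hind _ _ e2).1, (hind _ _ e2).2, hs'⟩
    refine ⟨hZi _ (funext fun j => (hj j).1), hZi _ (funext fun j => (hj j).2.1), ?_⟩
    obtain ⟨j, hj'⟩ := Function.ne_iff.mp hz₁
    exact (mul_eq_zero.mp (hj j).2.2).resolve_right hj'
  obtain ⟨v, hv⟩ : ∃ v, (a * a) *ᵥ v ≠ 0 := by
    by_contra hcc
    push Not at hcc
    exact ha2 (Matrix.ext_of_mulVec_single fun b => by rw [hcc, zero_mulVec])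
  rw [← mulVec_mulVec] at hv
  have haaa : ∀ x, a *ᵥ (a *ᵥ (a *ᵥ x)) = 0 := fun x => by
    rw [mulVec_mulVec, mulVec_mulVec, ha3, zero_mulVec]
  have hind : ∀ c₀ c₁ c₂ : F, c₀ • v + c₁ • (a *ᵥ v) + c₂ • (a *ᵥ (a *ᵥ v)) = 0 →
      c₀ = 0 ∧ c₁ = 0 ∧ c₂ = 0 := by
    intro c₀ c₁ c₂ e
    have e1 := congrArg (fun x => a *ᵥ (a *ᵥ x)) e
    simp only [mulVec_add, mulVec_smul, haaa, mulVec_zero, smul_zero, add_zero] at e1
    have h0 := (smul_eq_zero.mp e1).resolve_right hv
    rw [h0, zero_smul, zero_add] at e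
    have e2 := congrArg (fun x => a *ᵥ x) e
    simp only [mulVec_add, mulVec_smul, haaa, mulVec_zero, smul_zero, add_zero] at e2
    have h1 := (smul_eq_zero.mp e2).resolve_right hv
    rw [h1, zero_smul, zero_add] at e
    exact ⟨h0, h1, (smul_eq_zero.mp e).resolve_right hv⟩
  rcases hc with h30 | hk4
  · -- the cube
    have e := congrArg (fun M => M *ᵥ tpv v z₁) h3
    simp only [← mulVec_mulVec, hXv, mulVec_add, zero_mulVec] at e
    refine hz₁ (hZi _ (hZi _ (funext fun j => ?_)))
    have hcomm : ∀ z, Z *ᵥ (D *ᵥ z) = D *ᵥ (Z *ᵥ z) := fun z => by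
      rw [mulVec_mulVec, mulVec_mulVec, hD, mul_sub, sub_mul, mul_one, one_mul]
    simp only [hcomm] at e
    have e' : (D *ᵥ (D *ᵥ (D *ᵥ z₁))) j • v + ((3 : F) * (D *ᵥ (D *ᵥ (Z *ᵥ z₁))) j) • (a *ᵥ v) +
        ((3 : F) * (D *ᵥ (Z *ᵥ (Z *ᵥ z₁))) j) • (a *ᵥ (a *ᵥ v)) = 0 := by
      funext i
      have h := congrFun e (i, j)
      simp only [Pi.add_apply, Pi.smul_apply, smul_eq_mul, tpv, Pi.zero_apply, haaa] at h ⊢
      linear_combination h
    have := (mul_eq_zero.mp (hind _ _ _ e').2.2).resolve_left h30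
    rw [hcomm, hcomm]
    exact this
  · obtain ⟨u, hau, hu⟩ : ∃ u, a *ᵥ u = 0 ∧ ∀ γ : F, u ≠ γ • (a *ᵥ (a *ᵥ v)) := by
      by_contra hcc
      push Not at hcc
      have hspan : ∀ x : Fin k → F, x ∈ Submodule.span F (Set.range ![v, a *ᵥ v, a *ᵥ (a *ᵥ v)]) := fun x => by
        obtain ⟨c₀, e₀⟩ := hcc (a *ᵥ (a *ᵥ x)) (haaa x)
        obtain ⟨c₁, e₁⟩ := hcc (a *ᵥ x - c₀ • (a *ᵥ v)) (by
          rw [mulVec_sub, mulVec_smul, e₀, sub_self])
        obtain ⟨c₂, e₂⟩ := hcc (x - c₀ • v - c₁ • (a *ᵥ v)) (by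
          rw [mulVec_sub, mulVec_sub, mulVec_smul, mulVec_smul, e₁, sub_self])
        rw [Submodule.mem_span_range_iff_exists_fun]
        refine ⟨![c₀, c₁, c₂], ?_⟩
        simp only [Fin.sum_univ_three, Matrix.cons_val]
        linear_combination (norm := module) -e₂
      have h := (finrank_range_le_card (R := F) (![v, a *ᵥ v, a *ᵥ (a *ᵥ v)]))
      rw [Set.finrank, Submodule.eq_top_iff'.mpr hspan, finrank_top, Module.finrank_fin_fun,
        Fintype.card_fin] at h
      omega
    refine absurd hr (not_le.mpr (two_mul_card_lt_rank X v (a *ᵥ v) u z₁ fun z z' s e => ?_))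
    rw [mulVec_add, mulVec_add, mulVec_smul, hXv, hXv, hXv, hau] at e
    have key : ∀ j, (D *ᵥ z) j • v + ((Z *ᵥ z) j + (D *ᵥ z') j) • (a *ᵥ v) +
        (Z *ᵥ z') j • (a *ᵥ (a *ᵥ v)) + (s * (D *ᵥ z₁) j) • u = 0 := fun j => by
      funext i
      have e' := congrFun e (i, j)
      simp only [Pi.add_apply, Pi.smul_apply, smul_eq_mul, tpv, Pi.zero_apply] at e' ⊢
      linear_combination e'
    have hj : ∀ j, (Z *ᵥ z) j + (D *ᵥ z') j = 0 ∧ (Z *ᵥ z') j = 0 ∧ s * (D *ᵥ z₁) j = 0 := fun j => by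
      have e1 := congrArg (a *ᵥ ·) (key j)
      simp only [mulVec_add, mulVec_smul, haaa, hau, smul_zero, add_zero, mulVec_zero] at e1
      obtain ⟨-, c0, c1⟩ := hind 0 _ _ (by rw [zero_smul, zero_add]; exact e1)
      have e2 := key j
      rw [c0, c1, zero_smul, zero_smul, zero_add, zero_add] at e2
      have hs' : s * (D *ᵥ z₁) j = 0 := by
        by_contra hne
        refine hu (-((s * (D *ᵥ z₁) j)⁻¹ * (Z *ᵥ z') j)) (smul_right_injective (Fin k → F) hne ?_)
        simp only [smul_smul, mul_neg, mul_inv_cancel_left₀ hne]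
        linear_combination (norm := module) e2
      rw [hs', zero_smul, add_zero] at e2
      exact ⟨c1, (smul_eq_zero.mp e2).resolve_right hv, hs'⟩
    have hz' : z' = 0 := hZi _ (funext fun j => (hj j).2.1)
    refine ⟨hZi _ (funext fun j => ?_), hz', ?_⟩
    · simpa [hz'] using (hj j).1
    · obtain ⟨j, hj'⟩ := Function.ne_iff.mp hz₁
      exact (mul_eq_zero.mp (hj j).2.2).resolve_right hj'

/-- A skew map of cube zero and non-zero square with rank two is the skew map of a root. -/
theorem root_of_rank_two (two : (2 : F) ≠ 0) (S : Sform (Fin k) F) {M : Matrix (Fin k) (Fin k) F}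
    (hM : adj S M = -M) (h3 : M * M * M = 0) (h2 : M * M ≠ 0) (hr : M.rank ≤ 2) :
    ∃ y e, IsRoot S y e ∧ M = alt S y e := by
  classical
  have fM : ∀ a b, sf S (M *ᵥ a) b = -sf S a (M *ᵥ b) := fun a b => by
    rw [adj_mulVec, hM, neg_mulVec, sf_neg_right]
  have fM0 : ∀ a, sf S (M *ᵥ a) a = 0 := fun a => by
    have h := fM a a
    rw [sf_symm S a] at h
    exact (mul_eq_zero.mp (show (2 : F) * sf S (M *ᵥ a) a = 0 by linear_combination h)).resolve_left two
  obtain ⟨v, hv⟩ : ∃ v, (M * M) *ᵥ v ≠ 0 := by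
    by_contra hc
    push Not at hc
    exact h2 (Matrix.ext_of_mulVec_single fun b => by rw [hc, zero_mulVec])
  rw [← mulVec_mulVec] at hv
  set p := M *ᵥ v with hp
  set y := M *ᵥ p with hy
  have hMy : M *ᵥ y = 0 := by rw [hy, hp, mulVec_mulVec, mulVec_mulVec, h3, zero_mulVec]
  have hyp : sf S y p = 0 := fM0 p
  have hyy : sf S y y = 0 := by
    rw [show sf S y y = sf S (M *ᵥ p) y from rfl, fM, hMy, sf_zero_right, neg_zero]
  set c := sf S p p with hc
  have hyv : sf S y v = -c := by rw [hy, fM, ← hp]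
  have hli : LinearIndependent F ![p, y] := by
    rw [LinearIndependent.pair_iff]
    intro α β e
    have e1 := congrArg (fun x => M *ᵥ x) e
    simp only [mulVec_add, mulVec_smul, ← hy, hMy, smul_zero, add_zero, mulVec_zero] at e1
    have hα := (smul_eq_zero.mp e1).resolve_right hv
    rw [hα, zero_smul, zero_add] at e
    exact ⟨hα, (smul_eq_zero.mp e).resolve_right hv⟩
  have hsp : Submodule.span F (Set.range ![p, y]) = LinearMap.range (Matrix.toLin' M) := by
    refine Submodule.eq_of_le_of_finrank_le ?_ ?_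
    · rw [Submodule.span_le]
      rintro _ ⟨j, rfl⟩
      fin_cases j
      · exact ⟨v, Matrix.toLin'_apply _ _⟩
      · exact ⟨p, Matrix.toLin'_apply _ _⟩
    · rw [finrank_span_eq_card hli, Fintype.card_fin, ← ClMax99.TensorRank.rank_eq]
      exact hr
  have himg : ∀ z, ∃ α β : F, M *ᵥ z = α • p + β • y := fun z => by
    have hz : M *ᵥ z ∈ Submodule.span F (Set.range ![p, y]) := hsp ▸ ⟨z, Matrix.toLin'_apply _ _⟩
    obtain ⟨f, hf⟩ := (Submodule.mem_span_range_iff_exists_fun F).mp hz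
    exact ⟨f 0, f 1, by rw [← hf, Fin.sum_univ_two]; simp⟩
  have hzy : ∀ z α β, M *ᵥ z = α • p + β • y → sf S z y = -(α * c) ∧ sf S z p = β * c := by
    intro z α β e
    constructor
    · rw [hy, show sf S z (M *ᵥ p) = -sf S (M *ᵥ z) p by rw [fM, neg_neg], e, sf_add_left, sf_smul_left,
        sf_smul_left, hyp, mul_zero, add_zero]
    · rw [hp, show sf S z (M *ᵥ v) = -sf S (M *ᵥ z) v by rw [fM, neg_neg], e, sf_add_left, sf_smul_left,
        sf_smul_left, show sf S p v = 0 from fM0 v, hyv]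
      ring
  have hc0 : c ≠ 0 := fun hc' => by
    obtain ⟨z, hz⟩ := exists_pair S hv
    obtain ⟨α, β, e⟩ := himg z
    rw [sf_symm, (hzy z α β e).1, hc', mul_zero, neg_zero] at hz
    exact zero_ne_one hz
  refine ⟨y, c⁻¹ • p, ⟨hyy, by rw [sf_smul_right, hyp, mul_zero], ?_, hv⟩, ?_⟩
  · rw [sf_smul_left, sf_smul_right, ← hc, inv_mul_cancel₀ hc0, mul_one]
    exact inv_ne_zero hc0
  · refine Matrix.ext_of_mulVec_single fun b => ?_
    obtain ⟨α, β, e⟩ := himg (Pi.single b 1)
    obtain ⟨e1, e2⟩ := hzy _ α β e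
    rw [alt_mulVec, sf_smul_right, e1, e2, e, smul_smul, show c⁻¹ * (β * c) = β by field_simp,
      show -(α * c) * c⁻¹ = -α by field_simp, neg_smul, sub_neg_eq_add, add_comm]

/-- The skew map of two vectors has rank at most two. -/
theorem rank_alt_le (S : Sform (Fin k) F) (x d : Fin k → F) : (alt S x d).rank ≤ 2 := by
  classical
  rw [ClMax99.TensorRank.rank_eq]
  refine (Submodule.finrank_mono (t := Submodule.span F ({x, d} : Set (Fin k → F))) ?_).trans
    ((finrank_span_le_card (R := F) _).trans ?_)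
  · rintro _ ⟨z, rfl⟩
    rw [Matrix.toLin'_apply, alt_mulVec]
    exact sub_mem (Submodule.smul_mem _ _ (Submodule.subset_span (by simp)))
      (Submodule.smul_mem _ _ (Submodule.subset_span (by simp)))
  · simp only [Set.toFinset_insert, Set.toFinset_singleton]
    exact Finset.card_le_two

variable [Fintype F]

/-- The image of a slot root inside the stabiliser is a slot root, outside dimension three in
characteristic three. -/
theorem root_image_gen (hP : P.Good) (hc : (3 : F) ≠ 0 ∨ 4 ≤ k) {g : GL (Fin t → Fin k) F}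
    (hg : IsSim (powS P.S t) g) {i : Fin t} {x d : Fin k → F} (h : IsRoot P.S x d)
    (hW : g * sRoot P.S hP.two i x d * g⁻¹ ∈ Geo.tensorWreathStandard k t F) :
    ∃ j y e, IsRoot P.S y e ∧ g.val * slot i (alt P.S x d) * g⁻¹.val = slot j (alt P.S y e) := by
  classical
  have two := hP.two
  have hk : 0 < k := by have := P.hk; omega
  obtain ⟨p, hchar⟩ := CharP.exists F
  have hp : Fact p.Prime := ⟨(CharP.char_is_prime_or_zero F p).resolve_right fun e => by
    subst e; exact CharP.char_ne_zero_of_finite F 0 rfl⟩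
  have : Nonempty (Fin k) := ⟨⟨0, hk⟩⟩
  have hp3 : 3 ≤ p := by
    have := hp.out.two_le
    have hp2 : p ≠ 2 := fun e => two (by subst e; simpa using CharP.cast_eq_zero F 2)
    omega
  set L := alt P.S x d with hLd
  set N := slot i L with hN
  have hN3 : N * N * N = 0 := slot_alt_cube P.S i h
  set N' := g.val * N * g⁻¹.val with hN'
  have hN'e : N' = conjHom g N := (conjHom_apply g N).symm
  have hN'3 : N' * N' * N' = 0 := by rw [hN'e, ← map_mul, ← map_mul, hN3, map_zero]
  have hskew : adj (powS P.S t) N' = -N' := by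
    rw [hN', hg.adj_conj, hN, adj_slot, hLd, adj_alt, ← neg_one_smul F (alt P.S x d), slot_smul', neg_one_smul,
      mul_neg, neg_mul]
  have hback : N = g⁻¹.val * N' * g.val := by
    simp only [hN', mul_assoc, Units.inv_mul, mul_one, Units.inv_mul_cancel_left]
  rw [sRoot_eq P.S two i h, conj_expU two g hN3] at hW
  obtain ⟨gs, σ, hgs⟩ := exists_wreath_elem hW
  change expU two N' = _ at hgs
  -- the displacement
  set w := expU two N' with hw
  have hw1 : w.val - 1 = N' + (2 : F)⁻¹ • (N' * N') := by rw [hw, expU_coe two hN'3]; abel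
  have hw2 : (w.val - 1) * (w.val - 1) = N' * N' := by
    simp only [hw1, mul_add, add_mul, Matrix.smul_mul, Matrix.mul_smul, ← mul_assoc, hN'3, zero_mul, smul_zero,
      add_zero]
  have hw3 : (w.val - 1) * (w.val - 1) * (w.val - 1) = 0 := by
    rw [hw2, hw1, mul_add, Matrix.mul_smul, ← mul_assoc (N' * N') N' N', hN'3, zero_mul, smul_zero, add_zero]
  have hwN : N' = (w.val - 1) - (2 : F)⁻¹ • ((w.val - 1) * (w.val - 1)) := by rw [hw2, hw1, add_sub_cancel_right]
  have hrk : ∀ A : Matrix (Fin t → Fin k) (Fin t → Fin k) F, (g.val * A * g⁻¹.val).rank = A.rank := fun A => by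
    have := ClMax99.TensorRank.rank_conj g A 0
    simpa using this
  have hwr : (w.val - 1).rank ≤ 2 * k ^ (t - 1) := by
    have e : w.val - 1 = g.val * slot i (L * (1 + (2 : F)⁻¹ • L)) * g⁻¹.val := by
      rw [hw1, hN'e, ← map_mul, ← map_smul, ← map_add, conjHom_apply, hN]
      simp only [mul_add, mul_one, Matrix.mul_smul, slot_add', slot_smul', slot_mul']
    rw [e, hrk, rank_slot, mul_comm]
    exact Nat.mul_le_mul_right _ ((Matrix.rank_mul_le_left _ _).trans (rank_alt_le P.S x d))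
  have hσ : σ = 1 := perm_trivial P.hk two (by rw [← hgs]; exact hw3) (by rw [← hgs]; exact hwr) hc
  subst hσ
  rw [factorPerm_one, mul_one] at hgs
  -- the factors may be taken unipotent
  have hwp : w ^ p = 1 := by
    refine Units.ext ?_
    have hN0 : (w.val - 1) ^ p = 0 := pow_eq_zero_of_le hp3 (by rw [pow_succ, pow_two]; exact hw3)
    rw [Units.val_pow_eq_pow_val, Units.val_one, show w.val = (w.val - 1) + 1 by rw [sub_add_cancel],
      add_pow_char_of_commute (p := p) (Commute.one_right _), hN0, one_pow, zero_add]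
  have hgp : (tensGL (gs ^ p) : GL (Fin t → Fin k) F) = 1 := by
    rw [← hwp, hgs]
    exact map_pow (tensHom k t F) gs p
  have hsc : ∀ l, ∃ r : F, r ≠ 0 ∧ ((gs l).val) ^ p = r ^ p • (1 : Matrix (Fin k) (Fin k) F) := fun l => by
    obtain ⟨s, hs0, hs⟩ := tens_eq_one_imp (congrArg Units.val hgp) l
    obtain ⟨r, hr⟩ := (Finite.injective_iff_surjective.mp (frobenius_inj F p)) s
    rw [frobenius_def] at hr
    refine ⟨r, fun e => hs0 ?_, ?_⟩
    · rw [← hr, e, zero_pow hp.out.ne_zero]
    · rw [hr, ← hs, Pi.pow_apply, Units.val_pow_eq_pow_val]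
  choose r hr0 hr using hsc
  set B : Fin t → Matrix (Fin k) (Fin k) F := fun l => (r l)⁻¹ • (gs l).val with hB
  have hBp : ∀ l, B l ^ p = 1 := fun l => by
    rw [hB]
    simp only [smul_pow, hr, smul_smul, ← mul_pow, inv_mul_cancel₀ (hr0 l), one_pow, one_smul]
  have hprod : ∏ l, r l = 1 := by
    refine frobenius_inj F p ?_
    rw [frobenius_def, frobenius_def, one_pow, ← Finset.prod_pow]
    have e1 : tens (fun l => (r l ^ p) • (1 : Matrix (Fin k) (Fin k) F)) = 1 := by
      refine Eq.trans ?_ (congrArg Units.val hgp)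
      show tens _ = tens _
      congr 1
      funext l
      rw [← hr l, Pi.pow_apply, Units.val_pow_eq_pow_val]
    rw [tens_smul, show tens (fun _ : Fin t => (1 : Matrix (Fin k) (Fin k) F)) = 1 from tens_one] at e1
    have e2 := congrFun (congrFun e1 fun _ => ⟨0, hk⟩) fun _ => ⟨0, hk⟩
    simpa using e2
  have hwB : w.val = tens B := by
    rw [hgs, hB, tens_smul]
    simp only [Finset.prod_inv_distrib, hprod, inv_one, one_smul]
    rfl
  have hBO : ∀ l, adj P.S (B l) * B l = 1 := fun l => by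
    have hwO : tensGL gs * factorPerm 1 ∈ O (powS P.S t) := by
      rw [factorPerm_one, mul_one, ← hgs]
      exact expU_mem_O two hN'3 hskew
    obtain ⟨ρ, hρ0, hρ⟩ := similitude_of_mem P.S hwO l
    set c' := (r l)⁻¹ * (r l)⁻¹ * ρ with hc'
    have e1 : adj P.S (B l) * B l = c' • 1 := by
      rw [hB]
      simp only [adj_smul, Matrix.smul_mul, Matrix.mul_smul, hρ, smul_smul, hc']
      congr 1; ring
    have hadjp : ∀ n, adj P.S (B l ^ n) = adj P.S (B l) ^ n := fun n => by
      induction n with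
      | zero => simp [adj_one]
      | succ n ih => rw [pow_succ, adj_mul, ih, pow_succ']
    have hcom : Commute (adj P.S (B l)) (B l) := by
      have hu : B l * (B l) ^ (p - 1) = 1 := by rw [← pow_succ', show p - 1 + 1 = p by omega, hBp]
      have e2 : adj P.S (B l) = c' • (B l) ^ (p - 1) := by
        rw [← mul_one (adj P.S (B l)), ← hu, ← mul_assoc, e1, smul_mul_assoc, one_mul]
      rw [e2]
      exact ((Commute.refl (B l)).pow_left _).smul_left _
    have e3 : c' ^ p = 1 := by
      have h' := congrArg (· ^ p) e1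
      simp only [hcom.mul_pow, smul_pow, one_pow, ← hadjp, hBp, adj_one, one_mul] at h'
      have := congrFun (congrFun h' ⟨0, hk⟩) ⟨0, hk⟩
      simpa using this.symm
    have e4 : c' = 1 := frobenius_inj F p (by rw [frobenius_def, frobenius_def, one_pow, e3])
    rw [e1, e4, one_smul]
  have hL0 : L ≠ 0 := alt_ne_zero P.S h
  have hN'0 : N' ≠ 0 := fun e => by
    rw [e, mul_zero, zero_mul] at hback
    exact hL0 (slot_injective hk i (by rw [slot_zero']; exact hback))
  obtain ⟨l, hl⟩ : ∃ l, B l - 1 ≠ 0 := by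
    by_contra hcc
    push Not at hcc
    have e : w.val = 1 := by
      rw [hwB, ← tens_one]; congr 1; funext l; exact sub_eq_zero.mp (hcc l)
    exact hN'0 (by rw [hwN, e]; simp)
  set a := B l - 1 with ha
  have hBa : B l = 1 + a := by rw [ha, add_sub_cancel]
  set Z := restTens l B with hZ
  set e := splitSlot l k
  have hX : Matrix.reindexAlgEquiv F F e (w.val - 1) =
      a ⊗ₖ Z + (1 : Matrix (Fin k) (Fin k) F) ⊗ₖ (Z - 1) := by
    rw [map_sub, map_one, Matrix.coe_reindexAlgEquiv, hwB, reindex_tens, ← hZ, hBa, Matrix.add_kronecker,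
      ← Matrix.one_kronecker_one (α := F)]
    ext ⟨b, z⟩ ⟨b', z'⟩
    by_cases hb : b = b' <;> by_cases hz : z = z' <;>
      simp [Matrix.kroneckerMap_apply, hb, hz] <;> ring
  have hnil : IsNilpotent (Z - 1) := by
    refine ⟨p, ?_⟩
    have hpow : ∀ n, Z ^ n = restTens l (fun j => B j ^ n) := fun n => by
      induction n with
      | zero => rw [pow_zero, ← restTens_one l]; congr 1
      | succ n ih => rw [pow_succ, ih, hZ, restTens_mul]; congr 1
    have hne : Nonempty (Rest l k) := ⟨fun _ => ⟨0, hk⟩⟩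
    rw [sub_pow_char_of_commute (p := p) (Commute.one_right _), one_pow, hpow,
      restTens_congr (c := 1) fun j _ => hBp j, restTens_one, sub_self]
  have hone : Z = 1 := by
    refine rest_trivial hP hc (a := a) ?_ hl hnil ?_ ?_
    · rw [← hBa]; exact hBO l
    · rw [← hX, ← map_mul, ← map_mul, hw3, map_zero]
    · rw [← hX, Matrix.coe_reindexAlgEquiv, Matrix.rank_reindex, card_rest]
      exact hwr
  have hwl : w.val - 1 = slot l a := by
    refine (Matrix.reindexAlgEquiv F F e).injective ?_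
    rw [hX, hone, Matrix.coe_reindexAlgEquiv, reindex_slot, sub_self]
    simp
  set M := a - (2 : F)⁻¹ • (a * a) with hM
  have hNM : N' = slot l M := by rw [hwN, hwl, ← slot_mul', ← slot_smul', ← slot_sub']
  have hMskew : adj P.S M = -M := by
    refine slot_injective hk l ?_
    rw [← adj_slot, ← hNM, hskew, hNM, ← neg_one_smul F M, slot_smul', neg_one_smul]
  have hM3 : M * M * M = 0 := slot_injective hk l (by rw [slot_mul', slot_mul', ← hNM, hN'3, slot_zero'])
  have hM2 : M * M ≠ 0 := fun e0 => by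
    have e1 : N * N = 0 := by
      rw [hback, hNM, show ∀ A B' : Matrix (Fin t → Fin k) (Fin t → Fin k) F,
        g⁻¹.val * A * g.val * (g⁻¹.val * B' * g.val) = g⁻¹.val * (A * B') * g.val from fun A B' => by
          simp only [mul_assoc, Units.mul_inv_cancel_left],
        ← slot_mul', e0, slot_zero', mul_zero, zero_mul]
    rw [hN, ← slot_mul', hLd, alt_sq P.S h.iso h.orth] at e1
    have e2 := slot_injective hk i (e1.trans (slot_zero' i).symm)
    rw [smul_eq_zero, neg_eq_zero] at e2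
    obtain ⟨z, hz⟩ := exists_pair P.S h.ne0
    have e3 := congrArg (· *ᵥ z) (e2.resolve_left h.aniso)
    simp only [rk_mulVec, zero_mulVec, sf_symm P.S z x, hz, one_smul] at e3
    exact h.ne0 e3
  have hMr : M.rank ≤ 2 := by
    have e1 := hrk N
    rw [← hN', hNM, rank_slot, hN, rank_slot] at e1
    rw [Nat.eq_of_mul_eq_mul_left (pow_pos hk _) e1]
    exact rank_alt_le P.S x d
  obtain ⟨y, e', hye, hMe⟩ := root_of_rank_two two P.S hMskew hM3 hM2 hMr
  exact ⟨l, y, e', hye, by rw [← hMe, ← hNM]⟩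

/-- The image of a slot root whose root group stays in the stabiliser is a slot root. -/
theorem root_image (hP : P.Good) (ht : 1 ≤ t) {g : GL (Fin t → Fin k) F} (hg : IsSim (powS P.S t) g)
    {i : Fin t} {x d : Fin k → F} (h : IsRoot P.S x d)
    (hW : ∀ c : F, c ≠ 0 → g * sRoot P.S hP.two i x (c • d) * g⁻¹ ∈ Geo.tensorWreathStandard k t F) :
    ∃ j y e, IsRoot P.S y e ∧ g.val * slot i (alt P.S x d) * g⁻¹.val = slot j (alt P.S y e) := by
  by_cases hc : (3 : F) ≠ 0 ∨ 4 ≤ k
  · exact root_image_gen hP hc hg h (by simpa using hW 1 one_ne_zero)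
  · rw [not_or, not_ne_iff, not_le] at hc
    exact root_image_three hP (by have := P.hk; omega) hc.1 ht hg h hW

/-- Without fusion, elements outside the stabiliser move the slot roots out of it. -/
theorem noFus_moves (hP : P.Good) (ht : 1 ≤ t) {H : Subgroup (GL (Fin t → Fin k) F)}
    (hH : H ≤ Om (powS P.S t)) (hM : ContainsW P.S H) (hN : NoFus P.S H) : Moves P.S hP.two H := by
  by_cases hc : (3 : F) ≠ 0 ∨ 4 ≤ k
  · intro g hgH hgW i x d hd hwW
    obtain ⟨j, y, e, hye, himg⟩ := root_image_gen hP hc (g := g⁻¹)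
      (IsSim.of_mem (Om_le_O _ hP.two (hH (inv_mem hgH)))) hd (by rw [inv_inv]; exact hwW)
    rw [inv_inv] at himg
    exact hN g hgH hgW i x d j y e hd hye himg
  · rw [not_or, not_ne_iff, not_le] at hc
    exact noFus_moves_three hP (by have := P.hk; omega) hc.1 ht hH hM hN

end Cfsg.Agent.WreathO
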