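import Cfsg.Agent.WreathO.Center
import Cfsg.Agent.MaxSub.OrthVectorGL

/-!
The centres of all lines generate the commutator subgroup of the isometries (helper50).
-/

set_option autoImplicit false
set_option linter.unusedSectionVars false

namespace Cfsg.Agent.WreathO

open Matrix Cfsg.Agent.MaxSub Cfsg.Agent.MaxSub.Asch Cfsg.Agent.FG75.SpinTensor Cfsg.Agent.WreathMax

section General

variable {F : Type*} [Field F] {ι : Type} [Fintype ι] [DecidableEq ι] (S : Sform ι F)

theorem alt_mul_alt_centre {b p q : ι → F} (hb : sf S b b = 0) (hp : sf S b p = 0) (hq : sf S b q = 0) :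
    alt S b p * alt S b q = (-sf S p q) • rk S b b := by
  simp only [alt, sub_mul, mul_sub, rk_mul, hb, hp, sf_symm S q b, hq, sf_symm S q p, zero_smul, sub_zero, zero_sub, neg_smul]

theorem rk_mul_alt_centre {b q : ι → F} (hb : sf S b b = 0) (hq : sf S b q = 0) :
    rk S b b * alt S b q = 0 := by
  simp only [alt, mul_sub, rk_mul, hb, sf_symm S q b, hq, zero_smul, sub_zero]

/-- Siegel transformations of one centre add. -/
theorem root_centre_add (two : (2 : F) ≠ 0) {b p q : ι → F} (hb : sf S b b = 0) (hp : sf S b p = 0)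
    (hq : sf S b q = 0) : root S two b p * root S two b q = root S two b (p + q) := by
  have hpq : sf S b (p + q) = 0 := by rw [sf_add_right, hp, hq, add_zero]
  refine Units.ext ?_
  rw [Units.val_mul, root, root, root, expU_coe two (alt_cube S hb hp), expU_coe two (alt_cube S hb hq),
    expU_coe two (alt_cube S hb hpq), alt_sq S hb hp, alt_sq S hb hq, alt_sq S hb hpq]
  have h1 := alt_mul_alt_centre S hb hp hq
  have h2 := rk_mul_alt_centre S hb hq
  have h3 : alt S b p * rk S b b = 0 := by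
    simp only [alt, sub_mul, rk_mul, hb, hp, zero_smul, sub_zero]
  have h4 : rk S b b * rk S b b = 0 := by rw [rk_mul, hb, zero_smul]
  simp only [mul_add, add_mul, one_mul, mul_one, Matrix.smul_mul, Matrix.mul_smul, h1, h2, h3, h4, smul_zero,
    add_zero, alt_add_right, sf_add_left, sf_add_right, sf_symm S q p]
  match_scalars <;> field_simp <;> ring

/-- The action of a Siegel transformation. -/
theorem root_mulVec (two : (2 : F) ≠ 0) {x d : ι → F} (hx : sf S x x = 0) (hxd : sf S x d = 0) (v : ι → F) :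
    (root S two x d).val *ᵥ v =
      v + sf S v d • x - sf S v x • d - ((2 : F)⁻¹ * sf S d d * sf S v x) • x := by
  rw [root, expU_coe two (alt_cube S hx hxd), alt_sq S hx hxd, add_mulVec, add_mulVec, one_mulVec, alt_mulVec,
    smul_mulVec, smul_mulVec, rk_mulVec]
  module

theorem root_conj (two : (2 : F) ≠ 0) {g : GL ι F} (hg : g ∈ O S) {x d : ι → F} (hx : sf S x x = 0)
    (hxd : sf S x d = 0) : g * root S two x d * g⁻¹ = root S two (g.val *ᵥ x) (g.val *ᵥ d) := by
  rw [root, conj_expU two g (alt_cube S hx hxd), conj_alt S hg, root]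

theorem root_centre_mem_O (two : (2 : F) ≠ 0) {x d : ι → F} (hx : sf S x x = 0) (hxd : sf S x d = 0) :
    root S two x d ∈ O S :=
  expU_mem_O two (alt_cube S hx hxd) (adj_alt S x d)

/-- The vectors `p` orthogonal to `b` with `root(b, p)` in `H`. -/
def InR (two : (2 : F) ≠ 0) (H : Subgroup (GL ι F)) (b p : ι → F) : Prop :=
  sf S b p = 0 ∧ root S two b p ∈ H

variable {S} {two : (2 : F) ≠ 0} {H : Subgroup (GL ι F)} {b : ι → F}

theorem InR.zero : InR S two H b 0 := by
  refine ⟨sf_zero_right S b, ?_⟩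
  rw [root, show alt S b 0 = 0 by rw [alt, rk_zero_right, rk_zero_left, sub_zero], expU_zero]
  exact one_mem H

theorem InR.add (hb : sf S b b = 0) {p q : ι → F} (hp : InR S two H b p) (hq : InR S two H b q) :
    InR S two H b (p + q) :=
  ⟨by rw [sf_add_right, hp.1, hq.1, add_zero], root_centre_add S two hb hp.1 hq.1 ▸ mul_mem hp.2 hq.2⟩

theorem InR.neg (hb : sf S b b = 0) {p : ι → F} (hp : InR S two H b p) : InR S two H b (-p) := by
  have h0 : sf S b (-p) = 0 := by rw [sf_neg_right, hp.1, neg_zero]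
  refine ⟨h0, ?_⟩
  rw [show root S two b (-p) = (root S two b p)⁻¹ from (inv_eq_of_mul_eq_one_right (by
    rw [root_centre_add S two hb hp.1 h0, add_neg_cancel, root,
      show alt S b 0 = 0 by rw [alt, rk_zero_right, rk_zero_left, sub_zero], expU_zero])).symm]
  exact inv_mem hp.2

theorem InR.sub (hb : sf S b b = 0) {p q : ι → F} (hp : InR S two H b p) (hq : InR S two H b q) :
    InR S two H b (p - q) := sub_eq_add_neg p q ▸ hp.add hb (hq.neg hb)

theorem InR.sum (hb : sf S b b = 0) {κ : Type*} (s : Finset κ) (p : κ → ι → F)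
    (hp : ∀ c ∈ s, InR S two H b (p c)) : InR S two H b (∑ c ∈ s, p c) :=
  Finset.sum_induction _ _ (fun _ _ h h' => h.add hb h') InR.zero hp

open OrthStab Cfsg.Agent.UnitaryOrthogonal QuadraticMap in
/-- Two non-orthogonal centres, with all their Siegel transformations, give `Ω`. -/
theorem Om_le_of_hypPair [Fintype F] (h5 : 5 ≤ Fintype.card ι) (hH : H ≤ Om S) {e f : ι → F}
    (he : sf S e e = 0) (hef : sf S e f ≠ 0) (hR : ∀ p, sf S e p = 0 → root S two e p ∈ H)
    {g : GL ι F} (hg : g ∈ H) (hf : g.val *ᵥ e = f) : Om S ≤ H := by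
  have hnd : PolarND (qf S) := (polarBilin_qf_nondegenerate S two).1
  have h5' : 5 ≤ Module.finrank F (ι → F) := by rwa [Module.finrank_fintype_fun_eq_card]
  let ψ := isometryGroupEquiv (qf S) (f := ⇑(qf S)) (fun _ => rfl)
  let M' : Subgroup (UnitaryOrthogonal.orth (qf S)) :=
    (H.comap (Cfsg.isometryGroup F ⇑(qf S)).subtype).map ψ.toMonoidHom
  have hgO : g ∈ O S := Om_le_O S two (hH hg)
  have hfull : OrthStab.Full M' e := by
    intro z hz
    rw [polar_qf] at hz
    have hez : sf S e z = 0 := (mul_eq_zero.mp hz).resolve_left two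
    have hez' : sf S e ((-2 : F) • z) = 0 := by rw [sf_smul_right, hez, mul_zero]
    refine ⟨⟨root S two e ((-2 : F) • z),
      (mem_isometryGroup_iff S two).mpr (root_centre_mem_O S two he hez')⟩, hR _ hez', ?_⟩
    refine orth_ext fun x => ?_
    rw [eich_apply (by rw [qf_apply, he]) (by rw [polar_qf, hez, mul_zero])]
    show (root S two e ((-2 : F) • z)).val *ᵥ x = _
    rw [root_mulVec S two he hez', polar_qf, polar_qf, qf_apply, sf_smul_right, sf_smul_right, sf_smul_left,
      sf_symm S x e, sf_symm S z x]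
    match_scalars <;> field_simp
  have hgM : toOrth ⟨g, (mem_isometryGroup_iff S two).mpr hgO⟩ ∈ M' :=
    ⟨⟨g, (mem_isometryGroup_iff S two).mpr hgO⟩, hg, rfl⟩
  have hfull' : OrthStab.Full M' f := by
    have := hfull.map hgM
    rwa [show (toOrth ⟨g, (mem_isometryGroup_iff S two).mpr hgO⟩).1 e = f from hf] at this
  have hff : sf S f f = 0 := by rw [← hf, (mem_isom.mp hgO), he]
  have hle := eichGroup_le_of_hypPair hnd h5' (by rw [qf_apply, he]) (by rw [qf_apply, hff])
    (by rw [polar_qf]; exact mul_ne_zero two hef) hfull hfull'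
  rintro _ ⟨g₁, hg₁, rfl⟩
  obtain ⟨g₂, hg₂, hgg⟩ := hle ((OrthStab.mem_omega_iff hnd h5' g₁).mp hg₁)
  exact (ψ.injective hgg) ▸ hg₂

end General

variable {F : Type*} [Field F] {k t : ℕ} {P : Std k F}

theorem alt_cz (x : Fin k → F) (a c : (Fin t → Fin k) → F) :
    alt (powS P.S (t + 1)) (cz x a) (cz x c) = kz (rk P.S x x) (alt (powS P.S t) a c) := by
  rw [alt, alt, rk_cz, rk_cz, sub_eq_add_neg, sub_eq_add_neg, kz_add_right, kz_neg_right]

theorem cz_single (a : Fin k) (v : Fin t → Fin k) (r : F) :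
    cz (Pi.single a (1 : F)) (Pi.single v r) = Pi.single (Fin.cons a v) r := by
  funext c
  rw [← Fin.cons_self_tail c]
  simp only [cz, Fin.cons_zero, Fin.tail_cons, Pi.single_apply, Fin.cons_inj]
  split_ifs <;> simp_all

theorem Std.J_const0 (P : Std k F) : P.S.J P.i0 = P.i1 := Equiv.swap_apply_left _ _

theorem Std.J_const1 (P : Std k F) : P.S.J P.i1 = P.i0 := Equiv.swap_apply_right _ _

theorem powS_J_const0 : (powS P.S t).J (fun _ => P.i0) = fun _ => P.i1 := funext fun _ => P.J_const0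

theorem powS_J_const1 : (powS P.S t).J (fun _ => P.i1) = fun _ => P.i0 := funext fun _ => P.J_const1

theorem sf_base (z : (Fin t → Fin k) → F) :
    sf (powS P.S t) (Pi.single (fun _ => P.i0) 1) z = z (fun _ => P.i1) := by
  rw [sf_single, powS_J_const0]
  show (∏ _i : Fin t, P.w P.i0) * _ = _
  rw [Finset.prod_eq_one fun i _ => P.w0 P.i0 (show (0 : ℕ) < 2 by omega), one_mul]

theorem base_iso (ht : 1 ≤ t) :
    sf (powS P.S t) (Pi.single (fun _ => P.i0) 1) (Pi.single (fun _ => P.i0) 1) = 0 := by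
  rw [sf_base, Pi.single_eq_of_ne fun h => P.i0_ne_i1 (congrFun h ⟨0, ht⟩).symm]

theorem base_succ :
    (Pi.single (fun _ => P.i0) 1 : (Fin (t + 1) → Fin k) → F) =
      cz P.eo (Pi.single (fun _ => P.i0) 1) := by
  rw [Std.eo, cz_single]
  congr 1
  funext i
  refine Fin.cases ?_ (fun j => ?_) i <;> simp

theorem exists_dual_pair (ht : 1 ≤ t) (z : (Fin t → Fin k) → F) (hz : z ≠ 0) :
    ∃ z' a, sf (powS P.S t) (Pi.single (fun _ => P.i0) 1) z' = 0 ∧
      sf (powS P.S t) a z = 0 ∧ sf (powS P.S t) a z' = 1 := by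
  obtain ⟨j, hj⟩ := Function.ne_iff.mp hz
  have hne : (fun _ => P.i0 : Fin t → Fin k) ≠ fun _ => P.i2 := fun h => P.i2_ne.1 (congrFun h ⟨0, ht⟩).symm
  obtain ⟨c, hcj, hc1⟩ : ∃ c : Fin t → Fin k, c ≠ j ∧ c ≠ fun _ => P.i1 := by
    by_cases h : j = fun _ => P.i0
    · exact ⟨fun _ => P.i2, h ▸ hne.symm, fun e => P.i2_ne.2 (congrFun e ⟨0, ht⟩)⟩
    · exact ⟨fun _ => P.i0, Ne.symm h, fun e => P.i0_ne_i1 (congrFun e ⟨0, ht⟩)⟩
  set St := powS P.S t
  refine ⟨Pi.single c 1, (St.w c)⁻¹ • Pi.single (St.J c) 1 + (-(z c) / (St.w j * z j)) • Pi.single (St.J j) 1,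
    ?_, ?_, ?_⟩
  · rw [sf_base, Pi.single_eq_of_ne (Ne.symm hc1)]
  · rw [sf_add_left, sf_smul_left, sf_smul_left, sf_single, sf_single, St.inv, St.inv, St.w_J, St.w_J]
    have := St.w_ne c
    have := St.w_ne j
    have : z j ≠ 0 := hj
    field_simp
    ring
  · rw [sf_add_left, sf_smul_left, sf_smul_left, sf_single, sf_single, St.inv, St.inv, St.w_J, St.w_J,
      Pi.single_eq_same, Pi.single_eq_of_ne (Ne.symm hcj)]
    have := St.w_ne c
    field_simp
    ring

theorem root_ew_eo (two : (2 : F) ≠ 0) {d : Fin k → F} (hd : P.IsMid d) :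
    (root P.S two P.ew d).val *ᵥ P.eo = P.eo - d - ((2 : F)⁻¹ * sf P.S d d) • P.ew := by
  rw [root_mulVec P.S two P.ew_iso hd.ew', hd.eo', P.eo_ew]
  simp

variable [Fintype F] {H : Subgroup (GL (Fin (t + 1) → Fin k) F)}

theorem root_eo_mem (two : (2 : F) ≠ 0) (hfull : ∀ Z, adj (powS P.S t) Z = -Z → InC P H Z)
    (a c : (Fin t → Fin k) → F) : root (powS P.S (t + 1)) two (cz P.eo a) (cz P.eo c) ∈ H := by
  obtain ⟨g, hg, e⟩ := hfull _ (adj_alt (powS P.S t) a c)
  have hsq : alt (powS P.S (t + 1)) (cz P.eo a) (cz P.eo c) * alt (powS P.S (t + 1)) (cz P.eo a) (cz P.eo c) = 0 := by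
    rw [alt_cz, kz_mul, show rk P.S P.eo P.eo = P.E from rfl, E_sq, kz_zero_left]
  suffices root (powS P.S (t + 1)) two (cz P.eo a) (cz P.eo c) = g by rwa [this]
  refine Units.ext ?_
  rw [root, expU_coe two (by rw [hsq, zero_mul]), hsq, smul_zero, add_zero, alt_cz, e]
  rfl

/-- The slot part: `x ⊗ z` for `z` orthogonal to the base. -/
theorem InR.of_slot (hP : P.Good) (ht : 1 ≤ t) (hH : H ≤ Om (powS P.S (t + 1))) (hM : ContainsW P.S H)
    (hfull : ∀ Z, adj (powS P.S t) Z = -Z → InC P H Z) (x : Fin k → F) {z : (Fin t → Fin k) → F}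
    (hz : z (fun _ => P.i1) = 0) :
    InR (powS P.S (t + 1)) hP.two H (Pi.single (fun _ => P.i0) 1) (cz x z) := by
  have two := hP.two
  set Sn := powS P.S (t + 1)
  set b0 : (Fin t → Fin k) → F := Pi.single (fun _ => P.i0) 1 with hb0
  set b : (Fin (t + 1) → Fin k) → F := Pi.single (fun _ => P.i0) 1 with hbdef
  have hb : b = cz P.eo b0 := base_succ
  have hbb : sf Sn b b = 0 := base_iso (by omega)
  let R := InR Sn hP.two H b
  have cz_smul : ∀ (r : F) (x : Fin k → F) (z : (Fin t → Fin k) → F), cz (r • x) z = cz x (r • z) := by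
    intro r x z; funext a; simp [cz, mul_left_comm, mul_assoc]
  have cz_add : ∀ (x x' : Fin k → F) (z : (Fin t → Fin k) → F), cz (x + x') z = cz x z + cz x' z := by
    intro x x' z; funext a; simp [cz, add_mul]
  -- the first vector
  have ho : ∀ z, R (cz P.eo z) := fun z =>
    ⟨by rw [hb, sf_cz, P.eo_iso, zero_mul], hb ▸ root_eo_mem hP.two hfull b0 z⟩
  -- the moved vectors
  have hy : ∀ d, P.IsMid d → sf P.S d d ≠ 0 → ∀ z : (Fin t → Fin k) → F, z (fun _ => P.i1) = 0 →
      R (cz ((root P.S hP.two P.ew d).val *ᵥ P.eo) z) := by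
    intro d hd hdd z hz
    set y := (root P.S hP.two P.ew d).val *ᵥ P.eo with hy
    set c := sf P.S P.eo y with hc
    have hc0 : c ≠ 0 := by
      rw [hc, hy, root_ew_eo hP.two hd, sf_sub_right, sf_sub_right, sf_smul_right, P.eo_iso, hd.eo', P.eo_ew]
      simp [hdd, two]
    by_cases hz0 : z = 0
    · have : cz y z = 0 := by subst hz0; funext a; simp [cz]
      rw [this]; exact InR.zero
    set z2 := (-c⁻¹) • z with hz2
    have hz20 : z2 ≠ 0 := smul_ne_zero (neg_ne_zero.mpr (inv_ne_zero hc0)) hz0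
    obtain ⟨z', a, hbz', haz2, haz'⟩ := exists_dual_pair (P := P) ht z2 hz20
    have hbz2 : sf (powS P.S t) b0 z2 = 0 := by rw [hz2, sf_smul_right, hb0, sf_base, hz, mul_zero]
    have hr : IsRoot P.S P.ew d := ⟨P.ew_iso, hd.ew', hdd, P.ew_ne_zero⟩
    have hG : sRoot P.S hP.two (0 : Fin (t + 1)) P.ew d ∈ H := sRoot_mem P.S hP.two hM 0 hr
    have hGO := Om_le_O Sn hP.two (hH hG)
    have hGv : ∀ u : (Fin t → Fin k) → F,
        (sRoot P.S hP.two (0 : Fin (t + 1)) P.ew d).val *ᵥ cz P.eo u = cz y u := fun u => by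
      rw [sRoot, ← kzU_one_eq_slotU, kzU_coe, kz_mulVec_cz, Units.val_one, one_mulVec]
    have hyy : sf P.S y y = 0 := by
      rw [hy, mem_isom.mp (Om_le_O P.S hP.two (root_mem_Om P.S hP.two hr)), P.eo_iso]
    have hX : sf Sn (cz y z') (cz y z') = 0 := by rw [sf_cz, hyy, zero_mul]
    have hXD : sf Sn (cz y z') (cz y z2) = 0 := by rw [sf_cz, hyy, zero_mul]
    have hD : sf Sn (cz y z2) (cz y z2) = 0 := by rw [sf_cz, hyy, zero_mul]
    have hY : root Sn hP.two (cz y z') (cz y z2) ∈ H := by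
      rw [← hGv, ← hGv, ← root_conj Sn hP.two hGO (by rw [sf_cz, P.eo_iso, zero_mul])
        (by rw [sf_cz, P.eo_iso, zero_mul])]
      exact mul_mem (mul_mem hG (root_eo_mem hP.two hfull _ _)) (inv_mem hG)
    have hYO := root_centre_mem_O Sn hP.two hX hXD
    have hYb : (root Sn hP.two (cz y z') (cz y z2)).val *ᵥ b = b := by
      rw [root_mulVec Sn hP.two hX hXD, hD, hb, sf_cz, sf_cz, hbz2, hbz']
      simp
    have hYp : (root Sn hP.two (cz y z') (cz y z2)).val *ᵥ cz P.eo a = cz P.eo a + cz y z := by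
      rw [root_mulVec Sn hP.two hX hXD, hD, sf_cz, sf_cz, haz2, haz', hz2]
      funext i
      simp [cz, ← hc]
      field_simp
    have h1 : R (cz P.eo a + cz y z) := by
      refine ⟨by rw [sf_add_right, (ho a).1, hb, sf_cz, hb0, sf_base, hz, mul_zero, add_zero], ?_⟩
      have := mul_mem (mul_mem hY (ho a).2) (inv_mem hY)
      rwa [root_conj Sn hP.two hYO hbb (ho a).1, hYb, hYp] at this
    have := h1.sub hbb (ho a)
    rwa [add_sub_cancel_left] at this
  -- anisotropic middle vectors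
  have hd : ∀ d, P.IsMid d → sf P.S d d ≠ 0 → ∀ z : (Fin t → Fin k) → F, z (fun _ => P.i1) = 0 →
      R (cz d z) := by
    intro d hd hdd z hz
    have hd' : P.IsMid (-d) := ⟨by simp [hd.1], by simp [hd.2]⟩
    have hdd' : sf P.S (-d) (-d) = sf P.S d d := by rw [sf_neg_left, sf_neg_right, neg_neg]
    have hz' : ((2 : F)⁻¹ • z) (fun _ => P.i1) = 0 := by simp [hz]
    have := (hy (-d) hd' (by rwa [hdd']) _ hz').sub hbb (hy d hd hdd _ hz')
    rw [root_ew_eo hP.two hd', root_ew_eo hP.two hd, hdd'] at this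
    convert this using 1
    funext a
    simp [cz]
    field_simp
    ring
  -- the second vector
  have hw : ∀ z : (Fin t → Fin k) → F, z (fun _ => P.i1) = 0 → R (cz P.ew z) := by
    intro z hz
    obtain ⟨c0, c1⟩ := P.i2_ne
    have hmid := Std.isMid_single (P := P) c0 c1
    have hdd : sf P.S (Pi.single P.i2 1) (Pi.single P.i2 1) ≠ 0 := by
      rw [Std.sf_single_mid c0 c1]; exact P.w_ne _
    set e := (2 : F)⁻¹ * sf P.S (Pi.single P.i2 1) (Pi.single P.i2 1) with he
    have he0 : e ≠ 0 := mul_ne_zero (inv_ne_zero two) hdd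
    have hz' : (e⁻¹ • z) (fun _ => P.i1) = 0 := by simp [hz]
    have := ((ho (e⁻¹ • z)).sub hbb (hy _ hmid hdd _ hz')).sub hbb (hd _ hmid hdd _ hz')
    rw [root_ew_eo hP.two hmid, ← he] at this
    convert this using 1
    funext a
    simp [cz]
    field_simp
    ring
  have hsing : ∀ (a : Fin k) (r : F), R (cz (r • Pi.single a 1) z) := by
    intro a r
    rw [cz_smul]
    have hz' : (r • z) (fun _ => P.i1) = 0 := by simp [hz]
    rcases eq_or_ne a P.i0 with rfl | a0
    · exact ho _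
    rcases eq_or_ne a P.i1 with rfl | a1
    · exact hw _ hz'
    exact hd _ (Std.isMid_single a0 a1) (by rw [Std.sf_single_mid a0 a1]; exact P.w_ne _) _ hz'
  have e : cz x z = ∑ a, cz (x a • Pi.single a 1) z := by
    funext i
    simp [cz, Finset.sum_apply, Pi.single_apply]
  rw [e]
  exact InR.sum hbb _ _ fun a _ => hsing a _

theorem InR.single (hP : P.Good) (ht : 1 ≤ t) (hH : H ≤ Om (powS P.S (t + 1))) (hM : ContainsW P.S H)
    (hfull : ∀ Z, adj (powS P.S t) Z = -Z → InC P H Z) {c : Fin (t + 1) → Fin k}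
    (hc : Fin.tail c ≠ fun _ => P.i1) (r : F) :
    InR (powS P.S (t + 1)) hP.two H (Pi.single (fun _ => P.i0) 1) (Pi.single c r) := by
  have := InR.of_slot hP ht hH hM hfull (Pi.single (c 0) 1) (z := Pi.single (Fin.tail c) r)
    (Pi.single_eq_of_ne (Ne.symm hc) _)
  rwa [cz_single, Fin.cons_self_tail] at this

/-- All centres of the lines give `Ω`, with the propagation of the centres as a hypothesis. -/
theorem Om_le_of_full_of_all (hP : P.Good) (ht : 1 ≤ t) (hH : H ≤ Om (powS P.S (t + 1))) (hM : ContainsW P.S H)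
    (hall : ∀ H' : Subgroup (GL (Fin (t + 1) → Fin k) F), H' ≤ Om (powS P.S (t + 1)) → ContainsW P.S H' →
      ∀ Z0, InC P H' Z0 → Z0 ≠ 0 → ∀ Z, adj (powS P.S t) Z = -Z → InC P H' Z)
    (hfull : ∀ Z, adj (powS P.S t) Z = -Z → InC P H Z) : Om (powS P.S (t + 1)) ≤ H := by
  have two := hP.two
  set Sn := powS P.S (t + 1)
  set b : (Fin (t + 1) → Fin k) → F := Pi.single (fun _ => P.i0) 1 with hbdef
  have hbb : sf Sn b b = 0 := base_iso (by omega)
  -- the swap of the first two slots
  let l : Fin t := ⟨0, ht⟩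
  let σ : Equiv.Perm (Fin (t + 1)) := Equiv.swap 0 l.succ
  have hτO : (factorPerm σ : GL (Fin (t + 1) → Fin k) F) ∈ O Sn := factorPerm_mem_O P.S σ
  have hτs : ∀ (c : Fin (t + 1) → Fin k) (r : F),
      (factorPerm σ : GL (Fin (t + 1) → Fin k) F).val *ᵥ Pi.single c r = Pi.single (c ∘ σ) r := by
    intro c r
    rw [factorPerm_mulVec]
    funext x
    have : x ∘ σ = c ↔ x = c ∘ σ := by
      constructor <;> rintro rfl <;> funext i <;> simp [σ]
    simp only [Pi.single_apply, this]
  have hτb : (factorPerm σ : GL (Fin (t + 1) → Fin k) F).val *ᵥ b = b := hτs _ _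
  let φ := (MulAut.conj (factorPerm σ : GL (Fin (t + 1) → Fin k) F)).toMonoidHom
  have hH₁ : H.comap φ ≤ Om Sn := fun x hx => by
    have := Om_conj Sn hP.two (inv_mem hτO) (hH hx)
    simpa [φ, mul_assoc] using this
  have hM₁ : ContainsW P.S (H.comap φ) := fun v hv hvO =>
    hM _ (mul_mem (mul_mem (factorPerm_mem σ) hv) (inv_mem (factorPerm_mem σ))) (Om_conj Sn hP.two hτO hvO)
  have hτR : ∀ c r, InR Sn hP.two (H.comap φ) b (Pi.single c r) → InR Sn hP.two H b (Pi.single (c ∘ σ) r) := by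
    intro c r h
    have h1 : root Sn hP.two b (Pi.single (c ∘ σ) r) ∈ H := by
      have h2 : factorPerm σ * root Sn hP.two b (Pi.single c r) * (factorPerm σ)⁻¹ ∈ H := h.2
      rwa [root_conj Sn hP.two hτO hbb h.1, hτb, hτs] at h2
    refine ⟨?_, h1⟩
    have := mem_isom.mp hτO b (Pi.single c r)
    rwa [hτb, hτs, h.1] at this
  -- a centre for the conjugate
  have hfull₁ : ∀ Z, adj (powS P.S t) Z = -Z → InC P (H.comap φ) Z := by
    obtain ⟨c0, c1⟩ := P.i2_ne
    set c' : Fin t → Fin k := Function.update (fun _ => P.i0) l P.i2 with hc'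
    set p : (Fin t → Fin k) → F := Pi.single c' 1 with hp
    have hc : (Fin.cons P.i2 (fun _ => P.i0) : Fin (t + 1) → Fin k) = (Fin.cons P.i0 c') ∘ σ := by
      funext i
      refine Fin.cases ?_ (fun j => ?_) i
      · simp [σ, c']
      · rcases eq_or_ne j l with rfl | hj
        · simp [σ]
        · simp [σ, c', Equiv.swap_apply_of_ne_of_ne (Fin.succ_ne_zero j) ((Fin.succ_injective t).ne hj),
            Function.update_of_ne ((Fin.succ_injective t).ne hj)]
    have hR := InR.single hP ht hH hM hfull (c := Fin.cons P.i2 fun _ => P.i0)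
      (by rw [Fin.tail_cons]; exact fun h => P.i0_ne_i1 (congrFun h l)) 1
    have h1 : root Sn hP.two b (Pi.single (Fin.cons P.i0 c') (1 : F)) ∈ H.comap φ := by
      show factorPerm σ * _ * (factorPerm σ)⁻¹ ∈ H
      have h0 : sf Sn b (Pi.single (Fin.cons P.i0 c') (1 : F)) = 0 := by
        rw [sf_base, Pi.single_eq_of_ne fun h => P.i0_ne_i1 (congrFun h 0).symm]
      rw [root_conj Sn hP.two hτO hbb h0, hτb, hτs, ← hc]
      exact hR.2
    rw [show b = cz P.eo (Pi.single (fun _ => P.i0) 1) from base_succ, ← cz_single, ← Std.eo] at h1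
    set b0 : (Fin t → Fin k) → F := Pi.single (fun _ => P.i0) 1 with hb0
    refine hall _ hH₁ hM₁ (alt (powS P.S t) b0 p) ⟨_, h1, ?_⟩ fun h0 => ?_
    · have hsq : alt Sn (cz P.eo b0) (cz P.eo p) * alt Sn (cz P.eo b0) (cz P.eo p) = 0 := by
        rw [alt_cz, kz_mul, show rk P.S P.eo P.eo = P.E from rfl, E_sq, kz_zero_left]
      rw [root, expU_coe two (by rw [hsq, zero_mul]), hsq, smul_zero, add_zero, alt_cz]
      rfl
    · have h2 : (alt (powS P.S t) b0 p *ᵥ Pi.single (fun _ => P.i1) (1 : F)) c' = 0 := by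
        rw [h0, zero_mulVec]; rfl
      have hne : c' ≠ fun _ => P.i0 := fun h => c0 (by simpa [c'] using congrFun h l)
      rw [alt_mulVec, sf_single, sf_single, powS_J_const1] at h2
      simp [hb0, hp, Pi.single_eq_of_ne (Ne.symm hne), (powS P.S t).w_ne] at h2
  -- the whole radical
  have hR : ∀ p, sf Sn b p = 0 → root Sn hP.two b p ∈ H := by
    intro p hp
    have e : p = ∑ c, Pi.single c (p c) := (Finset.univ_sum_single p).symm
    suffices InR Sn hP.two H b p from this.2
    rw [e]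
    refine InR.sum hbb _ _ fun c _ => ?_
    by_cases htc : Fin.tail c = fun _ => P.i1
    · rcases eq_or_ne (c 0) P.i1 with h | h
      · have hc1 : c = fun _ => P.i1 := by
          funext i; refine Fin.cases h (fun j => congrFun htc j) i
        rw [sf_base] at hp
        rw [hc1, hp, Pi.single_zero]
        exact InR.zero
      · have : c = (c ∘ σ) ∘ σ := by funext i; simp [σ]
        rw [this]
        refine hτR _ _ (InR.single hP ht hH₁ hM₁ hfull₁ ?_ _)
        intro hh
        have := congrFun hh l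
        simp [Fin.tail, σ] at this
        exact h this
    · exact InR.single hP ht hH hM hfull htc _
  -- the opposite centre
  obtain ⟨c0, c1⟩ := P.i2_ne
  set m : Fin k → F := Pi.single P.i2 1 with hm
  have hmid : P.IsMid m := Std.isMid_single c0 c1
  have hmm : sf P.S m m ≠ 0 := by rw [hm, Std.sf_single_mid c0 c1]; exact P.w_ne _
  set g : GL (Fin (t + 1) → Fin k) F := tensGL fun _ => root P.S hP.two P.ew m with hg
  have hgH : g ∈ H := by
    refine hM g (tensGL_mem _) ?_
    have hhalf : sf P.S P.ew ((2 : F)⁻¹ • m) = 0 := by rw [sf_smul_right, hmid.ew', mul_zero]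
    have hcube := alt_cube P.S P.ew_iso hmid.ew'
    have hh : root P.S hP.two P.ew m =
        root P.S hP.two P.ew ((2 : F)⁻¹ • m) * root P.S hP.two P.ew ((2 : F)⁻¹ • m) := by
      rw [root, root, alt_smul_right, expU_mul hP.two hcube,
        show (2 : F)⁻¹ + (2 : F)⁻¹ = 1 by field_simp; norm_num, one_smul]
    rw [hg, hh, show (fun _ : Fin (t + 1) => root P.S hP.two P.ew ((2 : F)⁻¹ • m) *
      root P.S hP.two P.ew ((2 : F)⁻¹ • m)) = (fun _ => root P.S hP.two P.ew ((2 : F)⁻¹ • m)) *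
      (fun _ => root P.S hP.two P.ew ((2 : F)⁻¹ • m)) from rfl, ← tensGL_mul]
    exact sq_mem_Om Sn hP.two (tensGL_mem_O P.S fun _ => root_centre_mem_O P.S hP.two P.ew_iso hhalf)
  refine Om_le_of_hypPair (S := Sn) (two := hP.two) (H := H) (e := b) ?_ hH hbb ?_ hR hgH rfl
  · rw [Fintype.card_fun, Fintype.card_fin, Fintype.card_fin]
    calc 5 ≤ 3 ^ 2 := by norm_num
      _ ≤ k ^ 2 := Nat.pow_le_pow_left P.hk 2
      _ ≤ k ^ (t + 1) := Nat.pow_le_pow_right (by have := P.hk; omega) (by omega)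
  · have hy : (root P.S hP.two P.ew m).val P.i1 P.i0 = -((2 : F)⁻¹ * sf P.S m m) := by
      have := congrFun (root_ew_eo (P := P) hP.two hmid) P.i1
      simpa [Std.eo, Std.ew, Matrix.mulVec_single, hmid.2, P.i0_ne_i1.symm] using this
    rw [hbdef, sf_base, Matrix.mulVec_single, hg]
    simp [tensGL, tens_apply, hy, hmm, two]

end Cfsg.Agent.WreathO
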