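import Cfsg.Agent.WreathO.Defs

/-!
Reflections: a product of two reflections of the same norm lies in the commutator subgroup (helper1).
-/

set_option autoImplicit false
set_option linter.unusedSectionVars false

namespace Cfsg.Agent.WreathO

open Matrix Cfsg.Agent.MaxSub Cfsg.Agent.MaxSub.Asch

variable {F : Type*} [Field F] {ι : Type} [Fintype ι] [DecidableEq ι] (S : Sform ι F)

open Classical in
/-- The reflection along an anisotropic vector. -/
noncomputable def refl (x : ι → F) : GL ι F :=
  if h : sf S x x = 0 then 1 else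
    ⟨1 - (2 / sf S x x) • rk S x x, 1 - (2 / sf S x x) • rk S x x, by
      simp only [mul_sub, sub_mul, one_mul, mul_one, smul_mul_smul_comm, rk_mul, smul_smul]
      match_scalars <;> field_simp <;> ring, by
      simp only [mul_sub, sub_mul, one_mul, mul_one, smul_mul_smul_comm, rk_mul, smul_smul]
      match_scalars <;> field_simp <;> ring⟩

variable {S}

theorem refl_coe {x : ι → F} (h : sf S x x ≠ 0) :
    (refl S x).val = 1 - (2 / sf S x x) • rk S x x := by rw [refl, dif_neg h]

theorem refl_mulVec {x : ι → F} (h : sf S x x ≠ 0) (z : ι → F) :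
    (refl S x).val *ᵥ z = z - (2 * sf S z x / sf S x x) • x := by
  rw [refl_coe h, sub_mulVec, one_mulVec, smul_mulVec, rk_mulVec, smul_smul, div_mul_eq_mul_div]

theorem refl_mem_O {x : ι → F} (h : sf S x x ≠ 0) : refl S x ∈ O S := by
  rw [mem_O_iff, refl_coe h, adj_sub, adj_one, adj_smul, adj_rk]
  simp only [mul_sub, sub_mul, one_mul, mul_one, smul_mul_smul_comm, rk_mul, smul_smul]
  match_scalars <;> field_simp <;> ring

theorem refl_inv (x : ι → F) : (refl S x)⁻¹ = refl S x := by
  by_cases h : sf S x x = 0
  · rw [refl, dif_pos h, inv_one]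
  · refine inv_eq_of_mul_eq_one_right (Units.ext ?_)
    rw [Units.val_mul, refl_coe h, Units.val_one]
    simp only [mul_sub, sub_mul, one_mul, mul_one, smul_mul_smul_comm, rk_mul, smul_smul]
    match_scalars <;> field_simp <;> ring

theorem refl_conj {g : GL ι F} (hg : g ∈ O S) {x : ι → F} (h : sf S x x ≠ 0) :
    g * refl S x * g⁻¹ = refl S (g.val *ᵥ x) := by
  have e : sf S (g.val *ᵥ x) (g.val *ᵥ x) = sf S x x := by
    rw [adj_mulVec, mulVec_mulVec, (mem_O_iff S).mp hg, one_mulVec]
  refine Units.ext ?_
  rw [Units.val_mul, Units.val_mul, refl_coe h, refl_coe (by rw [e]; exact h), e, mul_sub, sub_mul, mul_one,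
    Units.mul_inv, mul_smul_comm, smul_mul_assoc, conj_rk S hg]

theorem refl_neg (x : ι → F) : refl S (-x) = refl S x := by
  by_cases h : sf S x x = 0
  · rw [refl, refl, dif_pos h, dif_pos (by simp [sf_neg_left, sf_neg_right, h])]
  · refine Units.ext ?_
    rw [refl_coe h, refl_coe (by simpa [sf_neg_left, sf_neg_right] using h)]
    simp [sf_neg_left, sf_neg_right, rk_neg_left, rk_neg_right]

/-- Two reflections of the same norm multiply to an element of the commutator subgroup. -/
theorem refl_mul_refl_mem_Om (two : (2 : F) ≠ 0) {x y : ι → F} (hx : sf S x x ≠ 0)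
    (hxy : sf S x x = sf S y y) : refl S x * refl S y ∈ Om S := by
  suffices hg : ∃ g ∈ O S, refl S y = g * refl S x * g⁻¹ by
    obtain ⟨g, hg, e⟩ := hg
    rw [e]
    have h1 := mem_Om_commutator S two (refl_mem_O hx) hg
    rw [refl_inv] at h1
    simpa [mul_assoc] using h1
  by_cases hd : sf S (x - y) (x - y) = 0
  · have hs : sf S (x + y) (x + y) ≠ 0 := fun hs => by
      simp only [sf_add_left, sf_add_right, sf_sub_left, sf_sub_right, sf_symm S y x, ← hxy] at hs hd
      have h4 : (2 : F) * 2 * sf S x x = 0 := by linear_combination hs + hd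
      exact hx ((mul_eq_zero.mp h4).resolve_left (mul_ne_zero two two))
    have e2 : (refl S (x + y)).val *ᵥ x = -y := by
      rw [refl_mulVec hs, show 2 * sf S x (x + y) = sf S (x + y) (x + y) by
        simp only [sf_add_left, sf_add_right, sf_symm S y x, ← hxy]; ring, div_self hs, one_smul]
      abel
    exact ⟨_, refl_mem_O hs, by rw [refl_conj (refl_mem_O hs) hx, e2, refl_neg]⟩
  · have e2 : (refl S (x - y)).val *ᵥ x = y := by
      rw [refl_mulVec hd, show 2 * sf S x (x - y) = sf S (x - y) (x - y) by
        simp only [sf_sub_left, sf_sub_right, sf_symm S y x, ← hxy]; ring, div_self hd, one_smul]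
      abel
    exact ⟨_, refl_mem_O hd, by rw [refl_conj (refl_mem_O hd) hx, e2]⟩

end Cfsg.Agent.WreathO
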