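import Cfsg.Agent.WreathO.Radical
import Cfsg.Agent.WreathO.Refl

/-!
The fields of order three and five in small dimension: an element of the other slots in a group which projects onto
all of them and meets the centre of the radical of the line trivially (helper92).
-/

set_option autoImplicit false
set_option linter.unusedSectionVars false

namespace Cfsg.Agent.WreathO

open Matrix Cfsg.Agent.MaxSub Cfsg.Agent.MaxSub.Asch Cfsg.Agent.FG75.SpinTensor Cfsg.Agent.WreathMax

variable {F : Type*} [Field F] {k t : ℕ} {P : Std k F}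

namespace LineSmall

/-- The root matrix of a middle coordinate. -/
theorem Qm_eq {a : Fin k} (ha : a ∈ P.mids) : alt P.S P.eo (Pi.single a 1) =
    P.S.w a • Matrix.single P.i0 a (1 : F) - Matrix.single a P.i1 1 := by
  obtain ⟨h0, h1⟩ := Std.mem_mids.mp ha
  rw [alt, Std.eo, rk_single, rk_single, Std.J_mid h0 h1, Std.J_i0, Std.w_i0, one_smul]

theorem Qm_sq {a : Fin k} (ha : a ∈ P.mids) :
    alt P.S P.eo (Pi.single a 1) * alt P.S P.eo (Pi.single a 1) = -P.S.w a • P.E := by
  obtain ⟨h0, h1⟩ := Std.mem_mids.mp ha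
  rw [alt_sq P.S P.eo_iso (Std.isMid_single h0 h1).eo', Std.sf_single_mid h0 h1]
  rfl

theorem Qm_comm {a b : Fin k} (ha : a ∈ P.mids) (hb : b ∈ P.mids) :
    alt P.S P.eo (Pi.single a 1) * alt P.S P.eo (Pi.single b 1) =
      alt P.S P.eo (Pi.single b 1) * alt P.S P.eo (Pi.single a 1) := by
  obtain ⟨a0, a1⟩ := Std.mem_mids.mp ha
  obtain ⟨b0, b1⟩ := Std.mem_mids.mp hb
  refine sub_eq_zero.mp ?_
  rw [bracket_alt P.S (adj_alt _ _ _), alt_mulVec, alt_mulVec, P.eo_iso, (Std.isMid_single a0 a1).eo',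
    (Std.isMid_single b0 b1).eo]
  simp [alt, rk_zero_left, rk_zero_right, rk_smul_left, rk_smul_right]

theorem Qm_E {a : Fin k} (ha : a ∈ P.mids) :
    alt P.S P.eo (Pi.single a 1) * P.E = P.E * alt P.S P.eo (Pi.single a 1) := by
  obtain ⟨a0, a1⟩ := Std.mem_mids.mp ha
  rw [Std.E, mul_rk, rk_mul_left, adj_alt, neg_mulVec, alt_mulVec, P.eo_iso, (Std.isMid_single a0 a1).eo']
  simp [rk_zero_left, rk_zero_right]

/-- The element in two of the other slots. -/
theorem not_mem_wreath [Finite F] {m : ℕ} {v : GL (Fin (m + 1 + 1) → Fin k) F}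
    (hv : v.val = 1 + kz (alt P.S P.eo (Pi.single P.i2 1)) (slot (0 : Fin (m + 1)) P.E)) :
    v ∉ Geo.tensorWreathStandard k (m + 1 + 1) F := by
  classical
  intro hW
  obtain ⟨c0, c1⟩ := P.i2_ne
  obtain ⟨gs, σ, hg⟩ := exists_wreath_elem hW
  set z : Fin (m + 1 + 1) → Fin k := Fin.cons P.i2 (Fin.cons P.i1 fun _ => P.i2) with hz
  set z' : Fin (m + 1 + 1) → Fin k := Fin.cons P.i0 (Fin.cons P.i0 fun _ => P.i2) with hz'
  set x : Fin (m + 1 + 1) → Fin k := Fin.cons P.i0 (Fin.cons P.i1 fun _ => P.i2) with hx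
  have hE : ∀ a b : Fin k, ∀ y y' : Fin m → Fin k,
      slot (0 : Fin (m + 1)) P.E (Fin.cons a y) (Fin.cons b y') =
        P.E a b * (1 : Matrix (Fin m → Fin k) (Fin m → Fin k) F) y y' := fun a b y y' => by
    rw [slot_zero_eq_kz, kz_apply, Fin.cons_zero, Fin.cons_zero, Fin.tail_cons, Fin.tail_cons]
  have hQ : ∀ a b : Fin k, alt P.S P.eo (Pi.single P.i2 1) a b =
      (if P.i0 = a ∧ P.i2 = b then P.S.w P.i2 else 0) - if P.i2 = a ∧ P.i1 = b then 1 else 0 := fun a b => by
    rw [Qm_eq (Std.mem_mids.mpr ⟨c0, c1⟩)]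
    simp [Matrix.single_apply]
  have hval : ∀ y, v.val y z = (if y = z then 1 else 0) +
      alt P.S P.eo (Pi.single P.i2 1) (y 0) P.i2 *
        slot (0 : Fin (m + 1)) P.E (Fin.tail y) (Fin.cons P.i1 fun _ => P.i2) := fun y => by
    rw [hv, Matrix.add_apply, Matrix.one_apply, kz_apply, hz, Fin.cons_zero, Fin.tail_cons]
  have hzz : z 0 = P.i2 := rfl
  have h1 : v.val z z = 1 := by
    rw [hval, if_pos rfl, hQ, hzz]
    simp [Ne.symm c0, Ne.symm c1]
  have h2 : v.val z' z ≠ 0 := by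
    have hne : z' ≠ z := fun h => c0 (congrFun h 0).symm
    rw [hval, if_neg hne, hQ, hz', Fin.cons_zero, Fin.tail_cons, hE, E_apply]
    simpa [Ne.symm c0, c0] using P.S.w_ne P.i2
  have h3 : v.val x z = 0 := by
    have hne : x ≠ z := fun h => c0 (congrFun h 0).symm
    rw [hval, if_neg hne, hQ, hx, Fin.cons_zero, Fin.tail_cons, hE, E_apply]
    simp [P.i0_ne_i1.symm]
  rw [hg, wreath_apply] at h1 h2 h3
  obtain ⟨i, -, hi⟩ := Finset.prod_eq_zero_iff.mp h3
  have n1 := Finset.prod_ne_zero_iff.mp (h1.trans_ne one_ne_zero) i (Finset.mem_univ i)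
  have n2 := Finset.prod_ne_zero_iff.mp h2 i (Finset.mem_univ i)
  revert hi n1 n2
  refine Fin.cases ?_ (fun j => ?_) i
  · intro hi _ n2; exact n2 hi
  · intro hi n1 _; exact n1 hi

variable {H : Subgroup (GL (Fin (t + 1) → Fin k) F)}

theorem inv_val {D : Matrix (Fin k) (Fin k) F} (hD : D * D = 0) {v : GL (Fin t → Fin k) F}
    {Y : Matrix (Fin t → Fin k) (Fin t → Fin k) F} {h : GL (Fin (t + 1) → Fin k) F}
    (e : h.val = kz 1 v.val + kz D (Y * v.val)) :
    (h⁻¹).val = kz 1 (v⁻¹).val - kz D ((v⁻¹).val * Y) := by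
  refine left_inv_eq_right_inv (Units.inv_mul h) ?_
  rw [e, mul_sub, add_mul, add_mul, kz_mul, kz_mul, kz_mul, kz_mul, hD]
  simp [kz_one, kz_zero_left, mul_assoc]

/-- The part in the radical is unique. -/
theorem unique (hns : ∀ Z, InC P H Z → Z = 0) {v : GL (Fin t → Fin k) F}
    {Y Y' : Matrix (Fin t → Fin k) (Fin t → Fin k) F} {h h' : GL (Fin (t + 1) → Fin k) F} (hh : h ∈ H)
    (hh' : h' ∈ H) (e : h.val = kz 1 v.val + kz P.E (Y * v.val))
    (e' : h'.val = kz 1 v.val + kz P.E (Y' * v.val)) : Y = Y' := by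
  refine sub_eq_zero.mp (hns _ ⟨h * h'⁻¹, mul_mem hh (inv_mem hh'), ?_⟩)
  rw [Units.val_mul, e, inv_val E_sq e', sub_eq_add_neg Y, kz_add_right, kz_neg_right, mul_sub, add_mul, add_mul,
    kz_mul, kz_mul, kz_mul, kz_mul, E_sq]
  simp [kz_one, kz_zero_left, mul_assoc]
  abel

theorem conj_val {T : GL (Fin k) F} {B v : GL (Fin t → Fin k) F} {D : Matrix (Fin k) (Fin k) F}
    {Y : Matrix (Fin t → Fin k) (Fin t → Fin k) F} {h : GL (Fin (t + 1) → Fin k) F}
    (e : h.val = kz 1 v.val + kz D (Y * v.val)) :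
    (kzU T B * h * (kzU T B)⁻¹).val = kz 1 (B * v * B⁻¹).val +
      kz (T.val * D * (T⁻¹).val) (conjHom B Y * (B * v * B⁻¹).val) := by
  show kz T.val B.val * h.val * kz (T⁻¹).val (B⁻¹).val = _
  rw [e, mul_add, add_mul, kz_mul, kz_mul, kz_mul, kz_mul, conjHom_apply]
  simp [mul_assoc]

theorem zblk_kz_mul (A : Matrix (Fin k) (Fin k) F)
    (Y : Matrix (Fin (t + 1) → Fin k) (Fin (t + 1) → Fin k) F) (a b : Fin k) :
    zblk (kz A 1 * Y) a b = ∑ c, A a c • zblk Y c b := by
  rw [zblk_mul]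
  exact Finset.sum_congr rfl fun c _ => by rw [zblk_kz, smul_mul_assoc, one_mul]

theorem zblk_mul_kz (A : Matrix (Fin k) (Fin k) F)
    (Y : Matrix (Fin (t + 1) → Fin k) (Fin (t + 1) → Fin k) F) (a b : Fin k) :
    zblk (Y * kz A 1) a b = ∑ c, A c b • zblk Y a c := by
  rw [zblk_mul]
  exact Finset.sum_congr rfl fun c _ => by rw [zblk_kz, mul_smul_comm, mul_one]

theorem commute_of_expU {ι : Type} [Fintype ι] [DecidableEq ι] (two : (2 : F) ≠ 0) {X Y : Matrix ι ι F}
    (hX : X * X * X = 0) (h : conjHom (expU two X) Y = Y) : Commute X Y := by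
  set B := expU two X
  have hB : Commute (B : Matrix ι ι F) Y := by
    have h1 := congrArg (· * (B : Matrix ι ι F)) h
    simp only [conjHom_apply, mul_assoc, Units.inv_mul, mul_one] at h1
    exact h1
  have hX' : ((-1 : F) • X) * ((-1 : F) • X) * ((-1 : F) • X) = 0 := by simp [hX]
  have e := expU_smul_inv two hX 1
  rw [one_smul] at e
  have h1 := hB.sub_left hB.units_inv_left
  rw [e, expU_coe two hX, expU_coe two hX'] at h1
  have e2 : (1 + X + (2 : F)⁻¹ • (X * X)) -
      (1 + (-1 : F) • X + (2 : F)⁻¹ • (((-1 : F) • X) * ((-1 : F) • X))) = (2 : F) • X := by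
    simp only [smul_mul_smul_comm]
    module
  rw [e2] at h1
  have h2 := h1.smul_left (2 : F)⁻¹
  rwa [smul_smul, inv_mul_cancel₀ two, one_smul] at h2

variable [Fintype F]

theorem card_cases (hs : (Nat.card F = 5 ∧ k = 3) ∨ (Nat.card F = 3 ∧ k = 4)) :
    ((5 : F) = 0 ∧ k = 3) ∨ ((3 : F) = 0 ∧ k = 4) := by
  rcases hs with ⟨h, hk⟩ | ⟨h, hk⟩ <;> rw [Nat.card_eq_fintype_card] at h
  · exact Or.inl ⟨by simpa [h] using FiniteField.cast_card_eq_zero F, hk⟩
  · exact Or.inr ⟨by simpa [h] using FiniteField.cast_card_eq_zero F, hk⟩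

theorem exists_int (hs : (Nat.card F = 5 ∧ k = 3) ∨ (Nat.card F = 3 ∧ k = 4)) (c : F) : ∃ n : ℤ, (n : F) = c := by
  have key : ∀ p : ℕ, p.Prime → Nat.card F = p → ∃ n : ℤ, (n : F) = c := fun p hp h => by
    haveI : Fact p.Prime := ⟨hp⟩
    obtain ⟨n, hn⟩ := AddSubgroup.mem_zmultiples_iff.mp (show c ∈ AddSubgroup.zmultiples (1 : F) by
      rw [zmultiples_eq_top_of_prime_card h one_ne_zero]; exact AddSubgroup.mem_top _)
    exact ⟨n, by rw [← hn, zsmul_one]⟩
  rcases hs with ⟨h, -⟩ | ⟨h, -⟩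
  exacts [key 5 Nat.prime_five h, key 3 Nat.prime_three h]

/-- An element of the slot fixing the root element of the line and inverting the others. -/
theorem exists_sign (hP : P.Good) (hs : (Nat.card F = 5 ∧ k = 3) ∨ (Nat.card F = 3 ∧ k = 4)) :
    ∃ A ∈ Om P.S, ∃ ε : F, ε * ε = 1 ∧
      (A : Matrix (Fin k) (Fin k) F) = Matrix.diagonal (fun b => if b ∈ P.mids then -ε else ε) := by
  classical
  obtain ⟨c0, c1⟩ := P.i2_ne
  rcases card_cases (F := F) hs with ⟨h5, rfl⟩ | ⟨h3, rfl⟩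
  · refine ⟨refl P.S ((2 : F) • (P.eo + P.ew)) * refl P.S (P.eo - P.ew), ?_, -1, by ring, ?_⟩
    all_goals
      have hx : sf P.S ((2 : F) • (P.eo + P.ew)) ((2 : F) • (P.eo + P.ew)) = 8 := by
        simp only [sf_smul_left, sf_smul_right, sf_add_left, sf_add_right, P.eo_iso, P.ew_iso, P.eo_ew, P.ew_eo]
        ring
      have hy : sf P.S (P.eo - P.ew) (P.eo - P.ew) = 8 := by
        simp only [sf_sub_left, sf_sub_right, P.eo_iso, P.ew_iso, P.eo_ew, P.ew_eo]
        linear_combination (-2 : F) * h5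
      have h8 : (8 : F) ≠ 0 := by
        rw [show (8 : F) = 2 * 2 * 2 by norm_num]
        exact mul_ne_zero (mul_ne_zero hP.two hP.two) hP.two
    · exact refl_mul_refl_mem_Om hP.two (hx ▸ h8) (hx.trans hy.symm)
    · rw [Units.val_mul, refl_coe (hx ▸ h8), refl_coe (hy ▸ h8), hx, hy]
      have e4 : (2 : F) / 8 = 4 := by rw [div_eq_iff h8]; linear_combination (-6 : F) * h5
      rw [e4]
      simp only [mul_sub, sub_mul, one_mul, mul_one, smul_mul_smul_comm, rk_mul, sf_smul_left, sf_smul_right,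
        sf_add_left, sf_add_right, sf_sub_left, sf_sub_right, rk_smul_left, rk_smul_right, rk_add_left, rk_add_right,
        rk_sub_left, rk_sub_right, P.eo_iso, P.ew_iso, P.eo_ew, P.ew_eo, smul_smul]
      have er : rk P.S P.eo P.ew = Matrix.single P.i0 P.i0 (1 : F) ∧
          rk P.S P.ew P.eo = Matrix.single P.i1 P.i1 (1 : F) ∧ rk P.S P.eo P.eo = Matrix.single P.i0 P.i1 (1 : F) ∧
          rk P.S P.ew P.ew = Matrix.single P.i1 P.i0 (1 : F) := by
        refine ⟨?_, ?_, ?_, ?_⟩ <;>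
          simp only [Std.eo, Std.ew, rk_single, Std.J_i0, Std.J_i1, Std.w_i0, Std.w_i1, one_smul]
      rw [er.1, er.2.1, er.2.2.1, er.2.2.2]
      ext a b
      simp only [Matrix.sub_apply, Matrix.add_apply, Matrix.smul_apply, Matrix.single_apply, Matrix.one_apply,
        Matrix.diagonal_apply, smul_eq_mul]
      have hm : ∀ c : Fin 3, c ∈ P.mids ↔ c = 2 := fun c => by
        rw [Std.mem_mids, Std.i0, Std.i1]; fin_cases c <;> simp [Fin.ext_iff]
      simp only [hm, Std.i0, Std.i1]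
      fin_cases a <;> fin_cases b <;> simp <;> grind
  · let a : Fin 4 := P.i2
    let b : Fin 4 := ⟨3, by omega⟩
    have b0 : b ≠ P.i0 := by simp [b, Std.i0, Fin.ext_iff]
    have b1 : b ≠ P.i1 := by simp [b, Std.i1, Fin.ext_iff]
    have hab : a ≠ b := by simp [a, b, Std.i2, Fin.ext_iff]
    have hsq : ∀ x : F, x ≠ 0 → x * x = 1 := fun x hx => by
      rcases hs with ⟨-, h⟩ | ⟨h, -⟩
      · omega
      · have := FiniteField.pow_card_sub_one_eq_one x hx
        rw [← Nat.card_eq_fintype_card, h] at this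
        linear_combination this
    have hw : P.w a = P.w b := by
      have h : (P.w a - P.w b) * (P.w a + P.w b) = 0 := by
        linear_combination hsq _ (P.w_ne a) - hsq _ (P.w_ne b)
      refine sub_eq_zero.mp ((mul_eq_zero.mp h).resolve_right fun h0 => ?_)
      have hz := hP.minus rfl (Pi.single a 1 + Pi.single b 1)
        ((Std.isMid_single c0 c1).add (Std.isMid_single b0 b1))
        (by simp only [sf_add_left, sf_add_right, Std.sf_single_mid c0 c1, Std.sf_single_mid b0 b1, sf_single,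
              Std.J_mid c0 c1, Std.J_mid b0 b1, a, Pi.single_eq_of_ne hab, Pi.single_eq_of_ne hab.symm,
              mul_zero, Pi.single_eq_same, mul_one, add_zero, zero_add]
            linear_combination h0)
      have := congrFun hz a
      simp [hab] at this
    have ea : sf P.S (Pi.single a 1) (Pi.single a 1) = P.w a := Std.sf_single_mid c0 c1
    have eb : sf P.S (Pi.single b 1) (Pi.single b 1) = P.w b := Std.sf_single_mid b0 b1
    have hna : sf P.S (Pi.single a 1) (Pi.single a 1) ≠ 0 := ea ▸ P.w_ne a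
    have hnb : sf P.S (Pi.single b 1) (Pi.single b 1) ≠ 0 := eb ▸ P.w_ne b
    refine ⟨refl P.S (Pi.single a 1) * refl P.S (Pi.single b 1),
      refl_mul_refl_mem_Om hP.two hna (by rw [ea, eb, hw]), 1, one_mul 1, ?_⟩
    rw [Units.val_mul, refl_coe hna, refl_coe hnb, ea, eb, rk_single, rk_single, Std.J_mid c0 c1, Std.J_mid b0 b1,
      smul_smul, smul_smul, show P.S.w a = P.w a from rfl, show P.S.w b = P.w b from rfl,
      div_mul_cancel₀ _ (P.w_ne a), div_mul_cancel₀ _ (P.w_ne b), mul_sub, sub_mul, sub_mul, one_mul, mul_one,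
      one_mul, smul_mul_smul_comm, Matrix.single_mul_single_of_ne (h := hab), smul_zero, sub_zero]
    ext x y
    simp only [Matrix.sub_apply, Matrix.smul_apply, Matrix.single_apply, Matrix.one_apply, Matrix.diagonal_apply,
      smul_eq_mul]
    have hm : ∀ c : Fin 4, c ∈ P.mids ↔ (c = 2 ∨ c = 3) := fun c => by
      rw [Std.mem_mids, Std.i0, Std.i1]; fin_cases c <;> simp [Fin.ext_iff]
    simp only [hm, a, b, Std.i2]
    fin_cases x <;> fin_cases y <;> simp <;> ring

end LineSmall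

open LineSmall

variable [Fintype F]

/-- An element of the other slots in the two cases where the torus of the first slot is too small. -/
theorem line_small (hP : P.Good) (hs : (Nat.card F = 5 ∧ k = 3) ∨ (Nat.card F = 3 ∧ k = 4)) (ht : 2 ≤ t)
    {H : Subgroup (GL (Fin (t + 1) → Fin k) F)} (hH : H ≤ Om (powS P.S (t + 1))) (hM : ContainsW P.S H)
    (hns : ∀ Z, InC P H Z → Z = 0)
    (hfull : ∀ v ∈ Om (powS P.S t), ∃ Y, ∃ h ∈ H, h.val = (1 + kz P.E Y) * kz 1 v.val) :
    ∃ g₀ ∈ Om (powS P.S t), g₀ ∉ Geo.tensorWreathStandard k t F ∧ kzU 1 g₀ ∈ H := by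
  classical
  obtain ⟨m, rfl⟩ : ∃ m, t = m + 1 + 1 := ⟨t - 2, by omega⟩
  have two := hP.two
  obtain ⟨c0, c1⟩ := P.i2_ne
  have hc : P.i2 ∈ P.mids := Std.mem_mids.mpr ⟨c0, c1⟩
  set Q := alt P.S P.eo (Pi.single P.i2 1) with hQdef
  set Ez := slot (0 : Fin (m + 1)) P.E with hEz
  set N := kz Q Ez with hNdef
  have hN2 : N * N = 0 := by rw [hNdef, kz_mul, hEz, ← slot_mul', E_sq, slot_zero', kz_zero_right]
  have hN3 : N * N * N = 0 := by rw [hN2, zero_mul]
  have hNsk : adj (powS P.S (m + 1 + 1)) N = -N := by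
    rw [hNdef, adj_kz, hEz, adj_slot, adj_E, hQdef, adj_alt, ← neg_one_smul F (alt P.S P.eo (Pi.single P.i2 1)),
      kz_smul_left, neg_one_smul]
  set v := expU two N with hvdef
  have hv : v.val = 1 + N := by rw [hvdef, expU_coe two hN3, hN2, smul_zero, add_zero]
  have hvi : (v⁻¹).val = 1 - N := by
    refine left_inv_eq_right_inv (Units.inv_mul v) ?_
    rw [hv, mul_sub, mul_one, add_mul, one_mul, hN2]; abel
  have hvO : v ∈ Om (powS P.S (m + 1 + 1)) := expU_mem_Om two hN3 hNsk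
  refine ⟨v, hvO, not_mem_wreath hv, ?_⟩
  obtain ⟨Y, h, hh, he⟩ := hfull v hvO
  have he' : h.val = kz 1 v.val + kz P.E (Y * v.val) := by
    rw [he, add_mul, one_mul, kz_mul, mul_one]
  suffices hY : Y = 0 by
    rwa [show kzU 1 v = h from Units.ext (by rw [he, hY, kz_zero_right, add_zero, one_mul, kzU_coe, Units.val_one])]
  have hconj : ∀ B ∈ Om (powS P.S (m + 1 + 1)), B ∈ Geo.tensorWreathStandard k (m + 1 + 1) F →
      ∃ h' ∈ H, h'.val = kz 1 (B * v * B⁻¹).val + kz P.E (conjHom B Y * (B * v * B⁻¹).val) := by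
    intro B hB hBW
    refine ⟨_, mul_mem (mul_mem (kzU_mem_H two hM (one_mem _) hB hBW) hh)
      (inv_mem (kzU_mem_H two hM (one_mem _) hB hBW)), ?_⟩
    rw [conj_val he', Units.val_one, one_mul, inv_one, Units.val_one, mul_one]
  -- the two slots of the element
  have hroot : ∀ (l : Fin (m + 1 + 1)) (a : Fin k), a ∈ P.mids →
      Commute (slot l (alt P.S P.eo (Pi.single a 1))) N →
      Commute (slot l (alt P.S P.eo (Pi.single a 1))) Y := by
    intro l a ha hXN
    obtain ⟨a0, a1⟩ := Std.mem_mids.mp ha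
    have hr := Std.isRoot_mid a0 a1
    set X := slot l (alt P.S P.eo (Pi.single a 1))
    have hX3 : X * X * X = 0 := slot_alt_cube P.S l hr
    set B := sRoot P.S two l P.eo (Pi.single a 1) with hBdef
    have hBX : B = expU two X := sRoot_eq P.S two l hr
    obtain ⟨h', hh', e'⟩ := hconj B (sRoot_mem_Om P.S two l hr) (slotU_mem _ _)
    have hBv : B * v * B⁻¹ = v := by
      rw [mul_inv_eq_iff_eq_mul]
      refine Units.ext ?_
      rw [Units.val_mul, Units.val_mul, hBX, expU_coe two hX3, hv]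
      exact ((Commute.one_right _).add_right (((Commute.one_left _).add_left hXN).add_left ((hXN.mul_left hXN).smul_left _))).eq
    rw [hBv] at e'
    exact commute_of_expU two hX3 (by rw [← hBX]; exact unique hns hh' hh e' he')
  have hs0 : ∀ a ∈ P.mids, Commute (kz (alt P.S P.eo (Pi.single a 1)) 1) Y := fun a ha => by
    rw [← slot_zero_eq_kz]
    refine hroot 0 a ha ?_
    rw [slot_zero_eq_kz, Commute, SemiconjBy, hNdef, kz_mul, kz_mul, Qm_comm ha hc, one_mul, mul_one]
  have hs1 : ∀ a ∈ P.mids, Commute (kz 1 (slot (0 : Fin (m + 1)) (alt P.S P.eo (Pi.single a 1)))) Y := fun a ha => by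
    rw [← slot_succ_eq_kz]
    refine hroot _ a ha ?_
    rw [slot_succ_eq_kz, Commute, SemiconjBy, hNdef, kz_mul, kz_mul, one_mul, mul_one, hEz, ← slot_mul', ← slot_mul',
      Qm_E ha]
  have hNY : Commute N Y := by
    have e1 := (hs1 _ hc).mul_left (hs1 _ hc)
    rw [kz_mul, one_mul, ← slot_mul', Qm_sq hc, slot_smul', kz_smul_right] at e1
    have e2 := e1.smul_left (-P.S.w P.i2)⁻¹
    rw [smul_smul, inv_mul_cancel₀ (neg_ne_zero.mpr (P.S.w_ne _)), one_smul] at e2
    have e3 := (hs0 _ hc).mul_left e2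
    rwa [kz_mul, mul_one, one_mul] at e3
  -- the sign
  obtain ⟨S₀, hS₀, ε, hε, hS₀e⟩ := exists_sign hP hs
  set δ : Fin k → F := fun b => if b ∈ P.mids then -ε else ε with hδ
  have hδδ : ∀ b, δ b * δ b = 1 := fun b => by by_cases hb : b ∈ P.mids <;> simp [hδ, hb, hε]
  have hS₀i : (S₀⁻¹).val = Matrix.diagonal δ := by
    refine left_inv_eq_right_inv (Units.inv_mul S₀) ?_
    rw [hS₀e, Matrix.diagonal_mul_diagonal, ← Matrix.diagonal_one]
    exact congrArg _ (funext hδδ)
  set s := kzU S₀ (1 : GL (Fin (m + 1) → Fin k) F) with hsdef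
  have hsO : s ∈ Om (powS P.S (m + 1 + 1)) := by rw [hsdef, kzU_one_eq_slotU]; exact slotU_mem_Om two hS₀ 0
  have hsW : s ∈ Geo.tensorWreathStandard k (m + 1 + 1) F := kzU_mem _ (one_mem _)
  have hsQ : S₀.val * Q * (S₀⁻¹).val = -Q := by
    rw [hS₀e, hS₀i, hQdef, Qm_eq hc]
    ext a b
    simp only [Matrix.mul_diagonal, Matrix.diagonal_mul, Matrix.neg_apply, Matrix.sub_apply, Matrix.smul_apply,
      Matrix.single_apply, smul_eq_mul]
    have d0 : δ P.i0 = ε := by simp [hδ, Std.mids]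
    have d1 : δ P.i1 = ε := by simp [hδ, Std.mids]
    have d2 : δ P.i2 = -ε := by simp [hδ, hc]
    by_cases h1 : P.i0 = a ∧ P.i2 = b
    · obtain ⟨rfl, rfl⟩ := h1
      simp [d0, d2, c0, Ne.symm c0]
      linear_combination P.S.w P.i2 * hε
    by_cases h2 : P.i2 = a ∧ P.i1 = b
    · obtain ⟨rfl, rfl⟩ := h2
      simp [d1, d2, c0, c1, Ne.symm c0, Ne.symm c1]
      linear_combination hε
    simp [h1, h2]
  have hsN : s.val * N * (s⁻¹).val = -N := by
    show kz S₀.val (1 : GL (Fin (m + 1) → Fin k) F).val * kz Q Ez * kz (S₀⁻¹).val (1⁻¹ : GL (Fin (m + 1) → Fin k) F).val = _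
    rw [kz_mul, kz_mul, hsQ, inv_one, Units.val_one, one_mul, mul_one, ← neg_one_smul F Q, kz_smul_left,
      neg_one_smul, hNdef]
  have hsY : conjHom s Y = -Y := by
    obtain ⟨h', hh', e'⟩ := hconj s hsO hsW
    have hv' : s * v * s⁻¹ = v⁻¹ := Units.ext (by
      rw [Units.val_mul, Units.val_mul, hv, hvi, conj_one_add, hsN, sub_eq_add_neg])
    rw [hv'] at e'
    refine unique hns hh' (inv_mem hh) e' ?_
    rw [inv_val E_sq he', neg_mul, kz_neg_right, sub_eq_add_neg,
      show (v⁻¹).val * Y = Y * (v⁻¹).val by rw [hvi, sub_mul, mul_sub, hNY.eq, one_mul, mul_one]]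
  have hUp : Upper P Y := by
    have hsb : ∀ a b, (δ a * δ b) • zblk Y a b = -zblk Y a b := fun a b => by
      have h1 := congrArg (fun X => zblk X a b) hsY
      simp only [conjHom_apply, zblk_neg] at h1
      rw [show (s : Matrix (Fin (m + 1 + 1) → Fin k) (Fin (m + 1 + 1) → Fin k) F) = kz (Matrix.diagonal δ) 1 by
            rw [hsdef, kzU_coe, hS₀e, Units.val_one],
        show (s⁻¹).val = kz (Matrix.diagonal δ) 1 by
            show kz (S₀⁻¹).val (1⁻¹ : GL (Fin (m + 1) → Fin k) F).val = _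
            rw [hS₀i, inv_one, Units.val_one],
        zblk_mul_kz, Finset.sum_eq_single b (fun c _ hcb => by rw [Matrix.diagonal_apply_ne _ hcb, zero_smul]) (by simp),
        zblk_kz_mul, Finset.sum_eq_single a (fun c _ hca => by rw [Matrix.diagonal_apply_ne' _ hca, zero_smul]) (by simp),
        Matrix.diagonal_apply_eq, Matrix.diagonal_apply_eq, smul_smul] at h1
      rw [mul_comm, h1]
    have hsame : ∀ a b, (a ∈ P.mids ↔ b ∈ P.mids) → zblk Y a b = 0 := fun a b hab => by
      have h1 := hsb a b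
      rw [show δ a * δ b = 1 by rw [show δ b = δ a by simp [hδ, hab]]; exact hδδ a, one_smul, eq_neg_iff_add_eq_zero,
        ← two_smul F] at h1
      exact (smul_eq_zero.mp h1).resolve_left two
    have hcol : ∀ a ∈ P.mids, zblk Y a P.i0 = 0 ∧ zblk Y P.i1 a = 0 := by
      intro a ha
      obtain ⟨a0, a1⟩ := Std.mem_mids.mp ha
      have e := (hs0 a ha).eq
      have e0 := congrArg (fun X => zblk X P.i0 P.i0) e
      have e1 := congrArg (fun X => zblk X P.i1 P.i1) e
      simp only [zblk_kz_mul, zblk_mul_kz, Qm_eq ha] at e0 e1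
      rw [Finset.sum_eq_single a (fun c _ hca => by simp [Matrix.single_apply, Ne.symm hca, a0, a1, P.i0_ne_i1, P.i0_ne_i1.symm]) (by simp)] at e0 e1
      simp [Matrix.single_apply, a0, a1, Ne.symm a0, Ne.symm a1, P.i0_ne_i1, P.i0_ne_i1.symm] at e0 e1
      exact ⟨e0.resolve_left (P.S.w_ne a), e1⟩
    intro a b n1 n2
    by_cases hab : a ∈ P.mids ↔ b ∈ P.mids
    · exact hsame a b hab
    by_cases ha : a ∈ P.mids
    · have hb : b ∉ P.mids := fun hb => hab (iff_of_true ha hb)
      rw [Std.mem_mids, not_and_or, not_not, not_not] at hb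
      rcases hb with rfl | rfl
      · exact (hcol a ha).1
      · exact absurd ⟨rfl, (Std.mem_mids.mp ha).2⟩ n2
    · have hb : b ∈ P.mids := by
        by_contra hb
        exact hab (iff_of_false ha hb)
      rw [Std.mem_mids, not_and_or, not_not, not_not] at ha
      rcases ha with rfl | rfl
      · exact absurd ⟨rfl, (Std.mem_mids.mp hb).1⟩ n1
      · exact (hcol b hb).2
  have hY3 : Y * Y * Y = 0 := by rw [Upper.mul_eq hUp hUp, Upper.kz_E_mul hUp]
  have hY4 : Y * Y * (Y * Y) = 0 := by rw [← mul_assoc, hY3, zero_mul]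
  have hY3' : Y * (Y * Y) = 0 := by rw [← mul_assoc, hY3]
  -- the additive group of coefficients
  let K : AddSubgroup (Matrix (Fin k) (Fin k) F) :=
    { carrier := {A | ∃ B, ∃ g ∈ H, g.val = 1 + kz A Y + kz B (Y * Y)}
      zero_mem' := ⟨0, 1, one_mem _, by simp [kz_zero_left]⟩
      add_mem' := by
        rintro A A' ⟨B, g, hg, e⟩ ⟨B', g', hg', e'⟩
        refine ⟨B + B' + A * A', g * g', mul_mem hg hg', ?_⟩
        rw [Units.val_mul, e, e']
        simp only [add_mul, mul_add, one_mul, mul_one, kz_mul, hY3, hY3', hY4, kz_zero_right, kz_add_left, add_zero]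
        abel
      neg_mem' := by
        rintro A ⟨B, g, hg, e⟩
        refine ⟨A * A - B, g⁻¹, inv_mem hg, left_inv_eq_right_inv (Units.inv_mul g) ?_⟩
        rw [e, sub_eq_add_neg (A * A), ← neg_one_smul F A, ← neg_one_smul F B]
        simp only [add_mul, mul_add, one_mul, mul_one, kz_mul, hY3, hY3', hY4, kz_zero_right, kz_add_left, add_zero,
          kz_smul_left, mul_smul_comm, smul_zero]
        module }
  let KF : Submodule F (Matrix (Fin k) (Fin k) F) :=
    { K.toAddSubmonoid with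
      smul_mem' := fun c A hA => by
        obtain ⟨n, rfl⟩ := exists_int (F := F) hs c
        rw [Int.cast_smul_eq_zsmul]
        exact K.zsmul_mem hA n }
  have hTK : ∀ T ∈ Om P.S, ∀ A ∈ KF, T.val * A * (T⁻¹).val ∈ KF := by
    rintro T hT A ⟨B, g, hg, e⟩
    have hx := kzU_mem_H two hM hT (one_mem (Om (powS P.S (m + 1 + 1)))) (one_mem _)
    refine ⟨T.val * B * (T⁻¹).val, _, mul_mem (mul_mem hx hg) (inv_mem hx), ?_⟩
    rw [Units.val_mul, Units.val_mul, e, mul_add, mul_add, add_mul, add_mul, mul_one, Units.mul_inv]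
    show 1 + kz _ _ * kz A Y * kz _ _ + kz _ _ * kz B (Y * Y) * kz _ _ = _
    simp only [kz_mul, inv_one, Units.val_one, one_mul, mul_one]
  have horb : ∀ T ∈ Om P.S, P.E - T.val * P.E * (T⁻¹).val ∈ KF := by
    intro T hT
    set D := T.val * P.E * (T⁻¹).val with hD
    have hD2 : D * D = 0 := by
      rw [hD]; simp only [mul_assoc, Units.inv_mul_cancel_left]
      rw [← mul_assoc P.E, E_sq, zero_mul, mul_zero]
    have hx := kzU_mem_H two hM hT (one_mem (Om (powS P.S (m + 1 + 1)))) (one_mem _)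
    have e1 := conj_val (T := T) (B := (1 : GL (Fin (m + 1 + 1) → Fin k) F)) he'
    simp only [conjHom_apply, inv_one, Units.val_one, one_mul, mul_one, ← hD] at e1
    refine ⟨-(P.E * D), h * (kzU T 1 * h * (kzU T 1)⁻¹)⁻¹, mul_mem hh (inv_mem (mul_mem (mul_mem hx hh) (inv_mem hx))), ?_⟩
    rw [Units.val_mul, he', inv_val hD2 e1, mul_sub, add_mul, add_mul, kz_mul, kz_mul, kz_mul, kz_mul,
      sub_eq_add_neg P.E, kz_add_left, ← neg_one_smul F D, ← neg_one_smul F (P.E * D), kz_smul_left, kz_smul_left]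
    simp [mul_assoc, kz_one]
    abel
  -- the isotropic vectors of the first slot
  set sy := sym P.S P.eo P.ew with hsy
  set Wm := rk P.S P.ew P.ew with hWm
  let x : (Fin k → F) → (Fin k → F) := fun u => P.eo - u + (-sf P.S u u / 2) • P.ew
  have hxK : ∀ u, P.IsMid u → P.E - rk P.S (x u) (x u) ∈ KF := by
    intro u hu
    have h3 : alt P.S P.ew u * alt P.S P.ew u * alt P.S P.ew u = 0 := alt_cube P.S P.ew_iso hu.ew'
    set T := expU two (alt P.S P.ew u)
    have hT : T ∈ Om P.S := expU_mem_Om two h3 (adj_alt _ _ _)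
    have eT : T.val *ᵥ P.eo = x u := by
      rw [expU_coe two h3, add_mulVec, add_mulVec, one_mulVec, smul_mulVec, ← mulVec_mulVec, alt_mulVec,
        hu.eo', P.eo_ew, zero_smul, one_smul, zero_sub, mulVec_neg, alt_mulVec, hu.ew, zero_smul, sub_zero]
      simp only [x]
      module
    have := horb T hT
    rwa [Std.E, conj_rk P.S (Om_le_O _ two hT), eT] at this
  let G : (Fin k → F) → Matrix (Fin k) (Fin k) F := fun u =>
    rk P.S u u + (-sf P.S u u / 2) • sy + (-sf P.S u u / 2) ^ 2 • Wm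
  have hGK : ∀ u, P.IsMid u → G u ∈ KF := by
    intro u hu
    have h1 := KF.add_mem (hxK u hu) (hxK (-u) ⟨by simp [hu.1], by simp [hu.2]⟩)
    have e : (P.E - rk P.S (x u) (x u)) + (P.E - rk P.S (x (-u)) (x (-u))) = (-2 : F) • G u := by
      simp only [x, G, sf_neg_left, sf_neg_right, neg_neg, sub_neg_eq_add, rk_add_left, rk_add_right, rk_sub_left,
        rk_sub_right, rk_smul_left, rk_smul_right, hsy, sym, hWm, Std.E]
      module
    rw [e] at h1
    have := KF.smul_mem (-2 : F)⁻¹ h1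
    rwa [smul_smul, inv_mul_cancel₀ (neg_ne_zero.mpr two), one_smul] at this
  have hW : Wm ∈ KF := by
    set e := (Pi.single P.i2 1 : Fin k → F)
    have hem : P.IsMid e := Std.isMid_single c0 c1
    have hee : sf P.S e e = P.w P.i2 := Std.sf_single_mid c0 c1
    have hβ : (-sf P.S e e / 2) ^ 2 ≠ 0 := pow_ne_zero _ (div_ne_zero (neg_ne_zero.mpr (hee ▸ P.w_ne _)) two)
    rcases card_cases (F := F) hs with ⟨h5, -⟩ | ⟨h3, hk4⟩
    · have h1 := KF.sub_mem (hGK _ (hem.smul (2 : F))) (KF.smul_mem (4 : F) (hGK _ hem))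
      have e1 : G ((2 : F) • e) - (4 : F) • G e = ((12 : F) * (-sf P.S e e / 2) ^ 2) • Wm := by
        simp only [G, sf_smul_left, sf_smul_right, rk_smul_left, rk_smul_right]
        match_scalars <;> ring
      rw [e1] at h1
      have h12 : (12 : F) ≠ 0 := fun h => two (by linear_combination h - 2 * h5)
      have := KF.smul_mem ((12 : F) * (-sf P.S e e / 2) ^ 2)⁻¹ h1
      rwa [smul_smul, inv_mul_cancel₀ (mul_ne_zero h12 hβ), one_smul] at this
    · subst hk4
      let b : Fin 4 := ⟨3, by omega⟩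
      have b0 : b ≠ P.i0 := by simp [b, Std.i0, Fin.ext_iff]
      have b1 : b ≠ P.i1 := by simp [b, Std.i1, Fin.ext_iff]
      have hab : P.i2 ≠ b := by simp [b, Std.i2, Fin.ext_iff]
      set e' := (Pi.single b 1 : Fin 4 → F)
      have hem' : P.IsMid e' := Std.isMid_single b0 b1
      have hee' : sf P.S e' e' = P.w b := Std.sf_single_mid b0 b1
      have hee0 : sf P.S e e' = 0 := by
        rw [sf_single, Std.J_mid c0 c1]; simp [e', hab]
      have hsq : ∀ z : F, z ≠ 0 → z ^ 2 = 1 := fun z hz => by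
        rcases hs with ⟨-, h⟩ | ⟨h, -⟩
        · omega
        · have := FiniteField.pow_card_sub_one_eq_one z hz
          rwa [← Nat.card_eq_fintype_card, h] at this
      have hww : P.w b = P.w P.i2 := by
        have h : (P.w b - P.w P.i2) * (P.w b + P.w P.i2) = 0 := by
          linear_combination hsq _ (P.w_ne b) - hsq _ (P.w_ne P.i2)
        refine sub_eq_zero.mp ((mul_eq_zero.mp h).resolve_right fun h0 => ?_)
        have hz := hP.minus rfl _ (hem.add hem') (by
          rw [sf_add_left, sf_add_right, sf_add_right, hee, hee', hee0, sf_symm P.S e' e, hee0]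
          linear_combination h0)
        have := congrFun hz P.i2
        simp [e, e', hab] at this
      have h1 := KF.sub_mem (KF.add_mem (hGK _ (hem.add hem')) (hGK (e + -e') (hem.add (by simpa using hem'.smul (-1 : F)))))
        (KF.smul_mem (2 : F) (KF.add_mem (hGK _ hem) (hGK _ hem')))
      have e1 : G (e + e') + G (e + -e') - (2 : F) • (G e + G e') = ((4 : F) * (-sf P.S e e / 2) ^ 2) • Wm := by
        simp only [G, sf_add_left, sf_add_right, sf_neg_left, sf_neg_right, hee0, sf_symm P.S e' e, hee, hee', hww,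
          rk_add_left, rk_add_right, rk_neg_left, rk_neg_right]
        match_scalars <;> ring
      rw [e1] at h1
      have := KF.smul_mem ((4 : F) * (-sf P.S e e / 2) ^ 2)⁻¹ h1
      rwa [smul_smul, inv_mul_cancel₀ (mul_ne_zero (by rw [show (4 : F) = 2 * 2 by norm_num]; exact mul_ne_zero two two) hβ),
        one_smul] at this
  have hEK : P.E ∈ KF := by
    set u := (Pi.single P.i2 1 : Fin k → F)
    have hu : P.IsMid u := Std.isMid_single c0 c1
    have hn : sf P.S u u ≠ 0 := (Std.sf_single_mid c0 c1).trans_ne (P.w_ne _)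
    have h3 : alt P.S P.eo u * alt P.S P.eo u * alt P.S P.eo u = 0 := alt_cube P.S P.eo_iso hu.eo'
    set T := expU two (alt P.S P.eo u)
    have hT : T ∈ Om P.S := expU_mem_Om two h3 (adj_alt _ _ _)
    have eT : T.val *ᵥ P.ew = (-sf P.S u u / 2) • x ((-(2 / sf P.S u u)) • u) := by
      rw [expU_coe two h3, add_mulVec, add_mulVec, one_mulVec, smul_mulVec, ← mulVec_mulVec, alt_mulVec,
        hu.ew', P.ew_eo, zero_smul, one_smul, zero_sub, mulVec_neg, alt_mulVec, hu.eo, zero_smul, sub_zero]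
      simp only [x, sf_smul_left, sf_smul_right]
      match_scalars <;> field_simp <;> ring
    have h1 := hTK T hT Wm hW
    rw [hWm, conj_rk P.S (Om_le_O _ two hT), eT, rk_smul_left, rk_smul_right, smul_smul] at h1
    have h2 := KF.smul_mem ((-sf P.S u u / 2) * (-sf P.S u u / 2))⁻¹ h1
    rw [smul_smul, inv_mul_cancel₀ (mul_self_ne_zero.mpr (div_ne_zero (neg_ne_zero.mpr hn) two)), one_smul] at h2
    simpa using KF.add_mem (hxK _ (hu.smul (-(2 / sf P.S u u)))) h2
  obtain ⟨B, g, hg, e⟩ := hEK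
  have hx := kzU_mem_H two hM (one_mem (Om P.S)) hsO hsW
  have e' : (kzU 1 s * g * (kzU 1 s)⁻¹).val = 1 + kz P.E (-Y) + kz B (Y * Y) := by
    rw [Units.val_mul, Units.val_mul, e, mul_add, mul_add, add_mul, add_mul, mul_one, Units.mul_inv]
    show 1 + kz _ _ * kz P.E Y * kz _ _ + kz _ _ * kz B (Y * Y) * kz _ _ = _
    simp only [kz_mul, inv_one, Units.val_one, one_mul, mul_one]
    have hsYY : s.val * (Y * Y) * (s⁻¹).val = Y * Y := by
      rw [← conjHom_apply, map_mul, hsY, neg_mul_neg]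
    rw [hsYY, ← conjHom_apply, hsY]
  have e'' : (kzU 1 s * g * (kzU 1 s)⁻¹)⁻¹.val = 1 + kz P.E Y - kz B (Y * Y) := by
    refine left_inv_eq_right_inv (Units.inv_mul _) ?_
    rw [e']
    simp only [add_mul, mul_add, mul_sub, one_mul, mul_one, kz_mul, hY3, hY3', hY4, kz_zero_right, kz_neg_right,
      neg_mul, mul_neg, E_sq, kz_zero_left, neg_zero]
    abel
  have h2Y := hns ((2 : F) • Y) ⟨g * (kzU 1 s * g * (kzU 1 s)⁻¹)⁻¹,
    mul_mem hg (inv_mem (mul_mem (mul_mem hx hg) (inv_mem hx))), by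
      rw [Units.val_mul, e, e'']
      simp only [add_mul, mul_add, mul_sub, one_mul, mul_one, kz_mul, hY3, hY3', hY4, kz_zero_right, kz_smul_right,
        E_sq, kz_zero_left]
      module⟩
  exact (smul_eq_zero.mp h2Y).resolve_left two

end Cfsg.Agent.WreathO
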