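import Cfsg.Agent.WreathO.LineDecomp

/-!
An element fixing a line of the first slot moves an element of the other slots out of the stabiliser (helper1).
-/

set_option autoImplicit false
set_option linter.unusedSectionVars false

namespace Cfsg.Agent.WreathO

open Matrix Cfsg.Agent.MaxSub Cfsg.Agent.MaxSub.Asch Cfsg.Agent.FG75.SpinTensor Cfsg.Agent.WreathMax

variable {F : Type*} [Field F] [Fintype F] {k t : ℕ} {P : Std k F}

/-- The middle represents every scalar when it has two coordinates. -/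
theorem exists_mid_value (two : (2 : F) ≠ 0) (hk : 4 ≤ k) (ν : F) :
    ∃ y, P.IsMid y ∧ sf P.S y y = ν := by
  classical
  let c : Fin k := ⟨2, by omega⟩
  let d : Fin k := ⟨3, by omega⟩
  have hc : c ≠ P.i0 ∧ c ≠ P.i1 := by simp [c, Std.i0, Std.i1, Fin.ext_iff]
  have hd : d ≠ P.i0 ∧ d ≠ P.i1 := by simp [d, Std.i0, Std.i1, Fin.ext_iff]
  have hcd : c ≠ d := by simp [c, d, Fin.ext_iff]
  have hodd : ringChar F ≠ 2 := by
    intro h2
    have := ringChar.of_eq h2
    exact two CharTwo.two_eq_zero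
  obtain ⟨a, b, hab⟩ := FiniteField.exists_root_sum_quadratic
    (f := Polynomial.C (P.w c) * Polynomial.X ^ 2)
    (g := Polynomial.C (P.w d) * Polynomial.X ^ 2 + Polynomial.C (-ν))
    (Polynomial.degree_C_mul_X_pow 2 (P.w_ne c))
    (by rw [Polynomial.degree_add_C (by rw [Polynomial.degree_C_mul_X_pow 2 (P.w_ne d)]; decide),
      Polynomial.degree_C_mul_X_pow 2 (P.w_ne d)]; rfl)
    (FiniteField.odd_card_of_char_ne_two hodd)
  simp only [Polynomial.eval_mul, Polynomial.eval_C, Polynomial.eval_pow, Polynomial.eval_X,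
    Polynomial.eval_add] at hab
  refine ⟨a • (Pi.single c 1 : Fin k → F) + b • Pi.single d 1,
    ((Std.isMid_single hc.1 hc.2).smul a).add ((Std.isMid_single hd.1 hd.2).smul b), ?_⟩
  simp only [sf_add_left, sf_add_right, sf_smul_left, sf_smul_right, Std.sf_single_mid hc.1 hc.2,
    Std.sf_single_mid hd.1 hd.2, sf_single, Std.J_mid hc.1 hc.2, Std.J_mid hd.1 hd.2,
    Pi.single_eq_of_ne hcd, Pi.single_eq_of_ne (Ne.symm hcd)]
  linear_combination hab

theorem sf_eo_sub {a : F} : sf P.S (P.eo - a • P.ew) (P.eo - a • P.ew) = -(2 * a) := by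
  simp only [sf_sub_left, sf_sub_right, sf_smul_left, sf_smul_right, P.eo_iso, P.ew_iso, P.eo_ew, P.ew_eo]
  ring

theorem refl_eo_sub (two : (2 : F) ≠ 0) {a : F} (ha : a ≠ 0) :
    (refl P.S (P.eo - a • P.ew)).val *ᵥ P.eo = a • P.ew ∧
      (refl P.S (P.eo - a • P.ew)).val *ᵥ P.ew = a⁻¹ • P.eo := by
  have hne : sf P.S (P.eo - a • P.ew) (P.eo - a • P.ew) ≠ 0 := by
    rw [sf_eo_sub]; exact neg_ne_zero.mpr (mul_ne_zero two ha)
  constructor
  · rw [refl_mulVec hne, sf_eo_sub, show sf P.S P.eo (P.eo - a • P.ew) = -a by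
      simp [sf_sub_right, sf_smul_right, P.eo_iso, P.eo_ew],
      show 2 * -a / -(2 * a) = 1 by field_simp, one_smul, sub_sub_cancel]
  · rw [refl_mulVec hne, sf_eo_sub, show sf P.S P.ew (P.eo - a • P.ew) = 1 by
      simp [sf_sub_right, sf_smul_right, P.ew_iso, P.ew_eo],
      show 2 * (1 : F) / -(2 * a) = -a⁻¹ by field_simp, neg_smul, sub_neg_eq_add, smul_sub, smul_smul,
      inv_mul_cancel₀ ha, one_smul]
    abel

/-- A torus element with a prescribed eigenvalue. -/
theorem exists_torus_eo (hP : P.Good) {a : F} (ha : a ≠ 0) (h : 4 ≤ k ∨ ∃ b, a = b * b) :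
    ∃ T ∈ Om P.S, T.val *ᵥ P.eo = a • P.eo := by
  have two := hP.two
  have hne : ∀ c : F, c ≠ 0 → sf P.S (P.eo - c • P.ew) (P.eo - c • P.ew) ≠ 0 := fun c hc => by
    rw [sf_eo_sub]; exact neg_ne_zero.mpr (mul_ne_zero two hc)
  have e1 : (refl P.S (P.eo - (1 : F) • P.ew)).val *ᵥ P.ew = P.eo := by
    have := (refl_eo_sub (P := P) two (one_ne_zero)).2
    rw [inv_one] at this
    exact this.trans (one_smul F _)
  rcases h with hk | ⟨b, rfl⟩
  · obtain ⟨d, hd, hdd⟩ := exists_mid_value (P := P) two hk (-(2 * 1))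
    obtain ⟨d', hd', hdd'⟩ := exists_mid_value (P := P) two hk (-(2 * a))
    have hdn : sf P.S d d ≠ 0 := by rw [hdd]; simp [two]
    have hdn' : sf P.S d' d' ≠ 0 := by rw [hdd']; simp [two, ha]
    refine ⟨refl P.S (P.eo - (1 : F) • P.ew) * refl P.S d * (refl P.S d' * refl P.S (P.eo - a • P.ew)),
      mul_mem (refl_mul_refl_mem_Om two (hne 1 one_ne_zero) (by rw [sf_eo_sub, hdd]))
        (refl_mul_refl_mem_Om two hdn' (by rw [sf_eo_sub, hdd'])), ?_⟩
    simp only [Units.val_mul, ← mulVec_mulVec, (refl_eo_sub two ha).1, mulVec_smul, refl_fix hdn' hd'.ew',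
      refl_fix hdn hd.ew', e1]
  · have hb : b ≠ 0 := left_ne_zero_of_mul ha
    set D := refl P.S (P.eo - (1 : F) • P.ew) * refl P.S (P.eo - b • P.ew) with hD
    have hDe : D.val *ᵥ P.eo = b • P.eo := by
      rw [hD, Units.val_mul, ← mulVec_mulVec, (refl_eo_sub two hb).1, mulVec_smul, e1]
    refine ⟨D * D, sq_mem_Om _ two (mul_mem (refl_mem_O (hne 1 one_ne_zero)) (refl_mem_O (hne b hb))), ?_⟩
    rw [Units.val_mul, ← mulVec_mulVec, hDe, mulVec_smul, hDe, smul_smul]

theorem exists_four_ne (two : (2 : F) ≠ 0) (h3 : Nat.card F ≠ 3) (h5 : Nat.card F ≠ 5) :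
    ∃ b : F, b ≠ 0 ∧ b * b * (b * b) ≠ 1 := by
  classical
  by_contra hc
  push Not at hc
  have hsub : (Finset.univ : Finset F) ⊆ insert 0 (Polynomial.X ^ 4 - 1 : Polynomial F).roots.toFinset := by
    intro b _
    rcases eq_or_ne b 0 with rfl | hb
    · simp
    refine Finset.mem_insert_of_mem (Multiset.mem_toFinset.mpr ?_)
    rw [← Polynomial.C_1, Polynomial.mem_roots (Polynomial.X_pow_sub_C_ne_zero (by norm_num : 0 < 4) (1 : F))]
    simp only [Polynomial.IsRoot, Polynomial.eval_sub, Polynomial.eval_pow, Polynomial.eval_X,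
      Polynomial.eval_C]
    linear_combination hc b hb
  have h1 := (Finset.card_le_card hsub).trans (Finset.card_insert_le _ _)
  have h2 := (Multiset.toFinset_card_le (Polynomial.X ^ 4 - 1 : Polynomial F).roots).trans
    (Polynomial.card_roots' _)
  rw [show (1 : Polynomial F) = Polynomial.C 1 from Polynomial.C_1.symm, Polynomial.natDegree_X_pow_sub_C] at h2
  rw [Finset.card_univ, ← Nat.card_eq_fintype_card] at h1
  have hle : Nat.card F ≤ 5 := h1.trans (Nat.add_le_add_right (by simpa using h2) 1)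
  have hodd : Nat.card F % 2 = 1 := by
    rw [Nat.card_eq_fintype_card]
    refine FiniteField.odd_card_of_char_ne_two fun h2' => ?_
    have := ringChar.of_eq h2'
    exact two CharTwo.two_eq_zero
  have := Finite.one_lt_card (α := F)
  omega

theorem exists_sq_ne (two : (2 : F) ≠ 0) (h3 : Nat.card F ≠ 3) : ∃ a : F, a ≠ 0 ∧ a * a ≠ 1 := by
  classical
  by_contra hc
  push Not at hc
  apply h3
  have e : (Finset.univ : Finset F) = {0, 1, -1} := by
    ext a
    rcases eq_or_ne a 0 with rfl | ha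
    · simp
    rcases mul_self_eq_one_iff.mp (hc a ha) with rfl | rfl <;> simp
  have h1 : (1 : F) ≠ -1 := fun h => two (by linear_combination h)
  rw [Nat.card_eq_fintype_card, ← Finset.card_univ, e, Finset.card_insert_of_notMem (by simp [eq_comm]),
    Finset.card_pair h1]

theorem three_eq_zero (h3 : Nat.card F = 3) : (3 : F) = 0 := by
  rw [Nat.card_eq_fintype_card] at h3
  simpa [h3] using Nat.cast_card_eq_zero F

variable {H : Subgroup (GL (Fin (t + 1) → Fin k) F)}

/-- Away from two small cases the centre-like part vanishes. -/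
theorem centre_part_zero (hP : P.Good) (hM : ContainsW P.S H) (hns : ∀ Z, InC P H Z → Z = 0)
    (hreg : ¬ ((Nat.card F = 5 ∧ k = 3) ∨ (Nat.card F = 3 ∧ k = 4))) {u : GL (Fin (t + 1) → Fin k) F}
    {Z : Matrix (Fin t → Fin k) (Fin t → Fin k) F} (hu : u.val = 1 + kz P.E Z)
    (huT : ∀ T ∈ Om P.S, u * kzU T (1 : GL (Fin t → Fin k) F) * u⁻¹ ∈ H) : Z = 0 := by
  classical
  have two := hP.two
  have hinv : (u⁻¹).val = 1 - kz P.E Z := by
    refine left_inv_eq_right_inv (Units.inv_mul u) ?_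
    rw [hu, add_mul, one_mul, mul_sub, mul_one, kz_mul, E_sq, kz_zero_left]
    abel
  have hcom : ∀ T ∈ Om P.S, ∃ h ∈ H, h.val = 1 + kz (P.E - rk P.S (T.val *ᵥ P.eo) (T.val *ᵥ P.eo)) Z -
      kz (P.E * rk P.S (T.val *ᵥ P.eo) (T.val *ᵥ P.eo)) (Z * Z) := by
    intro T hT
    refine ⟨u * kzU T (1 : GL (Fin t → Fin k) F) * u⁻¹ * (kzU T 1)⁻¹,
      mul_mem (huT T hT) (inv_mem (kzU_mem_H two hM hT (one_mem _) (one_mem _))), ?_⟩
    rw [mul_assoc u, mul_assoc u, Units.val_mul u, hu, Units.val_mul, Units.val_mul, hinv, mul_sub, sub_mul, mul_one,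
      Units.mul_inv, show ((kzU T (1 : GL (Fin t → Fin k) F))⁻¹).val = kz (T⁻¹).val 1 from by
        show kz _ _ = kz _ _; rw [inv_one, Units.val_one], kzU_coe, Units.val_one, kz_mul, kz_mul, one_mul, mul_one,
      Std.E, conj_rk P.S (Om_le_O _ two hT), ← Std.E]
    simp only [mul_sub, add_mul, one_mul, mul_one, kz_mul]
    rw [sub_eq_add_neg P.E, kz_add_left, ← neg_one_smul F (rk P.S _ _), kz_smul_left, neg_one_smul]
    abel
  by_cases hA : ∃ a : F, a ≠ 0 ∧ a * a ≠ 1 ∧ (4 ≤ k ∨ ∃ b, a = b * b)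
  · obtain ⟨a, ha, ha1, hab⟩ := hA
    obtain ⟨T, hT, hTe⟩ := exists_torus_eo hP ha hab
    obtain ⟨h, hh, hhv⟩ := hcom T hT
    rw [hTe, rk_smul_left, rk_smul_right, smul_smul, ← Std.E, mul_smul_comm, E_sq, smul_zero, kz_zero_left, sub_zero,
      show P.E - (a * a) • P.E = (1 - a * a) • P.E by rw [sub_smul, one_smul], kz_smul_left, ← kz_smul_right] at hhv
    exact (smul_eq_zero.mp (hns _ ⟨h, hh, hhv⟩)).resolve_left (sub_ne_zero.mpr (Ne.symm ha1))
  have hk := P.hk
  have h3 : Nat.card F = 3 := by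
    by_contra h3
    rcases Nat.lt_or_ge k 4 with hk4 | hk4
    · obtain ⟨b, hb, hb1⟩ := exists_four_ne two h3 fun h5 => hreg (Or.inl ⟨h5, by omega⟩)
      exact hA ⟨b * b, mul_ne_zero hb hb, hb1, Or.inr ⟨b, rfl⟩⟩
    · obtain ⟨a, ha, ha1⟩ := exists_sq_ne two h3
      exact hA ⟨a, ha, ha1, Or.inl hk4⟩
  have hk5 : 5 ≤ k := by
    by_contra h
    rcases Nat.lt_or_ge k 4 with hk4 | hk4
    · exact hP.hex ⟨h3, by omega⟩
    · exact hreg (Or.inr ⟨h3, by omega⟩)
  have h30 := three_eq_zero (F := F) h3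
  have hpm : ∀ a : F, a ≠ 0 → a = 1 ∨ a = -1 := fun a ha => by
    by_contra hc
    exact hA ⟨a, ha, fun h1 => hc (mul_self_eq_one_iff.mp h1), Or.inl (by omega)⟩
  obtain ⟨y, hy, hyy, c, hc, hyc⟩ : ∃ y, P.IsMid y ∧ sf P.S y y = 0 ∧ ∃ c ∈ P.mids, y c ≠ 0 := by
    let c : Fin k := ⟨2, by omega⟩
    let d : Fin k := ⟨3, by omega⟩
    let e : Fin k := ⟨4, by omega⟩
    have hc : c ≠ P.i0 ∧ c ≠ P.i1 := by simp [c, Std.i0, Std.i1, Fin.ext_iff]
    have hd : d ≠ P.i0 ∧ d ≠ P.i1 := by simp [d, Std.i0, Std.i1, Fin.ext_iff]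
    have he : e ≠ P.i0 ∧ e ≠ P.i1 := by simp [e, Std.i0, Std.i1, Fin.ext_iff]
    have hcd : c ≠ d := by simp [c, d, Fin.ext_iff]
    have hce : c ≠ e := by simp [c, e, Fin.ext_iff]
    have hde : d ≠ e := by simp [d, e, Fin.ext_iff]
    have pair : ∀ p q : Fin k, p ≠ P.i0 ∧ p ≠ P.i1 → q ≠ P.i0 ∧ q ≠ P.i1 → p ≠ q → P.w q = -P.w p →
        ∃ y, P.IsMid y ∧ sf P.S y y = 0 ∧ ∃ c ∈ P.mids, y c ≠ 0 := by
      intro p q hp hq hpq hw
      refine ⟨_, (Std.isMid_single hp.1 hp.2).add (Std.isMid_single hq.1 hq.2), ?_, p, Std.mem_mids.mpr hp,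
        by simp [hpq]⟩
      simp only [sf_add_left, sf_add_right, Std.sf_single_mid hp.1 hp.2, Std.sf_single_mid hq.1 hq.2, sf_single,
        Std.J_mid hp.1 hp.2, Std.J_mid hq.1 hq.2, Pi.single_eq_of_ne hpq, Pi.single_eq_of_ne (Ne.symm hpq), hw]
      ring
    by_cases h1 : P.w d = -P.w c
    · exact pair c d hc hd hcd h1
    by_cases h2 : P.w e = -P.w c
    · exact pair c e hc he hce h2
    have same : ∀ x, P.w x ≠ -P.w c → P.w x = P.w c := fun x hx => by
      rcases hpm _ (P.w_ne x) with h | h <;> rcases hpm _ (P.w_ne c) with h' | h' <;> simp_all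
    refine ⟨_, ((Std.isMid_single hc.1 hc.2).add (Std.isMid_single hd.1 hd.2)).add (Std.isMid_single he.1 he.2), ?_,
      c, Std.mem_mids.mpr hc, by simp [hcd, hce]⟩
    simp only [sf_add_left, sf_add_right, Std.sf_single_mid hc.1 hc.2, Std.sf_single_mid hd.1 hd.2,
      Std.sf_single_mid he.1 he.2, sf_single, Std.J_mid hc.1 hc.2, Std.J_mid hd.1 hd.2, Std.J_mid he.1 he.2,
      Pi.single_eq_of_ne hcd, Pi.single_eq_of_ne (Ne.symm hcd), Pi.single_eq_of_ne hce,
      Pi.single_eq_of_ne (Ne.symm hce), Pi.single_eq_of_ne hde, Pi.single_eq_of_ne (Ne.symm hde), same d h1, same e h2]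
    linear_combination P.w c * h30
  -- two elements of the radical of the opposite line
  have hroot : ∀ v : Fin k → F, P.IsMid v → sf P.S v v = 0 →
      ∃ T ∈ Om P.S, T.val *ᵥ P.eo = P.eo - v := by
    intro v hv hvv
    have hN := alt_cube P.S P.ew_iso hv.ew'
    refine ⟨expU two (alt P.S P.ew v), expU_mem_Om two hN (adj_alt _ _ _), ?_⟩
    have e1 : alt P.S P.ew v *ᵥ P.eo = -v := by
      rw [alt_mulVec, hv.eo', P.eo_ew, zero_smul, one_smul, zero_sub]
    rw [expU_coe two hN, add_mulVec, add_mulVec, one_mulVec, smul_mulVec, ← mulVec_mulVec, e1, mulVec_neg, alt_mulVec,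
      hvv, hv.ew, zero_smul, zero_smul, sub_zero, neg_zero, smul_zero, add_zero, ← sub_eq_add_neg]
  obtain ⟨T₁, hT₁, e₁⟩ := hroot y hy hyy
  obtain ⟨T₂, hT₂, e₂⟩ := hroot (-y) ⟨by simp [hy.1], by simp [hy.2]⟩ (by simp [sf_neg_left, sf_neg_right, hyy])
  obtain ⟨h₁, hh₁, hv₁⟩ := hcom T₁ hT₁
  obtain ⟨h₂, hh₂, hv₂⟩ := hcom T₂ hT₂
  rw [e₁] at hv₁
  rw [e₂, sub_neg_eq_add] at hv₂
  have hEX₁ : P.E * rk P.S (P.eo - y) (P.eo - y) = 0 := by
    rw [Std.E, rk_mul, sf_sub_left, P.eo_iso, hy.eo, sub_zero, zero_smul]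
  have hEX₂ : P.E * rk P.S (P.eo + y) (P.eo + y) = 0 := by
    rw [Std.E, rk_mul, sf_add_left, P.eo_iso, hy.eo, add_zero, zero_smul]
  rw [hEX₁, kz_zero_left, sub_zero] at hv₁
  rw [hEX₂, kz_zero_left, sub_zero] at hv₂
  have hK : InK H (rk P.S y y) Z := by
    refine ⟨h₁ * h₂, mul_mem hh₁ hh₂, ?_⟩
    rw [Units.val_mul, hv₁, hv₂, add_mul, one_mul, mul_add, mul_one, kz_mul]
    have hprod : (P.E - rk P.S (P.eo - y) (P.eo - y)) * (P.E - rk P.S (P.eo + y) (P.eo + y)) = 0 := by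
      simp only [Std.E, mul_sub, sub_mul, rk_mul, sf_add_left, sf_add_right, sf_sub_left, sf_sub_right, P.eo_iso,
        hy.eo, hy.eo', hyy]
      simp
    rw [hprod, kz_zero_left, add_zero, add_assoc, ← kz_add_left]
    congr 2
    simp only [Std.E, rk_add_left, rk_add_right, rk_sub_left, rk_sub_right]
    linear_combination (norm := module) (congrArg (fun r : F => -r • rk P.S y y) h30)
  -- carry it to the line
  obtain ⟨hc0, hc1⟩ := Std.mem_mids.mp hc
  set z' : Fin k → F := (P.S.w c * y c)⁻¹ • (Pi.single c 1 : Fin k → F) with hz'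
  have hz'm : P.IsMid z' := (Std.isMid_single hc0 hc1).smul _
  have hyz : sf P.S y z' = 1 := by
    rw [hz', sf_smul_right, sf_symm, sf_single, Std.J_mid hc0 hc1,
      inv_mul_cancel₀ (mul_ne_zero (P.S.w_ne c) hyc)]
  obtain ⟨T', hT', eT'⟩ := hroot (-y) ⟨by simp [hy.1], by simp [hy.2]⟩ (by simp [sf_neg_left, sf_neg_right, hyy])
  have hnz : P.IsMid (-z') := ⟨by simp [hz'm.1], by simp [hz'm.2]⟩
  have hN := alt_cube P.S P.eo_iso hnz.eo'
  set R := expU two (alt P.S P.eo (-z')) with hR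
  have hRT : (R * T').val *ᵥ P.eo = y := by
    rw [Units.val_mul, ← mulVec_mulVec, eT', sub_neg_eq_add, hR, expU_coe two hN, add_mulVec, add_mulVec, one_mulVec,
      smul_mulVec, ← mulVec_mulVec]
    have e : alt P.S P.eo (-z') *ᵥ (P.eo + y) = -P.eo := by
      rw [alt_mulVec, sf_add_left, sf_add_left, P.eo_iso, hy.eo, hnz.eo', sf_neg_right, hyz]
      simp
    rw [e, mulVec_neg, alt_mulVec, P.eo_iso, hnz.eo']
    simp
  set B := R * T' with hB
  have hBm : B ∈ Om P.S := mul_mem (expU_mem_Om two hN (adj_alt _ _ _)) hT'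
  have := hK.conj two hM (inv_mem hBm) (one_mem _) (one_mem _)
  rw [conj_rk P.S (Om_le_O _ two (inv_mem hBm)), show (B⁻¹).val *ᵥ y = P.eo by
    rw [← hRT, mulVec_mulVec, Units.inv_mul, one_mulVec], conjHom_apply, inv_one, Units.val_one, one_mul,
      mul_one] at this
  exact hns Z this

/-- An element fixing the line gives an element of the other slots outside the stabiliser. -/
theorem line_case (hP : P.Good) (ht : 1 ≤ t) (hH : H ≤ Om (powS P.S (t + 1))) (hM : ContainsW P.S H)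
    (hns : ∀ Z, InC P H Z → Z = 0)
    (hrad : ∀ h ∈ H, ∀ N, h.val = 1 + N → Upper P N → ∀ c ∈ P.mids, ∃ r : F, zblk N P.i0 c = r • 1)
    (himg : ∀ A : GL (Fin t → Fin k) F, IsSim (powS P.S t) A → A ∉ Geo.tensorWreathStandard k t F →
      ∃ v ∈ Geo.tensorWreathStandard k t F, v ∈ Om (powS P.S t) ∧ A * v * A⁻¹ ∉ Geo.tensorWreathStandard k t F)
    (ih : ∀ K : Subgroup (GL (Fin t → Fin k) F), K ≤ Om (powS P.S t) → ContainsW P.S K →
      ¬ K ≤ Geo.tensorWreathStandard k t F → Om (powS P.S t) ≤ K)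
    (hsmall : ((Nat.card F = 5 ∧ k = 3) ∨ (Nat.card F = 3 ∧ k = 4)) → 2 ≤ t →
      (∀ v ∈ Om (powS P.S t), ∃ Y, ∃ h ∈ H, h.val = (1 + kz P.E Y) * kz 1 v.val) →
      ∃ g₀ ∈ Om (powS P.S t), g₀ ∉ Geo.tensorWreathStandard k t F ∧ kzU 1 g₀ ∈ H)
    {g : GL (Fin (t + 1) → Fin k) F} (hgO : g ∈ O (powS P.S (t + 1)))
    (hgW : g ∉ Geo.tensorWreathStandard k (t + 1) F)
    (hconj : ∀ w ∈ Geo.tensorWreathStandard k (t + 1) F, w ∈ Om (powS P.S (t + 1)) → g * w * g⁻¹ ∈ H)
    {r : F} (hcomm : g.val * kz P.E 1 = r • (kz P.E 1 * g.val)) :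
    ∃ g₀ ∈ Om (powS P.S t), g₀ ∉ Geo.tensorWreathStandard k t F ∧ kzU 1 g₀ ∈ H := by
  classical
  have two := hP.two
  obtain ⟨u, Z, L, A, hu, hZs, -, hA, hg, huT⟩ := line_decomp hP hH hM hrad hgO hconj hcomm
  have huv : ∀ v ∈ Geo.tensorWreathStandard k t F, v ∈ Om (powS P.S t) →
      u * kzU 1 (A * v * A⁻¹) * u⁻¹ ∈ H := by
    intro v hv hv'
    have h := hconj _ (kzU_mem (1 : GL (Fin k) F) hv) (restHom_mem_Om two hv')
    have e : kzU L A * kzU 1 v = kzU 1 (A * v * A⁻¹) * kzU L A := by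
      rw [kzU_mul, kzU_mul, mul_one, one_mul, inv_mul_cancel_right]
    have e2 : g * kzU 1 v * g⁻¹ = u * kzU 1 (A * v * A⁻¹) * u⁻¹ := by
      rw [mul_inv_eq_iff_eq_mul, hg, mul_assoc u, e]
      group
    rwa [e2] at h
  by_cases hZ0 : Z = 0
  · have hu1 : u = 1 := Units.ext (by rw [hu, hZ0, kz_zero_right, add_zero, Units.val_one])
    have hAW : A ∉ Geo.tensorWreathStandard k t F := fun h => hgW (by
      rw [hg, hu1, one_mul]; exact kzU_mem L h)
    obtain ⟨v, hv, hv', hout⟩ := himg A hA hAW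
    refine ⟨_, hA.conj_mem_Om two hv', hout, ?_⟩
    simpa [hu1] using huv v hv hv'
  have hsm : (Nat.card F = 5 ∧ k = 3) ∨ (Nat.card F = 3 ∧ k = 4) := by
    by_contra hreg
    exact hZ0 (centre_part_zero hP hM hns hreg hu huT)
  have hinv : (u⁻¹).val = 1 - kz P.E Z := by
    refine left_inv_eq_right_inv (Units.inv_mul u) ?_
    rw [hu, add_mul, one_mul, mul_sub, mul_one, kz_mul, E_sq, kz_zero_left]
    abel
  -- the elements of the other slots lifting to the group
  let C : Subgroup (GL (Fin t → Fin k) F) :=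
    { carrier := {v | ∃ Y, ∃ h ∈ H, h.val = (1 + kz P.E Y) * kz 1 v.val}
      one_mem' := ⟨0, 1, one_mem H, by rw [kz_zero_right, add_zero, Units.val_one, Units.val_one, kz_one, one_mul]⟩
      mul_mem' := fun {v v'} ⟨Y, h, hh, e⟩ ⟨Y', h', hh', e'⟩ => ⟨Y + v.val * Y' * (v⁻¹).val, h * h', mul_mem hh hh', by
        rw [Units.val_mul, Units.val_mul, e, e']
        simp only [mul_add, add_mul, one_mul, mul_one, kz_mul, kz_add_right, mul_assoc, Units.inv_mul_cancel_left,
          ← mul_assoc P.E, E_sq, zero_mul, kz_zero_left, add_zero]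
        abel⟩
      inv_mem' := fun {v} ⟨Y, h, hh, e⟩ => ⟨-((v⁻¹).val * Y * v.val), h⁻¹, inv_mem hh,
        left_inv_eq_right_inv (Units.inv_mul h) (by
          rw [e]
          simp only [kz_neg_right, mul_add, add_mul, mul_neg, neg_mul, one_mul, mul_one, kz_mul, mul_assoc,
            Units.mul_inv_cancel_left, Units.mul_inv, Units.inv_mul_cancel_left, ← mul_assoc P.E, E_sq, zero_mul,
            kz_zero_left, add_zero, kz_one, neg_zero]
          abel)⟩ }
  have hmem : ∀ v w : GL (Fin t → Fin k) F, u * kzU 1 v * u⁻¹ * (kzU 1 w)⁻¹ ∈ H →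
      ∃ h ∈ H, h.val = (1 + kz P.E (Z - v.val * Z * (v⁻¹).val)) * kz 1 (v * w⁻¹).val := by
    intro v w h
    refine ⟨_, h, ?_⟩
    rw [Units.val_mul, Units.val_mul, Units.val_mul, hu, hinv, show ((kzU (1 : GL (Fin k) F) w)⁻¹).val = kz 1 (w⁻¹).val from by
        show kz _ _ = kz _ _; rw [inv_one, Units.val_one], kzU_coe, Units.val_one, Units.val_mul]
    simp only [mul_sub, sub_mul, mul_add, add_mul, one_mul, mul_one, kz_mul, sub_eq_add_neg, kz_add_right,
      kz_neg_right, neg_mul, mul_neg, Matrix.mul_smul, Matrix.smul_mul, mul_assoc, Units.inv_mul_cancel_left,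
      ← mul_assoc P.E, E_sq, zero_mul, mul_zero, kz_zero_left, smul_zero, neg_zero, add_zero]
    abel
  have hCW : ∀ v ∈ Geo.tensorWreathStandard k t F, v ∈ Om (powS P.S t) → v ∈ C := fun v hv hv' =>
    ⟨0, kzU 1 v, kzU_mem_H two hM (one_mem _) hv' hv, by
      rw [kz_zero_right, add_zero, one_mul, kzU_coe, Units.val_one]⟩
  have hAW : A ∉ Geo.tensorWreathStandard k t F := by
    intro hAW
    refine hZ0 ?_
    have hcommZ : ∀ l x d, IsRoot P.S x d → Commute (slot l (alt P.S x d)) Z := by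
      intro l x d hr
      have key : ∀ v ∈ Geo.tensorWreathStandard k t F, v ∈ Om (powS P.S t) → Commute v.val Z := by
        intro v hv hv'
        have h := huv (A⁻¹ * v * A) (mul_mem (mul_mem (inv_mem hAW) hv) hAW)
          (by simpa using hA.inv.conj_mem_Om two hv')
        rw [show A * (A⁻¹ * v * A) * A⁻¹ = v by group] at h
        obtain ⟨e, he, hev⟩ := hmem v v (mul_mem h (inv_mem (kzU_mem_H two hM (one_mem _) hv' hv)))
        rw [mul_inv_cancel, Units.val_one, kz_one, mul_one] at hev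
        have h0 := sub_eq_zero.mp (hns _ ⟨e, he, hev⟩)
        show v.val * Z = Z * v.val
        conv_rhs => rw [h0, mul_assoc, Units.inv_mul, mul_one]
      have hc := slot_alt_cube P.S l hr
      have h1 := key _ (slotU_mem _ _) (sRoot_mem_Om P.S two l hr)
      have h2 := key _ (inv_mem (slotU_mem _ _)) (inv_mem (sRoot_mem_Om P.S two l hr))
      rw [show slotU l (root P.S two x d) = sRoot P.S two l x d from rfl, sRoot_eq P.S two l hr,
        expU_coe two hc] at h1
      rw [show slotU l (root P.S two x d) = sRoot P.S two l x d from rfl, sRoot_eq P.S two l hr,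
        show (expU two (slot l (alt P.S x d)))⁻¹ = expU two ((-1 : F) • slot l (alt P.S x d)) by
          conv_lhs => rw [← one_smul F (slot l (alt P.S x d))]
          rw [expU_smul_inv two hc], expU_coe two (by simp [Matrix.smul_mul, Matrix.mul_smul, hc])] at h2
      have h3 := (h1.sub_left h2).smul_left (2 : F)⁻¹
      rwa [show (2 : F)⁻¹ • (1 + slot l (alt P.S x d) + (2 : F)⁻¹ • (slot l (alt P.S x d) * slot l (alt P.S x d)) -
          (1 + (-1 : F) • slot l (alt P.S x d) +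
            (2 : F)⁻¹ • (((-1 : F) • slot l (alt P.S x d)) * ((-1 : F) • slot l (alt P.S x d))))) =
            slot l (alt P.S x d) by
        simp only [Matrix.smul_mul, Matrix.mul_smul, smul_smul]
        match_scalars <;> field_simp <;> ring] at h3
    obtain ⟨c, hc⟩ := scalar_of_commute two hcommZ
    rw [hc, adj_smul, adj_one] at hZs
    haveI : Nonempty (Fin k) := ⟨P.i0⟩
    have : (2 * c) • (1 : Matrix (Fin t → Fin k) (Fin t → Fin k) F) = 0 := by
      rw [two_mul, add_smul]; exact add_eq_zero_iff_eq_neg.mpr hZs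
    rw [hc, (mul_eq_zero.mp ((smul_eq_zero.mp this).resolve_right one_ne_zero)).resolve_left two, zero_smul]
  have ht2 : 2 ≤ t := by
    by_contra h
    obtain rfl : t = 1 := by omega
    exact hAW (mem_wreath_one A)
  obtain ⟨v, hv, hv', hout⟩ := himg A hA hAW
  have hfull := ih (Om (powS P.S t) ⊓ C) inf_le_left (fun w hw hw' => ⟨hw', hCW w hw hw'⟩) fun hle => hout (hle
    ⟨hA.conj_mem_Om two hv', by
      obtain ⟨e, he, hev⟩ := hmem (A * v * A⁻¹) 1 (by
        rw [show kzU (1 : GL (Fin k) F) (1 : GL (Fin t → Fin k) F) = 1 from Units.ext kz_one, inv_one, mul_one]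
        exact huv v hv hv')
      rw [inv_one, mul_one] at hev
      exact ⟨_, e, he, hev⟩⟩)
  exact hsmall hsm ht2 fun w hw => (hfull hw).2

end Cfsg.Agent.WreathO
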