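import Cfsg.Agent.WreathO.PureOps

/-!
A stable family with a member that is not scalar contains a pure member (helper42).
-/

set_option autoImplicit false
set_option linter.unusedSectionVars false
set_option linter.unusedSimpArgs false

namespace Cfsg.Agent.WreathO

open Matrix Cfsg.Agent.MaxSub Cfsg.Agent.MaxSub.Asch Cfsg.Agent.FG75.SpinTensor Cfsg.Agent.WreathMax

variable {F : Type*} [Field F] {k t : ℕ} {P : Std k F}

/-! ### Blocks of one slot -/

/-- The block of one slot at two indices of the others. -/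
def sblk (l : Fin t) (X : Matrix (Fin t → Fin k) (Fin t → Fin k) F) (x y : Fin t → Fin k) :
    Matrix (Fin k) (Fin k) F :=
  Matrix.of fun a b => X (Function.update x l a) (Function.update y l b)

theorem sblk_apply (l : Fin t) (X : Matrix (Fin t → Fin k) (Fin t → Fin k) F) (x y : Fin t → Fin k) (a b : Fin k) :
    sblk l X x y a b = X (Function.update x l a) (Function.update y l b) := rfl

theorem sblk_add (l : Fin t) (X Y : Matrix (Fin t → Fin k) (Fin t → Fin k) F) (x y : Fin t → Fin k) :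
    sblk l (X + Y) x y = sblk l X x y + sblk l Y x y := by ext a b; simp [sblk_apply]

theorem sblk_smul (l : Fin t) (c : F) (X : Matrix (Fin t → Fin k) (Fin t → Fin k) F) (x y : Fin t → Fin k) :
    sblk l (c • X) x y = c • sblk l X x y := by ext a b; simp [sblk_apply]

theorem sblk_sum {κ : Type*} (l : Fin t) (s : Finset κ) (X : κ → Matrix (Fin t → Fin k) (Fin t → Fin k) F)
    (x y : Fin t → Fin k) : sblk l (∑ i ∈ s, X i) x y = ∑ i ∈ s, sblk l (X i) x y := by
  ext a b; simp [sblk_apply, Matrix.sum_apply]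

theorem sblk_ext (l : Fin t) {X Y : Matrix (Fin t → Fin k) (Fin t → Fin k) F}
    (h : ∀ x y, sblk l X x y = sblk l Y x y) : X = Y := by
  ext x y
  have := congrFun (congrFun (h x y) (x l)) (y l)
  simpa [sblk_apply] using this

theorem sblk_slot_mul (l : Fin t) (A : Matrix (Fin k) (Fin k) F) (X : Matrix (Fin t → Fin k) (Fin t → Fin k) F)
    (x y : Fin t → Fin k) : sblk l (slot l A * X) x y = A * sblk l X x y := by
  ext a b
  rw [sblk_apply, Matrix.mul_apply, Matrix.mul_apply]
  refine (Fintype.sum_of_injective (fun c => Function.update x l c) (Function.update_injective x l) _ _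
    (fun w hw => ?_) fun c => ?_).symm
  · rw [mul_eq_zero_of_left]
    obtain ⟨j, hjl, hj⟩ : ∃ j, j ≠ l ∧ Function.update x l a j ≠ w j := by
      by_contra hc
      push Not at hc
      refine hw ⟨w l, funext fun j => ?_⟩
      rcases eq_or_ne j l with rfl | hj
      · simp
      · simpa [hj] using hc j hj
    exact slot_entry_eq_zero A hjl hj
  · rw [slot_entry_self A (fun j hj => by simp [hj]), Function.update_self, Function.update_self, sblk_apply]

theorem sblk_mul_slot (l : Fin t) (A : Matrix (Fin k) (Fin k) F) (X : Matrix (Fin t → Fin k) (Fin t → Fin k) F)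
    (x y : Fin t → Fin k) : sblk l (X * slot l A) x y = sblk l X x y * A := by
  ext a b
  rw [sblk_apply, Matrix.mul_apply, Matrix.mul_apply]
  refine (Fintype.sum_of_injective (fun c => Function.update y l c) (Function.update_injective y l) _ _
    (fun w hw => ?_) fun c => ?_).symm
  · rw [mul_eq_zero_of_right]
    obtain ⟨j, hjl, hj⟩ : ∃ j, j ≠ l ∧ w j ≠ Function.update y l b j := by
      by_contra hc
      push Not at hc
      refine hw ⟨w l, funext fun j => ?_⟩
      rcases eq_or_ne j l with rfl | hj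
      · simp
      · simpa [hj] using (hc j hj).symm
    exact slot_entry_eq_zero A hjl hj
  · rw [slot_entry_self A (fun j hj => by simp [hj]), Function.update_self, Function.update_self, sblk_apply]

/-- Commutes with one slot. -/
def SComm (l : Fin t) (X : Matrix (Fin t → Fin k) (Fin t → Fin k) F) : Prop :=
  ∀ A : Matrix (Fin k) (Fin k) F, Commute (slot l A) X

theorem SComm.one (l : Fin t) : SComm l (1 : Matrix (Fin t → Fin k) (Fin t → Fin k) F) :=
  fun _ => Commute.one_right _

theorem SComm.add {l : Fin t} {X Y : Matrix (Fin t → Fin k) (Fin t → Fin k) F} (h : SComm l X) (h' : SComm l Y) :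
    SComm l (X + Y) := fun A => (h A).add_right (h' A)

theorem SComm.smul {l : Fin t} {X : Matrix (Fin t → Fin k) (Fin t → Fin k) F} (c : F) (h : SComm l X) :
    SComm l (c • X) := fun A => (h A).smul_right c

theorem SComm.sblk_eq {l : Fin t} {X : Matrix (Fin t → Fin k) (Fin t → Fin k) F} (h : SComm l X)
    (x y : Fin t → Fin k) : Sc (sblk l X x y) := by
  obtain ⟨c, hc⟩ := Matrix.mem_range_scalar_of_commute_single (M := sblk l X x y) fun i j _ => by
    have h1 := congrArg (fun Z => sblk l Z x y) (h (Matrix.single i j 1)).eq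
    rw [sblk_slot_mul, sblk_mul_slot] at h1
    exact h1
  exact ⟨c, by rw [← hc, Matrix.scalar_apply, ← Matrix.smul_one_eq_diagonal]⟩

theorem sComm_of_sc {l : Fin t} {X : Matrix (Fin t → Fin k) (Fin t → Fin k) F}
    (h : ∀ x y, Sc (sblk l X x y)) : SComm l X := fun A => by
  refine sblk_ext l fun x y => ?_
  obtain ⟨r, hr⟩ := h x y
  rw [sblk_slot_mul, sblk_mul_slot, hr, mul_smul_comm, smul_mul_assoc, mul_one, one_mul]

/-- The coefficient at one entry of a slot. -/
def sctr (l : Fin t) (p q : Fin k) (X : Matrix (Fin t → Fin k) (Fin t → Fin k) F) :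
    Matrix (Fin t → Fin k) (Fin t → Fin k) F :=
  ∑ a, slot l (Matrix.single a p 1) * X * slot l (Matrix.single q a 1)

theorem sblk_sctr (l : Fin t) (p q : Fin k) (X : Matrix (Fin t → Fin k) (Fin t → Fin k) F) (x y : Fin t → Fin k) :
    sblk l (sctr l p q X) x y = sblk l X x y p q • 1 := by
  rw [sctr, sblk_sum]
  simp only [sblk_mul_slot, sblk_slot_mul]
  ext u v
  simp [Matrix.sum_apply, Matrix.mul_apply, Matrix.single_apply, Matrix.one_apply, ite_and]

theorem sctr_sComm (l : Fin t) (p q : Fin k) (X : Matrix (Fin t → Fin k) (Fin t → Fin k) F) :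
    SComm l (sctr l p q X) := sComm_of_sc fun x y => ⟨_, sblk_sctr l p q X x y⟩

theorem SComm.sctr {l j : Fin t} (hj : j ≠ l) {X : Matrix (Fin t → Fin k) (Fin t → Fin k) F} (h : SComm j X)
    (p q : Fin k) : SComm j (WreathO.sctr l p q X) := fun A =>
  Commute.sum_right _ _ _ fun _ _ =>
    ((show Commute _ _ from slot_comm hj A _).mul_right (h A)).mul_right (show Commute _ _ from slot_comm hj A _)

/-- An operator of one slot, applied in that slot. -/
def slift (l : Fin t) (Ψ : Module.End F (Matrix (Fin k) (Fin k) F))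
    (X : Matrix (Fin t → Fin k) (Fin t → Fin k) F) : Matrix (Fin t → Fin k) (Fin t → Fin k) F :=
  ∑ p, ∑ q, slot l (Ψ (Matrix.single p q 1)) * sctr l p q X

theorem sblk_slift (l : Fin t) (Ψ : Module.End F (Matrix (Fin k) (Fin k) F))
    (X : Matrix (Fin t → Fin k) (Fin t → Fin k) F) (x y : Fin t → Fin k) :
    sblk l (slift l Ψ X) x y = Ψ (sblk l X x y) := by
  conv_rhs => rw [Matrix.matrix_eq_sum_single (sblk l X x y)]
  simp only [slift, sblk_sum, sblk_slot_mul, sblk_sctr, map_sum]
  refine Finset.sum_congr rfl fun p _ => Finset.sum_congr rfl fun q _ => ?_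
  rw [mul_smul_comm, mul_one, ← map_smul, Matrix.smul_single, smul_eq_mul, mul_one]

theorem SComm.slift {l j : Fin t} (hj : j ≠ l) {X : Matrix (Fin t → Fin k) (Fin t → Fin k) F} (h : SComm j X)
    (Ψ : Module.End F (Matrix (Fin k) (Fin k) F)) : SComm j (WreathO.slift l Ψ X) := fun A =>
  Commute.sum_right _ _ _ fun _ _ => Commute.sum_right _ _ _ fun _ _ =>
    (show Commute _ _ from slot_comm hj A _).mul_right (h.sctr hj _ _ A)

/-- The lift of a pure map. -/
theorem slift_slot_mul {l : Fin t} {C : Matrix (Fin t → Fin k) (Fin t → Fin k) F} (hC : SComm l C)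
    (Ψ : Module.End F (Matrix (Fin k) (Fin k) F)) (A : Matrix (Fin k) (Fin k) F) :
    slift l Ψ (slot l A * C) = slot l (Ψ A) * C := by
  refine sblk_ext l fun x y => ?_
  obtain ⟨r, hr⟩ := hC.sblk_eq x y
  rw [sblk_slift, sblk_slot_mul, sblk_slot_mul, hr, mul_smul_comm, mul_smul_comm, mul_one, mul_one, map_smul]

theorem sblk_conj (l : Fin t) (g : GL (Fin k) F) (X : Matrix (Fin t → Fin k) (Fin t → Fin k) F)
    (x y : Fin t → Fin k) : sblk l (conjHom (slotU l g) X) x y = cop g (sblk l X x y) := by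
  rw [conjHom_apply, slotU_inv, slotU_coe, slotU_coe, sblk_mul_slot, sblk_slot_mul, cop_apply]

theorem SComm.conj {l j : Fin t} (hj : j ≠ l) {X : Matrix (Fin t → Fin k) (Fin t → Fin k) F} (h : SComm j X)
    (g : GL (Fin k) F) : SComm j (conjHom (slotU l g) X) := fun A => by
  rw [conjHom_apply, slotU_inv, slotU_coe, slotU_coe]
  exact ((show Commute _ _ from slot_comm hj A _).mul_right (h A)).mul_right
    (show Commute _ _ from slot_comm hj A _)

theorem slift_zero (l : Fin t) (X : Matrix (Fin t → Fin k) (Fin t → Fin k) F) : slift l 0 X = 0 := by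
  simp [slift, slot_zero']

theorem slift_add (l : Fin t) (Ψ Φ : Module.End F (Matrix (Fin k) (Fin k) F))
    (X : Matrix (Fin t → Fin k) (Fin t → Fin k) F) : slift l (Ψ + Φ) X = slift l Ψ X + slift l Φ X := by
  refine sblk_ext l fun x y => ?_
  rw [sblk_slift, sblk_add, sblk_slift, sblk_slift, LinearMap.add_apply]

theorem slift_mul (l : Fin t) (Ψ Φ : Module.End F (Matrix (Fin k) (Fin k) F))
    (X : Matrix (Fin t → Fin k) (Fin t → Fin k) F) : slift l (Ψ * Φ) X = slift l Ψ (slift l Φ X) := by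
  refine sblk_ext l fun x y => ?_
  rw [sblk_slift, sblk_slift, sblk_slift, Module.End.mul_apply]

theorem slift_one (l : Fin t) (X : Matrix (Fin t → Fin k) (Fin t → Fin k) F) : slift l 1 X = X := by
  refine sblk_ext l fun x y => ?_
  rw [sblk_slift, Module.End.one_apply]

theorem slift_neg (l : Fin t) (Ψ : Module.End F (Matrix (Fin k) (Fin k) F))
    (X : Matrix (Fin t → Fin k) (Fin t → Fin k) F) : slift l (-Ψ) X = -slift l Ψ X := by
  refine eq_neg_of_add_eq_zero_left ?_
  rw [← slift_add, neg_add_cancel, slift_zero]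

theorem slift_cop (l : Fin t) (g : GL (Fin k) F) (X : Matrix (Fin t → Fin k) (Fin t → Fin k) F) :
    slift l (cop g) X = conjHom (slotU l g) X :=
  sblk_ext l fun x y => by rw [sblk_slift, sblk_conj]

variable {κ : Type}

/-- The operators of one slot keeping a family. -/
def stabOps (l : Fin t) (R : AddSubgroup (κ → Matrix (Fin t → Fin k) (Fin t → Fin k) F)) :
    Subring (Module.End F (Matrix (Fin k) (Fin k) F)) where
  carrier := {Ψ | ∀ X ∈ R, (fun c => slift l Ψ (X c)) ∈ R}
  one_mem' X hX := by simp only [slift_one]; exact hX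
  zero_mem' X _ := by simp only [slift_zero]; exact R.zero_mem
  mul_mem' {Ψ Φ} hΨ hΦ X hX := by simp only [slift_mul]; exact hΨ _ (hΦ X hX)
  add_mem' {Ψ Φ} hΨ hΦ X hX := by simp only [slift_add]; exact R.add_mem (hΨ X hX) (hΦ X hX)
  neg_mem' {Ψ} hΨ X hX := by simp only [slift_neg]; exact R.neg_mem (hΨ X hX)

theorem hasOm_stabOps {l : Fin t} {R : AddSubgroup (κ → Matrix (Fin t → Fin k) (Fin t → Fin k) F)}
    (h : ∀ X ∈ R, ∀ g ∈ Om P.S, (fun c => conjHom (slotU l g) (X c)) ∈ R) : HasOm P (stabOps l R) := by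
  intro g hg X hX
  simp only [slift_cop]
  exact h X hX g hg

theorem Std.flip_mulVec (a : Fin k) (v : Fin k → F) (b : Fin k) :
    ((P.flip a : GL (Fin k) F).val *ᵥ v) b = (if b = a then -1 else 1) * v b :=
  Matrix.mulVec_diagonal _ _ _

theorem Std.flip_mem_O {a : Fin k} (ha0 : a ≠ P.i0) (ha1 : a ≠ P.i1) : P.flip a ∈ O P.S := by
  rw [mem_O_iff]
  show adj P.S (Matrix.diagonal fun b => if b = a then (-1 : F) else 1) *
    (Matrix.diagonal fun b => if b = a then (-1 : F) else 1) = 1
  have e : adj P.S (Matrix.diagonal fun b => if b = a then (-1 : F) else 1) =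
      Matrix.diagonal fun b => if b = a then (-1 : F) else 1 := by
    ext x y
    simp only [adj, Matrix.of_apply, Matrix.diagonal_apply]
    by_cases hxy : x = y
    · subst hxy
      rw [if_pos rfl, if_pos rfl, div_self (P.S.w_ne x), one_mul]
      have hJ : P.S.J x = a ↔ x = a :=
        ⟨fun e => by rw [← P.S.inv x, e, Std.J_mid ha0 ha1], fun e => by rw [e, Std.J_mid ha0 ha1]⟩
      simp [hJ]
    · rw [if_neg (fun e => hxy (P.S.J.injective e).symm), if_neg hxy, mul_zero]
  rw [e]
  exact (P.flip a).val_inv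

variable [Fintype F]

theorem alt_zero_right (x : Fin k → F) : alt P.S x 0 = 0 := by rw [alt, rk_zero_right, rk_zero_left, sub_zero]

theorem cop_flip_Q {a : Fin k} (ha0 : a ≠ P.i0) (ha1 : a ≠ P.i1) (γ : Fin k → F) :
    cop (P.flip a) (alt P.S P.eo γ) = alt P.S P.eo ((P.flip a : GL (Fin k) F).val *ᵥ γ) := by
  have e : (P.flip a : GL (Fin k) F).val *ᵥ P.eo = P.eo := by
    funext b
    rw [Std.flip_mulVec]
    by_cases hb : b = a
    · subst hb; simp [Std.eo, ha0]
    · simp [hb]
  exact (WreathO.conj_alt P.S (Std.flip_mem_O ha0 ha1) P.eo γ).trans (by rw [e])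

theorem entry_E_apply : P.E P.i0 P.i1 = 1 := by rw [E_apply, if_pos ⟨rfl, rfl⟩]

theorem entry_Q_apply {a : Fin k} (a0 : a ≠ P.i0) (a1 : a ≠ P.i1) :
    alt P.S P.eo (Pi.single a 1) P.i0 a = P.w a := by
  have h := congrFun (alt_mulVec P.S P.eo (Pi.single a 1) (Pi.single a 1)) P.i0
  rw [Matrix.mulVec_single_one] at h
  refine (show alt P.S P.eo (Pi.single a 1) P.i0 a = _ from h).trans ?_
  rw [Std.sf_single_mid a0 a1, (Std.isMid_single a0 a1).eo]
  simp [Std.eo]

/-- The entry chosen for a type. -/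
theorem exists_entry_ne (m : Fin k) (hm0 : m ≠ P.i0) (hm1 : m ≠ P.i1) {T : Ty} (hT : T ≠ Ty.one) :
    ∃ p q, P.entry m T p q ≠ 0 := by
  rcases T with _ | _ | _
  · exact absurd rfl hT
  · exact ⟨P.i0, P.i1, by show P.E P.i0 P.i1 ≠ 0; rw [entry_E_apply]; exact one_ne_zero⟩
  · exact ⟨P.i0, m, by show alt P.S P.eo _ P.i0 m ≠ 0; rw [entry_Q_apply hm0 hm1]; exact P.w_ne m⟩

/-- One slot of a member is made pure. -/
theorem slot_step (hP : P.Good) {ε : κ → F} (hε : k = 4 → ∀ c, ε c = 1 ∨ ε c = -1)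
    {R : AddSubgroup (κ → Matrix (Fin t → Fin k) (Fin t → Fin k) F)} {l : Fin t}
    (hconj : ∀ X ∈ R, ∀ g ∈ Om P.S, (fun c => conjHom (slotU l g) (X c)) ∈ R)
    (hflip : k = 4 → (∀ X ∈ R, (fun c => ε c • conjHom (slotU l (P.flip P.i2)) (X c)) ∈ R) ∨
      ∀ X ∈ R, ∀ c x y, adj P.S (sblk l (X c) x y) = sblk l (X c) x y)
    {X : κ → Matrix (Fin t → Fin k) (Fin t → Fin k) F} (hX : X ∈ R) (hns : ∃ c, ¬ SComm l (X c)) :
    ∃ (C : κ → Matrix (Fin t → Fin k) (Fin t → Fin k) F) (m : κ → Fin k) (T : Ty), T ≠ Ty.one ∧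
      (∀ c, m c ≠ P.i0 ∧ m c ≠ P.i1) ∧ (k = 4 → T = Ty.Q → ∀ c c', ε c = ε c' ↔ m c = m c') ∧
      (k ≠ 4 → ∀ c c', m c = m c') ∧ (fun c => slot l (P.entry (m c) T) * C c) ∈ R ∧ (∀ c, SComm l (C c)) ∧
      (∀ j, j ≠ l → (∀ c, SComm j (X c)) → ∀ c, SComm j (C c)) ∧ ∃ c, C c ≠ 0 := by
  classical
  have two := hP.two
  obtain ⟨i2a, i2b⟩ := P.i2_ne
  have hA := hasOm_stabOps (P := P) hconj
  -- it suffices to find a member with pure blocks
  suffices H : ∃ (Y : κ → Matrix (Fin t → Fin k) (Fin t → Fin k) F) (m : κ → Fin k) (T : Ty), T ≠ Ty.one ∧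
      (∀ c, m c ≠ P.i0 ∧ m c ≠ P.i1) ∧ (k = 4 → T = Ty.Q → ∀ c c', ε c = ε c' ↔ m c = m c') ∧
      (k ≠ 4 → ∀ c c', m c = m c') ∧ Y ∈ R ∧ (∀ j, j ≠ l → (∀ c, SComm j (X c)) → ∀ c, SComm j (Y c)) ∧
      (∀ c x y, ∃ β : F, sblk l (Y c) x y = β • P.entry (m c) T) ∧ ∃ c, Y c ≠ 0 by
    obtain ⟨Y, m, T, hT, hm, hrule, hconst, hY, hpres, hblk, c₀, hc₀⟩ := H
    choose p q hpq using fun c => exists_entry_ne (P := P) (m c) (hm c).1 (hm c).2 hT
    let C : κ → Matrix (Fin t → Fin k) (Fin t → Fin k) F := fun c =>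
      (P.entry (m c) T (p c) (q c))⁻¹ • sctr l (p c) (q c) (Y c)
    have e : ∀ c, slot l (P.entry (m c) T) * C c = Y c := fun c => sblk_ext l fun x y => by
      obtain ⟨β, hβ⟩ := hblk c x y
      rw [sblk_slot_mul, sblk_smul, sblk_sctr, hβ, Matrix.smul_apply, smul_eq_mul, smul_smul, mul_smul_comm,
        mul_one, mul_left_comm, inv_mul_cancel₀ (hpq c), mul_one]
    refine ⟨C, m, T, hT, hm, hrule, hconst, ?_, fun c => (sctr_sComm l _ _ _).smul _,
      fun j hj hjX c => ((hpres j hj hjX c).sctr hj _ _).smul _, c₀, fun h0 => hc₀ ?_⟩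
    · simp only [e]; exact hY
    · rw [← e c₀, h0, mul_zero]
  obtain ⟨c₁, hc₁⟩ := hns
  have hne : ∃ i : κ × (Fin t → Fin k) × (Fin t → Fin k), ¬ Sc (sblk l (X i.1) i.2.1 i.2.2) := by
    by_contra hc
    push Not at hc
    exact hc₁ (sComm_of_sc fun x y => hc ⟨c₁, x, y⟩)
  obtain ⟨Ψ, hΨ, hV, ⟨c₂, x₂, y₂⟩, hns₂⟩ := descend hP hA
    (fun i : κ × (Fin t → Fin k) × (Fin t → Fin k) => sblk l (X i.1) i.2.1 i.2.2) hne
  choose a b γ hγ hab using fun c x y => hV ⟨c, x, y⟩
  set Y₀ : κ → Matrix (Fin t → Fin k) (Fin t → Fin k) F := fun c => slift l Ψ (X c) with hY₀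
  have hY₀R : Y₀ ∈ R := hΨ X hX
  have hblk₀ : ∀ c x y, sblk l (Y₀ c) x y = a c x y • 1 + b c x y • P.E + alt P.S P.eo (γ c x y) :=
    fun c x y => by rw [hY₀, sblk_slift]; exact hab c x y
  have hpres₀ : ∀ Φ : Module.End F (Matrix (Fin k) (Fin k) F), ∀ j, j ≠ l → (∀ c, SComm j (X c)) →
      ∀ c, SComm j (slift l Φ (Y₀ c)) := fun Φ j hj h c => ((h c).slift hj Ψ).slift hj Φ
  have hne_of : ∀ (Y : κ → Matrix (Fin t → Fin k) (Fin t → Fin k) F) c x y, sblk l (Y c) x y ≠ 0 → ∃ c, Y c ≠ 0 :=
    fun Y c x y h => ⟨c, fun h0 => h (by rw [h0]; rfl)⟩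
  by_cases hb : ∃ c x y, b c x y ≠ 0
  · -- the square of a root matrix
    obtain ⟨c₀, x₀, y₀, hb₀⟩ := hb
    obtain ⟨Φ, hΦ, ρ, hρ, hΦv⟩ := op_E_one hP hA
    have hblk : ∀ c x y, sblk l (slift l Φ (Y₀ c)) x y = (ρ * b c x y) • P.E := fun c x y => by
      rw [sblk_slift, hblk₀, hΦv _ _ _ (hγ c x y)]
    refine ⟨fun c => slift l Φ (Y₀ c), fun _ => P.i2, Ty.E, by decide, fun _ => ⟨i2a, i2b⟩, by simp,
      fun _ _ _ => rfl, hΦ _ hY₀R, hpres₀ Φ, fun c x y => ⟨_, hblk c x y⟩,
      hne_of (fun c => slift l Φ (Y₀ c)) c₀ x₀ y₀ ?_⟩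
    rw [hblk]
    intro h0
    have := congrFun (congrFun h0 P.i0) P.i1
    rw [Matrix.smul_apply, entry_E_apply, smul_eq_mul, mul_one] at this
    exact mul_ne_zero hρ hb₀ this
  push Not at hb
  have hblk₁ : ∀ c x y, sblk l (Y₀ c) x y = a c x y • 1 + alt P.S P.eo (γ c x y) := fun c x y => by
    rw [hblk₀, hb, zero_smul, add_zero]
  obtain ⟨d, d0, d1, hd⟩ : ∃ d, d ≠ P.i0 ∧ d ≠ P.i1 ∧ γ c₂ x₂ y₂ d ≠ 0 := by
    by_contra hc
    push Not at hc
    have hz : γ c₂ x₂ y₂ = 0 := by
      funext d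
      by_cases d0 : d = P.i0
      · subst d0; exact (hγ c₂ x₂ y₂).1
      by_cases d1 : d = P.i1
      · subst d1; exact (hγ c₂ x₂ y₂).2
      exact hc d d0 d1
    refine hns₂ ⟨a c₂ x₂ y₂, ?_⟩
    rw [hab c₂ x₂ y₂, hb, hz, alt_zero_right, zero_smul, add_zero, add_zero]
  have hQne : ∀ (β : F) (e : Fin k), e ≠ P.i0 → e ≠ P.i1 → β ≠ 0 → β • alt P.S P.eo (Pi.single e 1) ≠ 0 := by
    intro β e e0 e1 hβ h0
    have := congrFun (congrFun h0 P.i0) e
    rw [Matrix.smul_apply, entry_Q_apply e0 e1] at this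
    exact mul_ne_zero hβ (P.w_ne e) this
  by_cases hk : k = 4
  swap
  · -- a root matrix outside dimension four
    obtain ⟨Φ, hΦ, hΦv⟩ := op_coord hP hA hk d0 d1
    have hblk : ∀ c x y, sblk l (slift l Φ (Y₀ c)) x y = γ c x y d • alt P.S P.eo (Pi.single d 1) := fun c x y => by
      rw [sblk_slift, hblk₁, hΦv _ _ (hγ c x y)]
    refine ⟨fun c => slift l Φ (Y₀ c), fun _ => d, Ty.Q, by decide, fun _ => ⟨d0, d1⟩, fun h => absurd h hk,
      fun _ _ _ => rfl, hΦ _ hY₀R, hpres₀ Φ, fun c x y => ⟨_, hblk c x y⟩,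
      hne_of (fun c => slift l Φ (Y₀ c)) c₂ x₂ y₂ ?_⟩
    rw [hblk]
    exact hQne _ d d0 d1 hd
  -- dimension four
  obtain ⟨Φ, hΦ, hΦv⟩ := op_Q_line hP hA 1
  set Y₁ : κ → Matrix (Fin t → Fin k) (Fin t → Fin k) F := fun c => slift l Φ (Y₀ c) with hY₁
  have hY₁R : Y₁ ∈ R := hΦ _ hY₀R
  have hblk₂ : ∀ c x y, sblk l (Y₁ c) x y = alt P.S P.eo (γ c x y) := fun c x y => by
    rw [hY₁, sblk_slift, hblk₁, hΦv _ _ (hγ c x y), one_smul]
  rcases hflip hk with hfl | hsy
  swap
  · exfalso
    have h1 := hsy Y₁ hY₁R c₂ x₂ y₂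
    rw [hblk₂, adj_alt] at h1
    have h2 := congrFun (congrArg (fun M => M *ᵥ (Pi.single d 1 : Fin k → F)) h1) P.i0
    simp only [neg_mulVec, alt_mulVec, (Std.isMid_single (P := P) d0 d1).eo, zero_smul, sub_zero, Pi.neg_apply,
      Pi.smul_apply, smul_eq_mul] at h2
    rw [show P.eo P.i0 = 1 by simp [Std.eo], mul_one, sf_symm, Std.sf_single_mid_right _ d0 d1] at h2
    exact mul_ne_zero two (mul_ne_zero (P.w_ne d) hd) (by linear_combination -h2)
  obtain ⟨e, e0, e1, he⟩ : ∃ e : Fin k, e ≠ P.i0 ∧ e ≠ P.i1 ∧ e ≠ P.i2 := by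
    refine ⟨⟨3, by omega⟩, ?_, ?_, ?_⟩ <;> simp [Std.i0, Std.i1, Std.i2, Fin.ext_iff]
  have hdec : ∀ f : Fin k, f ≠ P.i0 → f ≠ P.i1 → f = P.i2 ∨ f = e := by
    intro f f0 f1
    simp [Std.i0, Std.i1, Std.i2, Fin.ext_iff] at f0 f1 e0 e1 he ⊢
    omega
  let W : F → κ → Matrix (Fin t → Fin k) (Fin t → Fin k) F := fun s c =>
    Y₁ c + s • (ε c • conjHom (slotU l (P.flip P.i2)) (Y₁ c))
  let mm : F → κ → Fin k := fun s c => if ε c = s then e else P.i2
  have hWblk : ∀ s c x y, s = 1 ∨ s = -1 →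
      sblk l (W s c) x y = (2 * γ c x y (mm s c)) • alt P.S P.eo (Pi.single (mm s c) 1) := by
    intro s c x y hs
    simp only [W]
    rw [sblk_add, sblk_smul, sblk_smul, sblk_conj, hblk₂, cop_flip_Q i2a i2b, smul_smul, ← alt_smul_right,
      ← alt_add_right, ← alt_smul_right]
    congr 1
    funext f
    have hflipv := Std.flip_mulVec (P := P) P.i2 (γ c x y) f
    simp only [Pi.add_apply, Pi.smul_apply, smul_eq_mul, hflipv]
    by_cases f0 : f = P.i0
    · subst f0
      have hne' : P.i0 ≠ mm s c := by simp only [mm]; split_ifs <;> [exact e0.symm; exact i2a.symm]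
      simp [(hγ c x y).1, Pi.single_eq_of_ne hne', i2a.symm]
    by_cases f1 : f = P.i1
    · subst f1
      have hne' : P.i1 ≠ mm s c := by simp only [mm]; split_ifs <;> [exact e1.symm; exact i2b.symm]
      simp [(hγ c x y).2, Pi.single_eq_of_ne hne', i2b.symm]
    rcases hdec f f0 f1 with rfl | rfl <;> rcases hs with rfl | rfl <;> rcases hε hk c with hc | hc <;>
      simp [mm, hc, he, Ne.symm he, two, (show (-1 : F) ≠ 1 from fun h => two (by linear_combination -h)),
        (show (1 : F) ≠ -1 from fun h => two (by linear_combination h))] <;> ring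
  obtain ⟨s, hs, hsd⟩ : ∃ s : F, (s = 1 ∨ s = -1) ∧ mm s c₂ = d := by
    rcases hdec d d0 d1 with rfl | rfl
    · refine ⟨-ε c₂, ?_, ?_⟩
      · rcases hε hk c₂ with h | h <;> simp [h]
      · simp only [mm]
        rw [if_neg]
        rcases hε hk c₂ with h | h <;> rw [h] <;> intro h'
        · exact two (by linear_combination h')
        · exact two (by linear_combination -h')
    · exact ⟨ε c₂, hε hk c₂, by simp [mm]⟩
  refine ⟨W s, mm s, Ty.Q, by decide, fun c => ?_, fun _ _ c c' => ?_, fun h => absurd hk h, ?_, ?_,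
    fun c x y => ⟨_, hWblk s c x y hs⟩, hne_of (W s) c₂ x₂ y₂ ?_⟩
  · simp only [mm]; split_ifs
    · exact ⟨e0, e1⟩
    · exact ⟨i2a, i2b⟩
  · simp only [mm]
    rcases hs with rfl | rfl <;> rcases hε hk c with hc | hc <;> rcases hε hk c' with hc' | hc' <;>
      simp [hc, hc', he, Ne.symm he, (show (-1 : F) ≠ 1 from fun h => two (by linear_combination -h)),
        (show (1 : F) ≠ -1 from fun h => two (by linear_combination h))]
  · rcases hs with rfl | rfl
    · convert R.add_mem hY₁R (hfl Y₁ hY₁R) using 1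
      funext c; simp [W]
    · convert R.sub_mem hY₁R (hfl Y₁ hY₁R) using 1
      funext c; simp [W, sub_eq_add_neg]
  · exact fun j hj h c => (hpres₀ Φ j hj h c).add
      ((((hpres₀ Φ j hj h c).conj hj _).smul _).smul _)
  · rw [hWblk s c₂ x₂ y₂ hs, hsd]
    exact hQne _ d d0 d1 (mul_ne_zero two hd)

/-- A member commuting with the chosen slots, behind a pure tensor. -/
theorem exists_pure_one (hP : P.Good) {R : AddSubgroup (κ → Matrix (Fin t → Fin k) (Fin t → Fin k) F)}
    {ε : Fin k → κ → F} (hR : SlotStable P R ε) (hε : k = 4 → ∀ a c, ε a c = 1 ∨ ε a c = -1)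
    (hsym : k = 4 → t = 1 → ∀ X ∈ R, ∀ c, adj (powS P.S t) (X c) = X c)
    {X : κ → Matrix (Fin t → Fin k) (Fin t → Fin k) F} (hX : X ∈ R) (hns : ∃ c, ∀ r : F, X c ≠ r • 1) :
    ∃ (α : κ → F) (m : κ → Fin t → Fin k) (T : Fin t → Ty), (∃ c, α c ≠ 0) ∧ (∃ l, T l ≠ Ty.one) ∧
      (∀ c l, m c l ≠ P.i0 ∧ m c l ≠ P.i1) ∧
      (k = 4 → ∀ l, T l = Ty.Q → ∀ c c', ε P.i2 c = ε P.i2 c' ↔ m c l = m c' l) ∧
      (k ≠ 4 → ∀ c c' l, m c l = m c' l) ∧
      (fun c => α c • tens (fun l => P.entry (m c l) (T l))) ∈ R := by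
  classical
  obtain ⟨c₀, hc₀⟩ := hns
  let G : (κ → Fin t → Fin k) → (Fin t → Ty) → κ → Matrix (Fin t → Fin k) (Fin t → Fin k) F :=
    fun m T c => tens fun l => P.entry (m c l) (T l)
  have key : ∀ S : Finset (Fin t), ∃ (m : κ → Fin t → Fin k) (T : Fin t → Ty)
      (Z : κ → Matrix (Fin t → Fin k) (Fin t → Fin k) F), (∀ l, l ∉ S → T l = Ty.one) ∧
      (∀ c l, m c l ≠ P.i0 ∧ m c l ≠ P.i1) ∧
      (k = 4 → ∀ l, T l = Ty.Q → ∀ c c', ε P.i2 c = ε P.i2 c' ↔ m c l = m c' l) ∧
      (k ≠ 4 → ∀ c c' l, m c l = m c' l) ∧ ((∀ l, T l = Ty.one) → Z = X) ∧ (∃ c, Z c ≠ 0) ∧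
      (∀ j ∈ S, ∀ c, SComm j (Z c)) ∧ (fun c => G m T c * Z c) ∈ R := by
    intro S
    induction S using Finset.induction with
    | empty =>
      refine ⟨fun _ _ => P.i2, fun _ => Ty.one, X, fun _ _ => rfl, fun _ _ => P.i2_ne, by simp,
        fun _ _ _ _ => rfl, fun _ => rfl, ⟨c₀, fun h => hc₀ 0 (by rw [h, zero_smul])⟩, by simp, ?_⟩
      have e : ∀ c, G (fun _ _ => P.i2) (fun _ => Ty.one) c = (1 : Matrix (Fin t → Fin k) (Fin t → Fin k) F) :=
        fun _ => tens_one
      simp only [e, one_mul]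
      exact hX
    | insert l S hlS ih =>
      obtain ⟨m, T, Z, hTS, hm, hrule, hconst, hT0, hZ0, hcomm, hin⟩ := ih
      by_cases hl : ∀ c, SComm l (Z c)
      · refine ⟨m, T, Z, fun j hj => hTS j fun h => hj (Finset.mem_insert_of_mem h), hm, hrule, hconst, hT0, hZ0,
          fun j hj => ?_, hin⟩
        rcases Finset.mem_insert.mp hj with rfl | hj
        · exact hl
        · exact hcomm j hj
      push Not at hl
      have hTl : T l = Ty.one := hTS l hlS
      have hGl : ∀ c, SComm l (G m T c) := fun c A => by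
        show _ * _ = _ * _
        rw [slot_mul_tens, tens_mul_slot, hTl]
        simp [Std.entry]
      let R' : AddSubgroup (κ → Matrix (Fin t → Fin k) (Fin t → Fin k) F) :=
        { carrier := {Y | (fun c => G m T c * Y c) ∈ R}
          zero_mem' := by
            show (fun c => G m T c * (0 : κ → Matrix _ _ F) c) ∈ R
            simp only [Pi.zero_apply, mul_zero]; exact R.zero_mem
          add_mem' := fun {Y Y'} hY hY' => by
            show (fun c => G m T c * (Y + Y') c) ∈ R
            simp only [Pi.add_apply, mul_add]; exact R.add_mem hY hY'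
          neg_mem' := fun {Y} hY => by
            show (fun c => G m T c * (-Y) c) ∈ R
            simp only [Pi.neg_apply, mul_neg]; exact R.neg_mem hY }
      have hconjG : ∀ (g : GL (Fin k) F) c, conjHom (slotU l g) (G m T c) = G m T c := fun g c => by
        rw [conjHom_apply, slotU_coe, (hGl c _).eq, mul_assoc, ← slotU_coe, Units.mul_inv, mul_one]
      have hconj : ∀ Y ∈ R', ∀ g ∈ Om P.S, (fun c => conjHom (slotU l g) (Y c)) ∈ R' := by
        intro Y hY g hg
        show (fun c => G m T c * conjHom (slotU l g) (Y c)) ∈ R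
        have h := hR.conj _ hY l g hg
        simpa only [map_mul, hconjG] using h
      have hflip : k = 4 → (∀ Y ∈ R', (fun c => ε P.i2 c • conjHom (slotU l (P.flip P.i2)) (Y c)) ∈ R') ∨
          ∀ Y ∈ R', ∀ c x y, adj P.S (sblk l (Y c) x y) = sblk l (Y c) x y := by
        intro hk
        by_cases ht : 2 ≤ t
        · refine Or.inl fun Y hY => ?_
          show (fun c => G m T c * (ε P.i2 c • conjHom (slotU l (P.flip P.i2)) (Y c))) ∈ R
          have h := hR.refl hk ht _ hY l P.i2 P.i2_ne.1 P.i2_ne.2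
          simpa only [map_mul, hconjG, mul_smul_comm] using h
        · refine Or.inr fun Y hY c x y => ?_
          have ht1 : t = 1 := by have := l.isLt; omega
          have : Subsingleton (Fin t) := by subst ht1; infer_instance
          have hG1 : ∀ c, G m T c = 1 := fun c => by
            rw [← tens_one]
            show tens _ = tens _
            congr 1
            funext j
            rw [Subsingleton.elim j l, hTl]
            rfl
          have hY' : Y ∈ R := by
            have : (fun c => G m T c * Y c) = Y := funext fun c => by rw [hG1, one_mul]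
            exact this ▸ hY
          have hu : ∀ (x : Fin t → Fin k) a, Function.update x l a = fun _ => a := fun x a =>
            funext fun j => by rw [Subsingleton.elim j l, Function.update_self]
          have hYs : Y c = slot l (sblk l (Y c) x y) := sblk_ext l fun u v => by
            rw [← mul_one (slot l (sblk l (Y c) x y)), sblk_slot_mul]
            have e1 : sblk l (1 : Matrix (Fin t → Fin k) (Fin t → Fin k) F) u v = 1 := by
              ext i j
              rw [sblk_apply, hu, hu, Matrix.one_apply, Matrix.one_apply]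
              exact if_congr ⟨fun h => congrFun h l, fun h => funext fun _ => h⟩ rfl rfl
            rw [e1, mul_one]
            ext i j
            rw [sblk_apply, sblk_apply, hu, hu, hu, hu]
          have h1 := hsym hk ht1 Y hY' c
          rw [hYs, adj_slot] at h1
          exact slot_injective (by omega) l h1
      obtain ⟨C, m', T', hT', hm', hrule', hconst', hin', hCl, hCj, hC0⟩ :=
        slot_step hP (ε := ε P.i2) (fun hk c => hε hk _ c) hconj hflip (X := Z) hin hl
      refine ⟨fun c => Function.update (m c) l (m' c), Function.update T l T', C, fun j hj => ?_, fun c j => ?_,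
        fun hk j hj c c' => ?_, fun hk c c' j => ?_, fun h => ?_, hC0, fun j hj => ?_, ?_⟩
      · rw [Function.update_of_ne (fun (h : j = l) => hj (h ▸ Finset.mem_insert_self _ _))]
        exact hTS j fun h => hj (Finset.mem_insert_of_mem h)
      · rcases eq_or_ne j l with rfl | hjl
        · simp only [Function.update_self]; exact hm' c
        · simp only [Function.update_of_ne hjl]; exact hm c j
      · rcases eq_or_ne j l with rfl | hjl
        · rw [Function.update_self] at hj
          simp only [Function.update_self]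
          exact hrule' hk hj c c'
        · rw [Function.update_of_ne hjl] at hj
          simp only [Function.update_of_ne hjl]
          exact hrule hk j hj c c'
      · rcases eq_or_ne j l with rfl | hjl
        · simp only [Function.update_self]; exact hconst' hk c c'
        · simp only [Function.update_of_ne hjl]; exact hconst hk c c' j
      · exact absurd (by simpa using h l) hT'
      · rcases Finset.mem_insert.mp hj with rfl | hj
        · exact hCl
        · exact hCj j (fun h => hlS (h ▸ hj)) (hcomm j hj)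
      · have e : ∀ c, G (fun c => Function.update (m c) l (m' c)) (Function.update T l T') c * C c =
            G m T c * (slot l (P.entry (m' c) T') * C c) := by
          intro c
          rw [← mul_assoc, tens_mul_slot, hTl]
          show tens _ * _ = tens _ * _
          congr 2
          funext j
          rcases eq_or_ne j l with rfl | hjl
          · simp [Std.entry]
          · simp [hjl]
        simp only [e]
        exact hin'
  obtain ⟨m, T, Z, -, hm, hrule, hconst, hT0, hZ0, hcomm, hin⟩ := key Finset.univ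
  choose α hα using fun c => slot_centraliser (T := Z c) fun i M => ((hcomm i (Finset.mem_univ i) c) M).symm
  obtain ⟨c₁, hc₁⟩ := hZ0
  refine ⟨α, m, T, ⟨c₁, fun h => hc₁ (by rw [hα, h, zero_smul])⟩, ?_, hm, hrule, hconst, ?_⟩
  · by_contra hall
    push Not at hall
    exact hc₀ (α c₀) (by rw [← hT0 hall]; exact hα c₀)
  · have e : ∀ c, G m T c * Z c = α c • tens (fun l => P.entry (m c l) (T l)) := fun c => by
      rw [hα c, mul_smul_comm, mul_one]
    simpa only [e] using hin

theorem tens_entry_ne_zero {m : Fin t → Fin k} {T : Fin t → Ty} (h : ∀ l, T l ≠ Ty.Q) :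
    tens (fun l => P.entry (m l) (T l)) ≠ 0 := by
  classical
  intro h0
  have h1 := congrFun (congrFun h0 (fun _ => P.i0)) (fun l => if T l = Ty.E then P.i1 else P.i0)
  rw [tens_apply, Matrix.zero_apply, Finset.prod_eq_zero_iff] at h1
  obtain ⟨l, -, hl⟩ := h1
  rcases hT : T l with _ | _ | _
  · rw [if_neg (show T l ≠ Ty.E by simp [hT])] at hl
    simp [hT, Std.entry] at hl
  · simp [hT, Std.entry, entry_E_apply] at hl
  · exact h l hT

/-- A stable family with a member that is not scalar contains a pure member with every coefficient. -/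
theorem exists_pure (hP : P.Good) {R : AddSubgroup (κ → Matrix (Fin t → Fin k) (Fin t → Fin k) F)}
    {ε : Fin k → κ → F} (hR : SlotStable P R ε) (hε : k = 4 → ∀ a c, ε a c = 1 ∨ ε a c = -1)
    (hsym : k = 4 → t = 1 → ∀ X ∈ R, ∀ c, adj (powS P.S t) (X c) = X c)
    {X : κ → Matrix (Fin t → Fin k) (Fin t → Fin k) F} (hX : X ∈ R) (hns : ∃ c, ∀ r : F, X c ≠ r • 1)
    (hnine : Nat.card F = 9 → k = 3 → ∀ X ∈ R, ∀ c, adj (powS P.S t) (X c) = -X c) :
    ∃ (α : κ → F) (m : κ → Fin t → Fin k) (T : Fin t → Ty), (∃ c, α c ≠ 0) ∧ (∃ l, T l ≠ Ty.one) ∧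
      (∀ c l, m c l ≠ P.i0 ∧ m c l ≠ P.i1) ∧
      (k = 4 → ∀ l, T l = Ty.Q → ∀ c c', ε P.i2 c = ε P.i2 c' ↔ m c l = m c' l) ∧
      (k ≠ 4 → ∀ c c' l, m c l = m c' l) ∧
      ∀ r : F, (fun c => (r * α c) • tens (fun l => P.entry (m c l) (T l))) ∈ R := by
  classical
  obtain ⟨α, m, T, hα, hT, hm, hrule, hconst, hin⟩ := exists_pure_one hP hR hε hsym hX hns
  refine ⟨α, m, T, hα, hT, hm, hrule, hconst, fun r => ?_⟩
  obtain ⟨l, hl, Ψ, hΨ, hΨv⟩ : ∃ l, T l ≠ Ty.one ∧
      ∃ Ψ ∈ stabOps l R, ∀ c, Ψ (P.entry (m c l) (T l)) = r • P.entry (m c l) (T l) := by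
    by_cases hQ : ∃ l, T l = Ty.Q
    · obtain ⟨l, hl⟩ := hQ
      obtain ⟨Ψ, hΨ, h⟩ := op_Q_line hP (hasOm_stabOps (l := l) fun X hX g hg => hR.conj X hX l g hg) r
      refine ⟨l, by simp [hl], Ψ, hΨ, fun c => ?_⟩
      have := h 0 _ (Std.isMid_single (hm c l).1 (hm c l).2)
      rw [zero_smul, zero_add] at this
      rw [hl]
      exact this
    push Not at hQ
    obtain ⟨l, hl⟩ := hT
    have hE : T l = Ty.E := by
      rcases h : T l with _ | _ | _
      · exact absurd h hl
      · rfl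
      · exact absurd h (hQ l)
    have h9 : ¬ (Nat.card F = 9 ∧ k = 3) := by
      rintro ⟨h9, h3⟩
      obtain ⟨c, hc⟩ := hα
      have h1 := hnine h9 h3 _ hin c
      have e : adj (powS P.S t) (tens fun l => P.entry (m c l) (T l)) = tens fun l => P.entry (m c l) (T l) := by
        rw [adj_tens]
        congr 1
        funext j
        rcases h : T j with _ | _ | _
        · exact adj_one P.S
        · exact adj_E
        · exact absurd h (hQ j)
      rw [adj_smul, e, eq_neg_iff_add_eq_zero, ← add_smul, ← two_mul] at h1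
      exact (smul_eq_zero.mp h1).elim (mul_ne_zero hP.two hc) (tens_entry_ne_zero hQ)
    obtain ⟨Ψ, hΨ, h⟩ := op_E_line hP (hasOm_stabOps (l := l) fun X hX g hg => hR.conj X hX l g hg) h9 r
    refine ⟨l, hl, Ψ, hΨ, fun c => ?_⟩
    rw [hE]
    exact h
  convert hΨ _ hin using 1
  funext c
  set e := fun j => P.entry (m c j) (T j) with he
  have hsplit : tens e = slot l (e l) * tens (Function.update e l 1) := by
    rw [slot_mul_tens, Function.update_self, mul_one, Function.update_idem, Function.update_eq_self]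
  have hC : SComm l (α c • tens (Function.update e l 1)) := SComm.smul _ fun A => by
    show _ * _ = _ * _
    rw [slot_mul_tens, tens_mul_slot, Function.update_self, one_mul, mul_one]
  rw [show α c • tens e = slot l (e l) * (α c • tens (Function.update e l 1)) by rw [hsplit, mul_smul_comm],
    slift_slot_mul hC, show Ψ (e l) = r • e l from hΨv c, slot_smul', smul_mul_assoc, mul_smul_comm, smul_smul,
    ← hsplit]

end Cfsg.Agent.WreathO
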