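import Cfsg.Agent.WreathO.PureContra
import Cfsg.Agent.WreathO.Pure

/-!
The rows of a radical element are scalar when the centre of the radical is trivial (helper48).
-/

set_option autoImplicit false
set_option linter.unusedSectionVars false

namespace Cfsg.Agent.WreathO

open Matrix Cfsg.Agent.MaxSub Cfsg.Agent.MaxSub.Asch Cfsg.Agent.FG75.SpinTensor Cfsg.Agent.WreathMax

variable {F : Type*} [Field F] [Fintype F] {k t : ℕ} {P : Std k F}
variable {H : Subgroup (GL (Fin (t + 1) → Fin k) F)}

/-- With a trivial centre every row of a radical element is scalar. -/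
theorem radical_scalar (hP : P.Good) (_ht : 1 ≤ t) (hH : H ≤ Om (powS P.S (t + 1))) (hM : ContainsW P.S H)
    (hns : ∀ Z, InC P H Z → Z = 0) {h : GL (Fin (t + 1) → Fin k) F} (hh : h ∈ H)
    {N : Matrix (Fin (t + 1) → Fin k) (Fin (t + 1) → Fin k) F} (e : h.val = 1 + N) (hN : Upper P N)
    {c : Fin k} (hc : c ∈ P.mids) : ∃ r : F, zblk N P.i0 c = r • 1 :=
  radical_scalar_of_pure hP hH hM hns
    (fun _ hX hne => exists_pure_one hP (rowTuples_stable hP.two hM)
      (fun _ a c => by rw [flipSign]; split_ifs <;> simp)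
      (fun _ _ X hX c => rowTuples_sym hP.two hH hM hns hX c) hX hne)
    hh e hN hc

end Cfsg.Agent.WreathO
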