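import Cfsg.Agent.WreathO.All
import Cfsg.Agent.WreathO.RadicalScalar
import Cfsg.Agent.WreathO.LineStab
import Cfsg.Agent.WreathO.LineSmall
import Cfsg.Agent.WreathO.Fusion
import Cfsg.Agent.WreathO.Gen
import Cfsg.Agent.WreathO.Averaging
import Cfsg.Agent.WreathMax.NoFusion

/-!
Overgroups of the orthogonal tensor wreath stabiliser contain the commutator subgroup (helper1).
-/

set_option autoImplicit false
set_option linter.unusedSectionVars false

namespace Cfsg.Agent.WreathO

open Matrix Cfsg.Agent.MaxSub Cfsg.Agent.MaxSub.Asch Cfsg.Agent.FG75.SpinTensor Cfsg.Agent.WreathMax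

variable {F : Type*} [Field F] [Fintype F] {k t : ℕ} {P : Std k F}

/-- Moving a slot past an element of the stabiliser. -/
theorem wreath_slot_mul (gs : Fin t → GL (Fin k) F) (σ : Equiv.Perm (Fin t)) (i : Fin t)
    (A : Matrix (Fin k) (Fin k) F) :
    (tensGL gs * factorPerm σ : GL (Fin t → Fin k) F).val * slot i A =
      slot (σ i) ((gs (σ i)).val * A * ((gs (σ i))⁻¹).val) * (tensGL gs * factorPerm σ : GL (Fin t → Fin k) F).val := by
  rw [Units.val_mul, mul_assoc, factorPerm_mul_slot, ← mul_assoc, ← mul_assoc]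
  congr 1
  show tens (fun l => (gs l).val) * slot (σ i) A = slot (σ i) _ * tens (fun l => (gs l).val)
  rw [slot_mul_tens, tens_mul_slot]
  congr 1
  funext l
  rcases eq_or_ne l (σ i) with rfl | hl
  · simp
  · simp [Function.update_of_ne hl]

theorem exists_map_eo (hP : P.Good) {x : Fin k → F} (hx : sf P.S x x = 0) (hx0 : x ≠ 0) :
    ∃ g ∈ O P.S, g.val *ᵥ P.eo = x := by
  have two := hP.two
  have key : ∀ u v : Fin k → F, sf P.S u u = 0 → sf P.S v v = 0 → sf P.S u v ≠ 0 →
      ∃ g ∈ O P.S, g.val *ᵥ u = v := by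
    intro u v hu hv huv
    have hn : sf P.S (u - v) (u - v) = -(2 * sf P.S u v) := by
      simp only [sf_sub_left, sf_sub_right, hu, hv, sf_symm P.S v u]; ring
    have hn0 : sf P.S (u - v) (u - v) ≠ 0 := by rw [hn]; exact neg_ne_zero.mpr (mul_ne_zero two huv)
    refine ⟨_, refl_mem_O hn0, ?_⟩
    rw [refl_mulVec hn0, show 2 * sf P.S u (u - v) = sf P.S (u - v) (u - v) by rw [hn, sf_sub_right, hu]; ring,
      div_self hn0, one_smul, sub_sub_cancel]
  by_cases hox : sf P.S P.eo x = 0
  swap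
  · exact key P.eo x P.eo_iso hx hox
  obtain ⟨z, hz, hoz, hzx⟩ : ∃ z, sf P.S z z = 0 ∧ sf P.S P.eo z ≠ 0 ∧ sf P.S z x ≠ 0 := by
    by_cases hwx : sf P.S P.ew x = 0
    · obtain ⟨y, hy⟩ := exists_pair P.S hx0
      obtain ⟨m, hm, hdec⟩ := Std.decomp (P := P) y
      have hxm : sf P.S m x = 1 := by
        rw [sf_symm, hdec] at hy
        simp only [sf_add_left, sf_smul_left, hox, hwx, mul_zero, add_zero, zero_add] at hy
        exact hy
      refine ⟨P.ew + m + (-sf P.S m m / 2) • P.eo, ?_, ?_, ?_⟩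
      · simp only [sf_add_left, sf_add_right, sf_smul_left, sf_smul_right, P.eo_iso, P.ew_iso, P.eo_ew, P.ew_eo,
          hm.eo, hm.eo', hm.ew, hm.ew']
        field_simp
        ring
      · simp [sf_add_right, sf_smul_right, P.eo_ew, hm.eo', P.eo_iso]
      · simp [sf_add_left, sf_smul_left, hwx, hxm, hox]
    · exact ⟨P.ew, P.ew_iso, by rw [P.eo_ew]; exact one_ne_zero, hwx⟩
  obtain ⟨g, hg, eg⟩ := key P.eo z P.eo_iso hz hoz
  obtain ⟨g', hg', eg'⟩ := key z x hz hx hzx
  exact ⟨g' * g, mul_mem hg' hg, by rw [Units.val_mul, ← mulVec_mulVec, eg, eg']⟩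


/-- A slot isometry followed by the exchange with the first slot carries the first line to a given one. -/
theorem exists_frame (hP : P.Good) (i : Fin (t + 1)) {x : Fin k → F} (hx : sf P.S x x = 0) (hx0 : x ≠ 0) :
    ∃ p : GL (Fin (t + 1) → Fin k) F, p ∈ Geo.tensorWreathStandard k (t + 1) F ∧ p ∈ O (powS P.S (t + 1)) ∧
      p.val * kz P.E 1 = slot i (rk P.S x x) * p.val := by
  classical
  obtain ⟨g, hg, hgx⟩ := exists_map_eo hP hx hx0
  set gs := Function.update (1 : Fin (t + 1) → GL (Fin k) F) i g with hgs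
  refine ⟨tensGL gs * factorPerm (Equiv.swap 0 i), mul_mem (tensGL_mem _) (factorPerm_mem _),
    mul_mem (tensGL_mem_O P.S fun l => ?_) (factorPerm_mem_O P.S _), ?_⟩
  · by_cases hl : l = i
    · rw [hgs, hl, Function.update_self]; exact hg
    · rw [hgs, Function.update_of_ne hl]; exact one_mem _
  rw [← slot_zero_eq_kz, wreath_slot_mul, Equiv.swap_apply_left, hgs, Function.update_self, Std.E, conj_rk P.S hg, hgx]

/-- A similitude outside the stabiliser carries an element of it outside. -/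
theorem exists_out (hP : P.Good) (ht : 1 ≤ t) (A : GL (Fin t → Fin k) F) (hA : IsSim (powS P.S t) A)
    (hAW : A ∉ Geo.tensorWreathStandard k t F) :
    ∃ v ∈ Geo.tensorWreathStandard k t F, v ∈ Om (powS P.S t) ∧ A * v * A⁻¹ ∉ Geo.tensorWreathStandard k t F := by
  by_contra hc
  push Not at hc
  refine hAW (mem_wreath_of_alt hP ht hA fun l M hM => ?_)
  let R : Submodule F (Matrix (Fin k) (Fin k) F) :=
    { carrier := {M | ∃ B : Fin t → Matrix (Fin k) (Fin k) F, A.val * slot l M * (A⁻¹).val = ∑ j, slot j (B j)}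
      zero_mem' := ⟨0, by simp [slot_zero']⟩
      add_mem' := fun {M M'} ⟨B, hB⟩ ⟨B', hB'⟩ =>
        ⟨B + B', by rw [slot_add', mul_add, add_mul, hB, hB', ← Finset.sum_add_distrib]; simp [slot_add']⟩
      smul_mem' := fun c M ⟨B, hB⟩ =>
        ⟨c • B, by rw [slot_smul', mul_smul_comm, smul_mul_assoc, hB, Finset.smul_sum]; simp [slot_smul']⟩ }
  refine P.root_span hP.two R (fun x d hr => ?_) hM
  obtain ⟨j, y, e, -, he⟩ := root_image hP ht hA hr fun c hc0 =>
    have hr' : IsRoot P.S x (c • d) :=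
      ⟨hr.iso, by rw [sf_smul_right, hr.orth, mul_zero], by
        rw [sf_smul_left, sf_smul_right]; exact mul_ne_zero hc0 (mul_ne_zero hc0 hr.aniso), hr.ne0⟩
    hc _ (slotU_mem _ _) (sRoot_mem_Om P.S hP.two l hr')
  refine ⟨fun i => if i = j then alt P.S y e else 0, ?_⟩
  rw [he, Finset.sum_eq_single j]
  · simp
  · exact fun i _ hi => by simp [hi, slot_zero']
  · simp

/-- An element of the other slots outside the stabiliser gives a centre element. -/
theorem inC_of_rest (hP : P.Good) (ht : 2 ≤ t) {H : Subgroup (GL (Fin (t + 1) → Fin k) F)} (hM : ContainsW P.S H)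
    (hrest : ∀ v ∈ Om (powS P.S t), kzU (1 : GL (Fin k) F) v ∈ H) : ∃ Z, InC P H Z ∧ Z ≠ 0 := by
  classical
  have two := hP.two
  let a : Fin t := ⟨0, by omega⟩
  let b : Fin t := ⟨1, by omega⟩
  have hab : a ≠ b := by simp [a, b, Fin.ext_iff]
  obtain ⟨c0, c1⟩ := P.i2_ne
  set Q := alt P.S P.eo (Pi.single P.i2 1) with hQ
  set N := slot a P.E * slot b Q with hN
  have hN2 : N * N = 0 := by
    rw [hN, mul_assoc, ← mul_assoc (slot b Q), slot_comm hab.symm, mul_assoc, ← mul_assoc, ← slot_mul', E_sq,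
      slot_zero', zero_mul]
  have hNs : adj (powS P.S t) N = -N := by
    rw [hN, adj_mul, adj_slot, adj_slot, adj_E, adj_alt, slot_comm hab, ← neg_mul]
    congr 1
    rw [← neg_one_smul F Q, slot_smul', neg_one_smul]
  have hN3 : N * N * N = 0 := by rw [hN2, zero_mul]
  have hv := hrest _ (expU_mem_Om two hN3 hNs)
  have hvv : (kzU (1 : GL (Fin k) F) (expU two N)).val = 1 + slot a.succ P.E * slot b.succ Q := by
    rw [kzU_coe, expU_coe two hN3, hN2, smul_zero, add_zero, kz_add_right, Units.val_one, kz_one, slot_succ_eq_kz,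
      slot_succ_eq_kz, kz_mul, one_mul, hN]
  set σ₀ : Equiv.Perm (Fin (t + 1)) := Equiv.swap 0 a.succ * Equiv.swap a.succ b.succ with hσ₀
  set σ : Equiv.Perm (Fin (t + 1)) := σ₀ * σ₀ with hσ
  have hw : (factorPerm σ : GL (Fin (t + 1) → Fin k) F) ∈ H := by
    refine hM _ (factorPerm_mem _) ?_
    rw [hσ, ← factorPerm_mul]
    exact sq_mem_Om _ two (factorPerm_mem_O P.S _)
  have hne : (b.succ : Fin (t + 1)) ≠ a.succ := fun e => hab (Fin.succ_injective _ e).symm
  have hσa : σ a.succ = 0 := by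
    simp only [hσ, hσ₀, Equiv.Perm.mul_apply, Equiv.swap_apply_left]
    rw [Equiv.swap_apply_of_ne_of_ne (Fin.succ_ne_zero _) hne, Equiv.swap_apply_right, Equiv.swap_apply_right]
  have hσb : σ b.succ ≠ 0 := fun h => hne (σ.injective (h.trans hσa.symm))
  obtain ⟨j, hj⟩ := Fin.exists_succ_eq.mpr hσb
  refine ⟨slot j Q, ⟨_, mul_mem (mul_mem hw hv) (inv_mem hw), ?_⟩, fun h => ?_⟩
  · rw [Units.val_mul, Units.val_mul, hvv, conj_one_add]
    congr 1
    rw [← mul_assoc, factorPerm_mul_slot, mul_assoc (slot (σ a.succ) P.E), factorPerm_mul_slot, hσa, ← hj,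
      slot_succ_eq_kz, slot_zero_eq_kz, mul_assoc, mul_assoc, Units.mul_inv, mul_one, kz_mul, mul_one, one_mul]
  · have h' := slot_injective (show 0 < k by have := P.hk; omega) j (h.trans (slot_zero' j).symm)
    have h2 := congrArg (fun X => X * X) h'
    simp only [mul_zero] at h2
    rw [hQ, alt_sq P.S P.eo_iso (Std.isMid_single c0 c1).eo'] at h2
    rcases smul_eq_zero.mp h2 with h3 | h3
    · rw [neg_eq_zero, Std.sf_single_mid c0 c1] at h3
      exact P.w_ne _ h3
    · have h4 := congrFun (congrFun h3 P.i0) P.i1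
      rw [← Std.E, E_apply] at h4
      simp at h4

theorem core_aux (hP : P.Good) (t : ℕ) (ht : 1 ≤ t) (H : Subgroup (GL (Fin t → Fin k) F))
    (hH : H ≤ Om (powS P.S t)) (hM : ContainsW P.S H) (hne : ¬ H ≤ Geo.tensorWreathStandard k t F) :
    Om (powS P.S t) ≤ H := by
  induction t with
  | zero => omega
  | succ T ih =>
    classical
    have two := hP.two
    rcases Nat.eq_zero_or_pos T with rfl | hT
    · exact absurd (fun g _ => mem_wreath_one g) hne
    have hfus : ¬ NoFus P.S H := fun hN =>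
      hne (le_wreath_of_moves hP (by omega) hH hM (noFus_moves hP (by omega) hH hM hN))
    simp only [NoFus, not_forall, not_not] at hfus
    obtain ⟨g, hg, hgW, i, x, d, j, y, e, hxd, hye, hxy⟩ := hfus
    obtain ⟨p, hpW, hpO, hp⟩ := exists_frame hP i hxd.iso hxd.ne0
    obtain ⟨q, hqW, hqO, hq⟩ := exists_frame hP j hye.iso hye.ne0
    set H' : Subgroup (GL (Fin (T + 1) → Fin k) F) := H.comap (MulAut.conj p).toMonoidHom with hH'def
    have hmem : ∀ h, h ∈ H' ↔ p * h * p⁻¹ ∈ H := fun h => Iff.rfl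
    have hH' : H' ≤ Om (powS P.S (T + 1)) := fun h hh => by
      have := Om_conj _ two (inv_mem hpO) (hH ((hmem h).mp hh))
      simpa [mul_assoc] using this
    have hM' : ContainsW P.S H' := fun w hw hw' => (hmem w).mpr
      (hM _ (mul_mem (mul_mem hpW hw) (inv_mem hpW)) (Om_conj _ two hpO hw'))
    set g' := p⁻¹ * g * q with hg'
    have hg'O : g' ∈ O (powS P.S (T + 1)) := mul_mem (mul_mem (inv_mem hpO) (Om_le_O _ two (hH hg))) hqO
    have hg'W : g' ∉ Geo.tensorWreathStandard k (T + 1) F := fun h => hgW (by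
      have := mul_mem (mul_mem hpW h) (inv_mem hqW)
      simpa [hg', mul_assoc] using this)
    have hconj : ∀ w ∈ Geo.tensorWreathStandard k (T + 1) F, w ∈ Om (powS P.S (T + 1)) → g' * w * g'⁻¹ ∈ H' := by
      intro w hw hw'
      refine (hmem _).mpr ?_
      have := mul_mem (mul_mem hg (hM _ (mul_mem (mul_mem hqW hw) (inv_mem hqW)) (Om_conj _ two hqO hw'))) (inv_mem hg)
      simpa [hg', mul_assoc] using this
    have hcomm : g'.val * kz P.E 1 = (sf P.S d d / sf P.S e e) • (kz P.E 1 * g'.val) := by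
      have h1 : sf P.S e e • (g.val * slot j (rk P.S y y)) = sf P.S d d • (slot i (rk P.S x x) * g.val) := by
        have h2 : slot i (alt P.S x d) * g.val = g.val * slot j (alt P.S y e) := by
          rw [← hxy]; simp [mul_assoc]
        have h3 : slot i (alt P.S x d * alt P.S x d) * g.val = g.val * slot j (alt P.S y e * alt P.S y e) := by
          rw [slot_mul', slot_mul', mul_assoc, h2, ← mul_assoc, h2, mul_assoc]
        rw [alt_sq P.S hxd.iso hxd.orth, alt_sq P.S hye.iso hye.orth, slot_smul', slot_smul', smul_mul_assoc,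
          mul_smul_comm, neg_smul, neg_smul] at h3
        exact (neg_inj.mp h3).symm
      have h2 : (p⁻¹).val * slot i (rk P.S x x) = kz P.E 1 * (p⁻¹).val := by
        have h3 := congrArg (fun X => (p⁻¹).val * X * (p⁻¹).val) hp
        simpa [mul_assoc] using h3.symm
      have h4 : g.val * slot j (rk P.S y y) = (sf P.S d d / sf P.S e e) • (slot i (rk P.S x x) * g.val) := by
        rw [div_eq_inv_mul, ← smul_smul, ← h1, inv_smul_smul₀ hye.aniso]
      calc g'.val * kz P.E 1 = (p⁻¹).val * (g.val * slot j (rk P.S y y)) * q.val := by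
            rw [hg', Units.val_mul, Units.val_mul, mul_assoc, mul_assoc, hq]; simp [mul_assoc]
        _ = (sf P.S d d / sf P.S e e) • ((p⁻¹).val * slot i (rk P.S x x) * g.val * q.val) := by
            rw [h4, mul_smul_comm, smul_mul_assoc]; simp [mul_assoc]
        _ = _ := by
            rw [h2, hg', Units.val_mul, Units.val_mul]; simp [mul_assoc]
    -- a non-zero centre element
    obtain ⟨Z, hZ, hZ0⟩ : ∃ Z, InC P H' Z ∧ Z ≠ 0 := by
      by_contra hc
      push Not at hc
      obtain ⟨g₀, hg₀, hg₀W, hg₀H⟩ := line_case hP hT hH' hM' hc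
        (fun h hh N e' hN c hc' => radical_scalar hP hT hH' hM' hc hh e' hN hc')
        (fun A hA hAW => exists_out hP hT A hA hAW) (fun K hK hKM hKW => ih hT K hK hKM hKW)
        (fun hs h2 hfull => line_small hP hs h2 hH' hM' hc hfull) hg'O hg'W hconj hcomm
      have hT2 : 2 ≤ T := by
        by_contra h
        obtain rfl : T = 1 := by omega
        exact hg₀W (mem_wreath_one g₀)
      have hall := ih hT (Om (powS P.S T) ⊓ H'.comap (restHom k T F)) inf_le_left
        (fun w hw hw' => ⟨hw', kzU_mem_H two hM' (one_mem _) hw' hw⟩) fun hle => hg₀W (hle ⟨hg₀, hg₀H⟩)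
      obtain ⟨Z, hZ, hZ0⟩ := inC_of_rest hP hT2 hM' fun v hv => (hall hv).2
      exact hZ0 (hc Z hZ)
    have hfull := Om_le_of_full_of_all hP hT hH' hM'
      (fun H'' h'' hM'' Z0 h0 hne0 => InC.all hP hT h'' hM'' h0 hne0) (InC.all hP hT hH' hM' hZ hZ0)
    intro v hv
    have h := (hmem _).mp (hfull (Om_conj _ two (inv_mem hpO) hv))
    simpa [mul_assoc] using h

/-- The core: an overgroup of the stabiliser in the commutator subgroup, not inside it, is everything. -/
theorem core (hP : P.Good) (ht : 2 ≤ t) (H : Subgroup (GL (Fin t → Fin k) F)) (hH : H ≤ Om (powS P.S t))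
    (hM : ContainsW P.S H) (hne : ¬ H ≤ Geo.tensorWreathStandard k t F) : Om (powS P.S t) ≤ H :=
  core_aux hP t (by omega) H hH hM hne

end Cfsg.Agent.WreathO
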