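import Cfsg.Agent.WreathO.Transfer

/-!
The statements on orthogonal tensor wreath stabilisers, from the core (helper50).
-/

set_option autoImplicit false
set_option linter.unusedSectionVars false

namespace Cfsg.Agent.WreathO

open Cfsg.Agent.WreathMax

/-- The core, in all dimensions, over a field. -/
def Core (F : Type*) [Field F] [Fintype F] : Prop :=
  ∀ (k t : ℕ), 2 ≤ t → ∀ P : Std k F, P.Good → ∀ H : Subgroup (GL (Fin t → Fin k) F),
    H ≤ Om (powS P.S t) → ContainsW P.S H → ¬ H ≤ Geo.tensorWreathStandard k t F → Om (powS P.S t) ≤ H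

theorem two_ne_zero_of_odd {F : Type*} [Field F] [Fintype F] (hodd : Odd (Fintype.card F)) : (2 : F) ≠ 0 :=
  Ring.two_ne_zero fun h => by
    have := FiniteField.even_card_of_char_two h
    exact Nat.not_even_iff_odd.mpr hodd (Nat.even_iff.mpr this)

/-- The tensor wreath stabiliser in the odd orthogonal group. -/
theorem odd_of_core {F : Type*} [Field F] [Fintype F] (hcore : Core F) (two : (2 : F) ≠ 0) (m k t : ℕ)
    (hk : 3 ≤ k) (ht : 2 ≤ t) (hex : ¬ (Fintype.card F = 3 ∧ k = 3))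
    (e : (Unit ⊕ (Fin m ⊕ Fin m)) ≃ (Fin t → Fin k)) (P : GL (Unit ⊕ (Fin m ⊕ Fin m)) F)
    (f₁ : (Fin k → F) → (Fin k → F) → F) (hf₁ : Geo.IsSymmetricForm f₁)
    (hT : Geo.IsTensorPowerFormStructure id (QuadraticMap.polar (Cfsg.quadFormOdd m F)) f₁ e P) :
    Geo.IsMaximalIn (Geo.omegaGL (Cfsg.quadFormOdd m F))
      (Geo.tensorWreathSubgroup k t e P ⊓ Geo.omegaGL (Cfsg.quadFormOdd m F)) := by
  refine isMaximalIn_of_core (fun c v => ?_) two hk ht hex e P f₁ hf₁ (fun h4 => ?_) hT (hcore k t ht)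
  · simp only [Cfsg.quadFormOdd, Pi.smul_apply, smul_eq_mul, mul_add, Finset.mul_sum, mul_pow]
    congr 1
    exact Finset.sum_congr rfl fun i _ => by ring
  · exfalso
    subst h4
    have := Fintype.card_congr e
    simp only [Fintype.card_sum, Fintype.card_unique, Fintype.card_fin, Fintype.card_fun] at this
    obtain ⟨s, rfl⟩ := Nat.exists_eq_add_of_le ht
    rw [pow_add] at this
    omega

/-- The tensor wreath stabiliser in the orthogonal group of even dimension. -/
theorem even_of_core {F : Type*} [Field F] [Fintype F] (hcore : Core F) (two : (2 : F) ≠ 0) {n : ℕ}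
    (Q : (Fin n → F) → F) (hQ : Geo.IsNondegenerateQuadraticForm Q) (k t : ℕ) (ht : 2 ≤ t)
    (e : Fin n ≃ (Fin t → Fin k)) (P : GL (Fin n) F) (f₁ : (Fin k → F) → (Fin k → F) → F)
    (hf₁ : Geo.IsSymmetricForm f₁) (hke : Even k)
    (hsize : (6 ≤ k ∧ Geo.IsPlusTypeOn (fun v : Fin k → F => f₁ v v) ⊤) ∨
      (4 ≤ k ∧ ¬ Geo.IsPlusTypeOn (fun v : Fin k → F => f₁ v v) ⊤))
    (hT : Geo.IsTensorPowerFormStructure id (QuadraticMap.polar Q) f₁ e P) :
    Geo.IsMaximalIn (Geo.omegaGL Q) (Geo.tensorWreathSubgroup k t e P ⊓ Geo.omegaGL Q) := by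
  refine isMaximalIn_of_core hQ.smul two (by rcases hsize with h | h <;> omega) ht
    (fun h => ?_) e P f₁ hf₁ (fun h4 => ?_) hT (hcore k t ht)
  · obtain ⟨j, rfl⟩ := hke; omega
  · rcases hsize with h | h
    · omega
    · exact h.2

end Cfsg.Agent.WreathO
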