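import Cfsg.Agent.WreathO.Seed
import Cfsg.Agent.WreathO.Pure

/-!
A nonzero element of the centre of the radical of a line of slots gives all skew maps (helper76).
-/

set_option autoImplicit false
set_option linter.unusedSectionVars false
namespace Cfsg.Agent.WreathO
open Matrix Cfsg.Agent.MaxSub Cfsg.Agent.MaxSub.Asch Cfsg.Agent.FG75.SpinTensor Cfsg.Agent.WreathMax
variable {F : Type*} [Field F] [Fintype F] {k t : ℕ} {P : Std k F}
variable {H : Subgroup (GL (Fin (t + 1) → Fin k) F)}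

/-- A nonzero centre element gives a pure seed with a square. -/
theorem InC.exists_seed (hP : P.Good) (ht : 2 ≤ t) (hH : H ≤ Om (powS P.S (t + 1))) (hM : ContainsW P.S H)
    {Z₀ : Matrix (Fin t → Fin k) (Fin t → Fin k) F} (h : InC P H Z₀) (hne : Z₀ ≠ 0) :
    ∃ (m : Fin t → Fin k) (T : Fin t → Ty), (∀ l, m l ≠ P.i0 ∧ m l ≠ P.i1) ∧ (∃ l, T l = Ty.E) ∧
      tens (fun l => P.entry (m l) (T l)) ∈ CY P H := by
  have two := hP.two
  obtain ⟨α, m, T, ⟨u, hu⟩, hT, hm, -, -, hr⟩ := exists_pure hP (centreTuples_stable two hM)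
    (fun _ _ _ => Or.inl rfl) (fun _ h1 => by omega) (X := fun _ => Z₀) h ⟨(), fun r e => by
      change Z₀ = r • 1 at e
      have h1 := InC.skew two hH h
      rw [e, adj_smul, adj_one] at h1
      refine hne (e.trans ?_)
      have h2 : (2 : F) • (r • (1 : Matrix (Fin t → Fin k) (Fin t → Fin k) F)) = 0 := by
        rw [two_smul]; exact add_eq_zero_iff_eq_neg.mpr h1
      exact (smul_eq_zero.mp h2).resolve_left two⟩
    (fun _ _ X hX c => InC.skew two hH hX)
  refine exists_seed_of_pure hP ht hH hM (hm u) hT (fun c => ?_)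
  have h1 : InC P H _ := hr (c / α u)
  obtain rfl : u = () := rfl
  simp only [div_mul_cancel₀ _ hu] at h1
  exact h1

/-- A nonzero centre element gives all skew maps. -/
theorem InC.all (hP : P.Good) (ht : 1 ≤ t) (hH : H ≤ Om (powS P.S (t + 1))) (hM : ContainsW P.S H)
    {Z₀ : Matrix (Fin t → Fin k) (Fin t → Fin k) F} (h : InC P H Z₀) (hne : Z₀ ≠ 0) :
    ∀ Z, adj (powS P.S t) Z = -Z → InC P H Z := by
  rcases (show t = 1 ∨ 2 ≤ t by omega) with rfl | ht2
  · exact InC.all_one hP hH hM h hne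
  · obtain ⟨m, T, hm, hE, hs⟩ := InC.exists_seed hP ht2 hH hM h hne
    exact fun Z hZ => CY.inC (InC.all_of_seed hP ht2 hH hM m T hm hE hs Z hZ)

end Cfsg.Agent.WreathO
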