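import Cfsg.Agent.WreathO.Defs

/-!
Skew maps: spanned by Siegel nilpotents, generating all maps (helper1).
-/

set_option autoImplicit false
set_option linter.unusedSectionVars false

namespace Cfsg.Agent.WreathO

open Matrix Cfsg.Agent.MaxSub Cfsg.Agent.MaxSub.Asch Cfsg.Agent.FG75.SpinTensor Cfsg.Agent.WreathMax

variable {F : Type*} [Field F]

section General

variable {ι : Type} [Fintype ι] [DecidableEq ι] (S : Sform ι F)

/-- A skew map acts as a derivation on the skew maps of two vectors. -/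
theorem bracket_alt {A : Matrix ι ι F} (hA : adj S A = -A) (u v : ι → F) :
    A * alt S u v - alt S u v * A = alt S (A *ᵥ u) v + alt S u (A *ᵥ v) := by
  simp only [alt, mul_sub, sub_mul, mul_rk, rk_mul_left, hA, neg_mulVec, rk_neg_right]
  abel

/-- A skew map is a combination of the skew maps of two vectors. -/
theorem skew_mem (two : (2 : F) ≠ 0) (R : Submodule F (Matrix ι ι F))
    (h : ∀ a b : ι, alt S (Pi.single a 1) (Pi.single b 1) ∈ R) {A : Matrix ι ι F} (hA : adj S A = -A) : A ∈ R := by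
  classical
  have e : A = ∑ a, ∑ b, (A a b * (S.w b)⁻¹) • rk S (Pi.single a 1) (Pi.single (S.J b) 1) := by
    conv_lhs => rw [Matrix.matrix_eq_sum_single A]
    refine Finset.sum_congr rfl fun a _ => Finset.sum_congr rfl fun b _ => ?_
    rw [mul_smul, ← single_eq_rk, Matrix.smul_single, smul_eq_mul, mul_one]
  have e' : (2 : F) • A = ∑ a, ∑ b, (A a b * (S.w b)⁻¹) • alt S (Pi.single a 1) (Pi.single (S.J b) 1) := by
    have h1 : A - adj S A = ∑ a, ∑ b, (A a b * (S.w b)⁻¹) • alt S (Pi.single a 1) (Pi.single (S.J b) 1) := by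
      let φ : Matrix ι ι F →ₗ[F] Matrix ι ι F :=
        { toFun := adj S, map_add' := adj_add S, map_smul' := adj_smul S }
      conv_lhs => rw [e]
      rw [show adj S (∑ a, ∑ b, (A a b * (S.w b)⁻¹) • rk S (Pi.single a 1) (Pi.single (S.J b) 1)) = φ _ from rfl]
      simp only [map_sum, map_smul, ← Finset.sum_sub_distrib, ← smul_sub]
      simp only [φ, LinearMap.coe_mk, AddHom.coe_mk, adj_rk, alt]
    rw [← h1, hA, sub_neg_eq_add, two_smul]
  have h2 : (2 : F) • A ∈ R := by
    rw [e']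
    exact R.sum_mem fun a _ => R.sum_mem fun b _ => R.smul_mem _ (h a _)
  simpa [smul_smul, two] using R.smul_mem (2 : F)⁻¹ h2

theorem alt_self (x : ι → F) : alt S x x = 0 := sub_self _

end General

variable {k t : ℕ} {P : Std k F}

theorem mid_eq_sum {z : Fin k → F} (hz : P.IsMid z) :
    z = ∑ a ∈ Finset.univ.filter (fun a => a ≠ P.i0 ∧ a ≠ P.i1), z a • (Pi.single a 1 : Fin k → F) := by
  funext b
  simp only [Finset.sum_apply, Pi.smul_apply, Pi.single_apply, smul_eq_mul, mul_ite, mul_one, mul_zero,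
    Finset.sum_ite_eq, Finset.mem_filter, Finset.mem_univ, true_and]
  split_ifs with h
  · rfl
  · rcases not_and_or.mp h with h | h <;> rw [not_not] at h <;> subst h
    · exact hz.1
    · exact hz.2

/-- A middle coordinate. -/
def Std.i2 (P : Std k F) : Fin k := ⟨2, by have := P.hk; omega⟩

theorem Std.i2_ne (P : Std k F) : P.i2 ≠ P.i0 ∧ P.i2 ≠ P.i1 := by
  simp [Std.i2, Std.i0, Std.i1, Fin.ext_iff]

/-- The Siegel nilpotents span the skew maps. -/
theorem Std.root_span (two : (2 : F) ≠ 0) (R : Submodule F (Matrix (Fin k) (Fin k) F))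
    (h : ∀ x d, IsRoot P.S x d → alt P.S x d ∈ R) {A : Matrix (Fin k) (Fin k) F} (hA : adj P.S A = -A) :
    A ∈ R := by
  classical
  -- the mixed vector
  have hx : ∀ c, P.IsMid c → ∃ β : F, sf P.S (P.eo + c + β • P.ew) (P.eo + c + β • P.ew) = 0 ∧ 2 * β = -sf P.S c c := by
    intro c hc
    refine ⟨-sf P.S c c / 2, ?_, by field_simp⟩
    simp only [sf_add_left, sf_add_right, sf_smul_left, sf_smul_right, P.eo_iso, P.ew_iso, P.eo_ew, P.ew_eo,
      hc.eo, hc.eo', hc.ew, hc.ew']
    field_simp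
    ring
  have ho : ∀ a, a ≠ P.i0 → a ≠ P.i1 → alt P.S P.eo (Pi.single a 1) ∈ R :=
    fun a h0 h1 => h _ _ (Std.isRoot_mid h0 h1)
  have hw : ∀ a, a ≠ P.i0 → a ≠ P.i1 → alt P.S P.ew (Pi.single a 1) ∈ R := fun a h0 h1 =>
    h _ _ ⟨P.ew_iso, (Std.isMid_single h0 h1).ew', by rw [Std.sf_single_mid h0 h1]; exact P.w_ne a, P.ew_ne_zero⟩
  have how : alt P.S P.eo P.ew ∈ R := by
    obtain ⟨c0, c1⟩ := P.i2_ne
    set c : Fin k → F := Pi.single P.i2 1
    have hc : P.IsMid c := Std.isMid_single c0 c1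
    obtain ⟨β, hβ, h2β⟩ := hx c hc
    have hd : IsRoot P.S (P.eo + c + β • P.ew) (c + (2 : F) • P.eo) := by
      refine ⟨hβ, ?_, ?_, fun e => ?_⟩
      · simp only [sf_add_left, sf_add_right, sf_smul_left, sf_smul_right, P.eo_iso, P.ew_eo, hc.eo, hc.eo', hc.ew']
        linear_combination h2β
      · simp only [sf_add_left, sf_add_right, sf_smul_left, sf_smul_right, P.eo_iso, hc.eo, hc.eo']
        rw [show sf P.S c c = P.w P.i2 from Std.sf_single_mid c0 c1]
        simpa using P.w_ne P.i2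
      · simpa [Std.eo, Std.ew, P.i0_ne_i1, hc.1] using congrFun e P.i0
    have h1 := h _ _ hd
    have e : alt P.S (P.eo + c + β • P.ew) (c + (2 : F) • P.eo) =
        -alt P.S P.eo c + β • alt P.S P.ew c - (2 * β) • alt P.S P.eo P.ew := by
      simp only [alt_add_left, alt_add_right, alt_smul_left, alt_smul_right, alt_self, alt_swap P.S P.eo c,
        alt_swap P.S P.eo P.ew]
      module
    have hb : (2 * β) • alt P.S P.eo P.ew ∈ R := by
      have := R.sub_mem (R.add_mem (R.neg_mem (ho _ c0 c1)) (R.smul_mem β (hw _ c0 c1))) h1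
      rwa [e, sub_sub_cancel] at this
    have hβ0 : 2 * β ≠ 0 := by
      rw [h2β, show sf P.S c c = P.w P.i2 from Std.sf_single_mid c0 c1]
      exact neg_ne_zero.mpr (P.w_ne _)
    have h3 := R.smul_mem (2 * β)⁻¹ hb
    rwa [smul_smul, inv_mul_cancel₀ hβ0, one_smul] at h3
  have hmm : ∀ a, a ≠ P.i0 → a ≠ P.i1 → ∀ b, b ≠ P.i0 → b ≠ P.i1 → a ≠ b →
      alt P.S (Pi.single a 1) (Pi.single b 1) ∈ R := by
    intro a a0 a1 b b0 b1 hab
    have hc : P.IsMid (Pi.single a (1 : F)) := Std.isMid_single a0 a1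
    have hd : P.IsMid (Pi.single b (1 : F)) := Std.isMid_single b0 b1
    obtain ⟨β, hβ, -⟩ := hx _ hc
    have hr : IsRoot P.S (P.eo + Pi.single a 1 + β • P.ew) (Pi.single b 1) := by
      refine ⟨hβ, ?_, by rw [Std.sf_single_mid b0 b1]; exact P.w_ne b,
        fun e => by simpa [Std.eo, Std.ew, P.i0_ne_i1, hc.1] using congrFun e P.i0⟩
      simp only [sf_add_left, sf_smul_left, hd.eo', hd.ew', sf_single, Std.J_mid a0 a1, Pi.single_eq_of_ne hab]
      ring
    have h1 := h _ _ hr
    rw [alt_add_left, alt_add_left, alt_smul_left] at h1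
    have := R.sub_mem (R.sub_mem h1 (R.smul_mem β (hw _ b0 b1))) (ho _ b0 b1)
    simpa [add_sub_cancel_right] using this
  refine skew_mem P.S two R (fun a b => ?_) hA
  rcases eq_or_ne a b with rfl | hab
  · rw [alt_self]; exact R.zero_mem
  rcases eq_or_ne a P.i0 with rfl | a0
  · rcases eq_or_ne b P.i1 with rfl | b1
    · exact how
    · exact ho b hab.symm b1
  rcases eq_or_ne a P.i1 with rfl | a1
  · rcases eq_or_ne b P.i0 with rfl | b0
    · rw [alt_swap]; exact R.neg_mem how
    · exact hw b b0 hab.symm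
  rcases eq_or_ne b P.i0 with rfl | b0
  · rw [alt_swap]; exact R.neg_mem (ho a a0 a1)
  rcases eq_or_ne b P.i1 with rfl | b1
  · rw [alt_swap]; exact R.neg_mem (hw a a0 a1)
  exact hmm a a0 a1 b b0 b1 hab

/-- The Siegel nilpotents generate all maps. -/
theorem Std.mat_generated (two : (2 : F) ≠ 0) (A : Subalgebra F (Matrix (Fin k) (Fin k) F))
    (h : ∀ x d, IsRoot P.S x d → alt P.S x d ∈ A) (M : Matrix (Fin k) (Fin k) F) : M ∈ A := by
  classical
  have hskew : ∀ u v, alt P.S u v ∈ A := fun u v => P.root_span two (Subalgebra.toSubmodule A) h (adj_alt _ u v)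
  obtain ⟨c0, c1⟩ := P.i2_ne
  set c : Fin k → F := Pi.single P.i2 1
  have hc : P.IsMid c := Std.isMid_single c0 c1
  have hcc : sf P.S c c ≠ 0 := by rw [Std.sf_single_mid c0 c1]; exact P.w_ne _
  have sq : ∀ x, sf P.S x x = 0 → sf P.S x c = 0 → rk P.S x x ∈ A := fun x hx hxc => by
    have h1 := A.mul_mem (hskew x c) (hskew x c)
    rw [alt_sq P.S hx hxc] at h1
    have h2 := A.smul_mem h1 (-sf P.S c c)⁻¹
    rwa [smul_smul, inv_mul_cancel₀ (neg_ne_zero.mpr hcc), one_smul] at h2
  have hoo := sq P.eo P.eo_iso hc.eo'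
  have hww := sq P.ew P.ew_iso hc.ew'
  have hxo : ∀ x, rk P.S x P.eo ∈ A := fun x => by
    obtain ⟨z, hz, hx⟩ := Std.decomp (P := P) x
    have hzo : rk P.S z P.eo ∈ A := by
      have h1 := A.mul_mem (hskew z P.ew) hoo
      rwa [alt, sub_mul, rk_mul, rk_mul, P.eo_ew, sf_symm P.S P.eo z, hz.eo, one_smul, zero_smul, sub_zero] at h1
    have hwo : rk P.S P.ew P.eo ∈ A := by
      have h1 := A.mul_mem hww hoo
      rwa [rk_mul, P.eo_ew, one_smul] at h1
    rw [hx, rk_add_left, rk_add_left, rk_smul_left, rk_smul_left]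
    exact A.add_mem (A.add_mem (A.smul_mem hwo _) hzo) (A.smul_mem hoo _)
  have hox : ∀ x, rk P.S P.eo x ∈ A := fun x => by
    have h1 := A.sub_mem (hxo x) (hskew x P.eo)
    rwa [alt, sub_sub_cancel] at h1
  have hxy : ∀ x y, rk P.S x y ∈ A := fun x y => by
    have h1 := A.mul_mem (A.mul_mem (hxo x) hww) (hox y)
    rwa [rk_mul, P.ew_eo, one_smul, rk_mul, P.eo_ew, one_smul] at h1
  rw [Matrix.matrix_eq_sum_single M]
  refine sum_mem fun a _ => sum_mem fun b _ => ?_
  have h1 := A.smul_mem (A.smul_mem (hxy (Pi.single a 1) (Pi.single (P.S.J b) 1)) (P.S.w b)⁻¹) (M a b)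
  rwa [← single_eq_rk, Matrix.smul_single, smul_eq_mul, mul_one] at h1

/-- A map commuting with the roots of a slot commutes with the slot. -/
theorem commute_slot (two : (2 : F) ≠ 0) (l : Fin t) {X : Matrix (Fin t → Fin k) (Fin t → Fin k) F}
    (h : ∀ x d, IsRoot P.S x d → Commute (slot l (alt P.S x d)) X) (A : Matrix (Fin k) (Fin k) F) :
    Commute (slot l A) X := by
  let C : Subalgebra F (Matrix (Fin k) (Fin k) F) := (Subalgebra.centralizer F {X}).comap (slotHom l)
  have hA : A ∈ C := P.mat_generated two C (fun x d hr => by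
    show slotHom l (alt P.S x d) ∈ Subalgebra.centralizer F {X}
    rw [Subalgebra.mem_centralizer_iff]
    rintro _ rfl
    exact (h x d hr).eq.symm) A
  have := (Subalgebra.mem_centralizer_iff F).mp (show slotHom l A ∈ Subalgebra.centralizer F {X} from hA) X rfl
  exact this.symm

/-- A map commuting with the roots of all slots is scalar. -/
theorem scalar_of_commute (two : (2 : F) ≠ 0) {X : Matrix (Fin t → Fin k) (Fin t → Fin k) F}
    (h : ∀ l x d, IsRoot P.S x d → Commute (slot l (alt P.S x d)) X) : ∃ c : F, X = c • 1 :=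
  slot_centraliser fun i M => Commute.symm (commute_slot two i (h i) M)

end Cfsg.Agent.WreathO
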