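import Cfsg.Agent.MaxSub.Alt
import Cfsg.Agent.Lib.Reflections.OddIndex
import Cfsg.Agent.WreathMax.Basic
import Cfsg.Prelude.Def_GeometricClasses

/-!
Symmetric forms given by an involution of the index set and weights: adjoints, rank one maps, the commutator
subgroup of the isometries, Siegel transformations (helper1).
-/

set_option autoImplicit false
set_option linter.unusedSectionVars false

namespace Cfsg.Agent.WreathO

open Matrix Cfsg.Agent.MaxSub
open scoped commutatorElement

variable {F : Type*} [Field F] {ι : Type} [Fintype ι] [DecidableEq ι]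

/-- An involution of an index set with invariant weights. -/
structure Sform (ι : Type) (F : Type*) [Field F] where
  J : Equiv.Perm ι
  inv : ∀ a, J (J a) = a
  w : ι → F
  w_ne : ∀ a, w a ≠ 0
  w_J : ∀ a, w (J a) = w a

variable (S : Sform ι F)

/-- The covector of a vector. -/
def cv (y : ι → F) : ι → F := fun a => S.w a * y (S.J a)

/-- The form. -/
def sf (x y : ι → F) : F := cv S y ⬝ᵥ x

/-- The map `z ↦ f(z, y) x`. -/
def rk (x y : ι → F) : Matrix ι ι F := vecMulVec x (cv S y)

/-- The adjoint. -/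
def adj (X : Matrix ι ι F) : Matrix ι ι F :=
  Matrix.of fun a b => S.w b / S.w a * X (S.J b) (S.J a)

/-- The skew map of two vectors. -/
def alt (x y : ι → F) : Matrix ι ι F := rk S x y - rk S y x

/-- The symmetric map of two vectors. -/
def sym (x y : ι → F) : Matrix ι ι F := rk S x y + rk S y x

theorem sf_add_left (x x' y : ι → F) : sf S (x + x') y = sf S x y + sf S x' y := dotProduct_add _ _ _

theorem sf_smul_left (c : F) (x y : ι → F) : sf S (c • x) y = c * sf S x y := dotProduct_smul c _ _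

theorem sf_symm (x y : ι → F) : sf S x y = sf S y x := by
  simp only [sf, dotProduct, cv]
  rw [← Equiv.sum_comp S.J]
  exact Finset.sum_congr rfl fun a _ => by rw [S.inv, S.w_J]; ring

theorem sf_add_right (x y y' : ι → F) : sf S x (y + y') = sf S x y + sf S x y' := by
  rw [sf_symm, sf_add_left, sf_symm S y, sf_symm S y']

theorem sf_smul_right (c : F) (x y : ι → F) : sf S x (c • y) = c * sf S x y := by
  rw [sf_symm, sf_smul_left, sf_symm]

theorem sf_neg_left (x y : ι → F) : sf S (-x) y = -sf S x y := by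
  rw [← neg_one_smul F x, sf_smul_left]; ring

theorem sf_neg_right (x y : ι → F) : sf S x (-y) = -sf S x y := by
  rw [← neg_one_smul F y, sf_smul_right]; ring

theorem sf_sub_left (x x' y : ι → F) : sf S (x - x') y = sf S x y - sf S x' y := by
  rw [sub_eq_add_neg, sf_add_left, sf_neg_left]; ring

theorem sf_sub_right (x y y' : ι → F) : sf S x (y - y') = sf S x y - sf S x y' := by
  rw [sub_eq_add_neg, sf_add_right, sf_neg_right]; ring

theorem sf_zero_left (y : ι → F) : sf S 0 y = 0 := dotProduct_zero _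

theorem sf_zero_right (x : ι → F) : sf S x 0 = 0 := by rw [sf_symm, sf_zero_left]

theorem sf_single (a : ι) (y : ι → F) : sf S (Pi.single a 1) y = S.w a * y (S.J a) := by
  simp [sf, cv]

theorem exists_pair {x : ι → F} (hx : x ≠ 0) : ∃ y, sf S x y = 1 := by
  obtain ⟨a, ha⟩ := Function.ne_iff.mp hx
  refine ⟨(S.w a * x a)⁻¹ • Pi.single (S.J a) 1, ?_⟩
  rw [sf_smul_right, sf_symm, sf_single, S.inv, S.w_J]
  exact inv_mul_cancel₀ (mul_ne_zero (S.w_ne a) ha)

theorem rk_mulVec (x y z : ι → F) : rk S x y *ᵥ z = sf S z y • x := by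
  rw [rk, vecMulVec_mulVec]
  simp [sf]

theorem rk_mul (x y z u : ι → F) : rk S x y * rk S z u = sf S z y • rk S x u := by
  rw [rk, rk, vecMulVec_mul_vecMulVec, rk, sf]
  ext a b
  simp [vecMulVec_apply, mul_comm, mul_assoc, mul_left_comm]

theorem rk_add_left (x x' y : ι → F) : rk S (x + x') y = rk S x y + rk S x' y := add_vecMulVec _ _ _

theorem rk_add_right (x y y' : ι → F) : rk S x (y + y') = rk S x y + rk S x y' := by
  rw [rk, show cv S (y + y') = cv S y + cv S y' by funext a; simp [cv, mul_add], vecMulVec_add]; rfl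

theorem rk_smul_left (c : F) (x y : ι → F) : rk S (c • x) y = c • rk S x y := smul_vecMulVec c _ _

theorem rk_smul_right (c : F) (x y : ι → F) : rk S x (c • y) = c • rk S x y := by
  rw [rk, show cv S (c • y) = c • cv S y by funext a; simp [cv, mul_left_comm], vecMulVec_smul]; rfl

theorem rk_neg_left (x y : ι → F) : rk S (-x) y = -rk S x y := by
  rw [← neg_one_smul F x, rk_smul_left, neg_one_smul]

theorem rk_neg_right (x y : ι → F) : rk S x (-y) = -rk S x y := by
  rw [← neg_one_smul F y, rk_smul_right, neg_one_smul]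

theorem rk_sub_left (x x' y : ι → F) : rk S (x - x') y = rk S x y - rk S x' y := by
  rw [sub_eq_add_neg, rk_add_left, rk_neg_left, ← sub_eq_add_neg]

theorem rk_sub_right (x y y' : ι → F) : rk S x (y - y') = rk S x y - rk S x y' := by
  rw [sub_eq_add_neg, rk_add_right, rk_neg_right, ← sub_eq_add_neg]

theorem rk_zero_left (y : ι → F) : rk S 0 y = 0 := by rw [rk, zero_vecMulVec]

theorem rk_zero_right (x : ι → F) : rk S x 0 = 0 := by
  rw [rk, show cv S 0 = 0 by funext a; simp [cv], vecMulVec_zero]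

theorem rk_single (a b : ι) :
    rk S (Pi.single a 1) (Pi.single b 1) = S.w b • Matrix.single a (S.J b) (1 : F) := by
  have e : cv S (Pi.single b 1) = Pi.single (S.J b) (S.w b) := by
    funext v
    simp only [cv, Pi.single_apply]
    by_cases h : v = S.J b
    · subst h; simp [S.inv, S.w_J]
    · rw [if_neg h, if_neg (fun e => h (by rw [← e, S.inv])), mul_zero]
  rw [rk, e]
  ext u v
  simp only [vecMulVec_apply, Pi.single_apply, Matrix.smul_apply, Matrix.single_apply, smul_eq_mul]
  by_cases h1 : u = a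
  · by_cases h2 : v = S.J b
    · simp [h1, h2]
    · simp [h1, h2, Ne.symm h2]
  · simp [h1, Ne.symm h1]

theorem single_eq_rk (a b : ι) :
    Matrix.single a b (1 : F) = (S.w b)⁻¹ • rk S (Pi.single a 1) (Pi.single (S.J b) 1) := by
  rw [rk_single, S.inv, S.w_J, smul_smul, inv_mul_cancel₀ (S.w_ne b), one_smul]

theorem mul_rk (A : Matrix ι ι F) (x y : ι → F) : A * rk S x y = rk S (A *ᵥ x) y := mul_vecMulVec A x _

theorem adj_mulVec (A : Matrix ι ι F) (x y : ι → F) :
    sf S (A *ᵥ x) y = sf S x (adj S A *ᵥ y) := by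
  simp only [sf, cv, dotProduct, Matrix.mulVec, adj, Matrix.of_apply, Finset.mul_sum, Finset.sum_mul, S.inv]
  rw [Finset.sum_comm]
  refine Finset.sum_congr rfl fun b _ => ?_
  rw [← Equiv.sum_comp S.J]
  refine Finset.sum_congr rfl fun a _ => ?_
  rw [S.inv, S.w_J, S.w_J]
  field_simp [S.w_ne b]

theorem adj_adj (X : Matrix ι ι F) : adj S (adj S X) = X := by
  ext a b
  simp only [adj, Matrix.of_apply, S.inv, S.w_J]
  field_simp [S.w_ne a, S.w_ne b]

theorem adj_add (X Y : Matrix ι ι F) : adj S (X + Y) = adj S X + adj S Y := by ext a b; simp [adj, mul_add]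

theorem adj_sub (X Y : Matrix ι ι F) : adj S (X - Y) = adj S X - adj S Y := by ext a b; simp [adj, mul_sub]

theorem adj_neg (X : Matrix ι ι F) : adj S (-X) = -adj S X := by ext a b; simp [adj]

theorem adj_zero : adj S (0 : Matrix ι ι F) = 0 := by ext a b; simp [adj]

theorem adj_smul (c : F) (X : Matrix ι ι F) : adj S (c • X) = c • adj S X := by
  ext a b; simp [adj, mul_left_comm]

theorem adj_one : adj S (1 : Matrix ι ι F) = 1 := by
  ext a b
  rcases eq_or_ne a b with rfl | h
  · simp [adj, div_self (S.w_ne a)]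
  · simp [adj, h, S.J.injective.ne h.symm]

theorem adj_mul (X Y : Matrix ι ι F) : adj S (X * Y) = adj S Y * adj S X := by
  ext a b
  simp only [adj, Matrix.mul_apply, Matrix.of_apply, Finset.mul_sum]
  rw [← Equiv.sum_comp S.J]
  refine Finset.sum_congr rfl fun c _ => ?_
  field_simp [S.w_ne a, S.w_ne c]

theorem adj_rk (x y : ι → F) : adj S (rk S x y) = rk S y x := by
  ext a b
  simp only [adj, rk, cv, vecMulVec_apply, Matrix.of_apply, S.inv, S.w_J]
  field_simp [S.w_ne a]

theorem rk_mul_left (A : Matrix ι ι F) (x y : ι → F) : rk S x y * A = rk S x (adj S A *ᵥ y) := by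
  have h := congrArg (adj S) (mul_rk S (adj S A) y x)
  rwa [adj_mul, adj_adj, adj_rk, adj_rk] at h

theorem adj_alt (x y : ι → F) : adj S (alt S x y) = -alt S x y := by
  rw [alt, adj_sub, adj_rk, adj_rk, neg_sub]

theorem adj_sym (x y : ι → F) : adj S (sym S x y) = sym S x y := by
  rw [sym, adj_add, adj_rk, adj_rk, add_comm]

theorem alt_mulVec (x y z : ι → F) : alt S x y *ᵥ z = sf S z y • x - sf S z x • y := by
  rw [alt, sub_mulVec, rk_mulVec, rk_mulVec]

theorem alt_swap (x y : ι → F) : alt S y x = -alt S x y := by rw [alt, alt, neg_sub]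

theorem alt_add_left (x x' y : ι → F) : alt S (x + x') y = alt S x y + alt S x' y := by
  rw [alt, alt, alt, rk_add_left, rk_add_right]; abel

theorem alt_add_right (x y y' : ι → F) : alt S x (y + y') = alt S x y + alt S x y' := by
  rw [alt, alt, alt, rk_add_left, rk_add_right]; abel

theorem alt_smul_left (c : F) (x y : ι → F) : alt S (c • x) y = c • alt S x y := by
  rw [alt, alt, rk_smul_left, rk_smul_right, smul_sub]

theorem alt_smul_right (c : F) (x y : ι → F) : alt S x (c • y) = c • alt S x y := by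
  rw [alt, alt, rk_smul_left, rk_smul_right, smul_sub]

/-- The isometries of the form. -/
abbrev O : Subgroup (GL ι F) := isom (sf S)

theorem mem_O_iff {g : GL ι F} : g ∈ O S ↔ adj S (g : Matrix ι ι F) * (g : Matrix ι ι F) = 1 := by
  rw [mem_isom]
  constructor
  · intro h
    refine Matrix.ext_of_mulVec_single fun b => ?_
    rw [← mulVec_mulVec, one_mulVec]
    funext a
    have h1 := h (Pi.single (S.J a) 1) (Pi.single b 1)
    rw [adj_mulVec, sf_single, sf_single, S.inv] at h1
    exact mul_left_cancel₀ (S.w_ne _) h1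
  · intro h u v
    rw [adj_mulVec, mulVec_mulVec, h, one_mulVec]

theorem inv_eq_adj {g : GL ι F} (hg : g ∈ O S) :
    ((g⁻¹ : GL ι F) : Matrix ι ι F) = adj S (g : Matrix ι ι F) := by
  have h := congrArg (· * ((g⁻¹ : GL ι F) : Matrix ι ι F)) ((mem_O_iff S).mp hg)
  simp only [mul_assoc, Units.mul_inv, mul_one, one_mul] at h
  exact h.symm

theorem conj_rk {g : GL ι F} (hg : g ∈ O S) (x y : ι → F) :
    (g : Matrix ι ι F) * rk S x y * ((g⁻¹ : GL ι F) : Matrix ι ι F) =
      rk S ((g : Matrix ι ι F) *ᵥ x) ((g : Matrix ι ι F) *ᵥ y) := by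
  rw [inv_eq_adj S hg, mul_rk, rk_mul_left, adj_adj]

theorem conj_alt {g : GL ι F} (hg : g ∈ O S) (x y : ι → F) :
    (g : Matrix ι ι F) * alt S x y * ((g⁻¹ : GL ι F) : Matrix ι ι F) =
      alt S ((g : Matrix ι ι F) *ᵥ x) ((g : Matrix ι ι F) *ᵥ y) := by
  rw [alt, alt, mul_sub, sub_mul, conj_rk S hg, conj_rk S hg]

theorem adj_conj {g : GL ι F} (hg : g ∈ O S) (X : Matrix ι ι F) :
    adj S ((g : Matrix ι ι F) * X * ((g⁻¹ : GL ι F) : Matrix ι ι F)) =
      (g : Matrix ι ι F) * adj S X * ((g⁻¹ : GL ι F) : Matrix ι ι F) := by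
  rw [adj_mul, adj_mul, inv_eq_adj S hg, adj_adj, mul_assoc]

/-! ### The commutator subgroup -/

/-- The bilinear map of the form. -/
def bil : (ι → F) →ₗ[F] (ι → F) →ₗ[F] F :=
  LinearMap.mk₂ F (sf S) (sf_add_left S) (fun c x y => sf_smul_left S c x y) (sf_add_right S)
    fun c x y => sf_smul_right S c x y

/-- The quadratic form `x ↦ f(x, x)`. -/
def qf : QuadraticForm F (ι → F) := LinearMap.BilinMap.toQuadraticMap (bil S)

theorem qf_apply (x : ι → F) : qf S x = sf S x x := rfl

theorem polar_qf (x y : ι → F) : QuadraticMap.polar ⇑(qf S) x y = 2 * sf S x y := by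
  simp only [QuadraticMap.polar, qf_apply, sf_add_left, sf_add_right]
  rw [sf_symm S y x]
  ring

theorem polarBilin_qf_nondegenerate (two : (2 : F) ≠ 0) : (qf S).polarBilin.Nondegenerate := by
  have h1 : ∀ x, (∀ y, QuadraticMap.polar ⇑(qf S) x y = 0) → x = 0 := fun x h => by
    by_contra hx
    obtain ⟨y, hy⟩ := exists_pair S hx
    have := h y
    rw [polar_qf, hy, mul_one] at this
    exact two this
  refine ⟨fun x hx => h1 x hx, fun y hy => h1 y fun x => ?_⟩
  rw [QuadraticMap.polar_comm]
  exact hy x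

theorem mem_isometryGroup_iff (two : (2 : F) ≠ 0) {g : GL ι F} :
    g ∈ Cfsg.isometryGroup F ⇑(qf S) ↔ g ∈ O S := by
  constructor
  · intro h
    rw [mem_isom]
    intro u v
    have hq : ∀ x, qf S ((g : Matrix ι ι F) *ᵥ x) = qf S x := fun x => h x x
    have e : QuadraticMap.polar ⇑(qf S) ((g : Matrix ι ι F) *ᵥ u) ((g : Matrix ι ι F) *ᵥ v) =
        QuadraticMap.polar ⇑(qf S) u v := by
      simp only [QuadraticMap.polar, ← Matrix.mulVec_add, hq]
    rw [polar_qf, polar_qf] at e
    exact mul_left_cancel₀ two e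
  · exact fun h u _ => mem_isom.mp h u u

/-- The commutator subgroup of the isometries. -/
abbrev Om : Subgroup (GL ι F) := Geo.omegaGL ⇑(qf S)

theorem Om_le_O (two : (2 : F) ≠ 0) : Om S ≤ O S := by
  rintro g ⟨h, -, rfl⟩
  exact (mem_isometryGroup_iff S two).mp h.2

theorem mem_Om_commutator (two : (2 : F) ≠ 0) {g h : GL ι F} (hg : g ∈ O S) (hh : h ∈ O S) :
    g * h * g⁻¹ * h⁻¹ ∈ Om S :=
  ⟨⁅(⟨g, (mem_isometryGroup_iff S two).mpr hg⟩ : Cfsg.isometryGroup F ⇑(qf S)),
      ⟨h, (mem_isometryGroup_iff S two).mpr hh⟩⁆,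
    Subgroup.commutator_mem_commutator (Subgroup.mem_top _) (Subgroup.mem_top _), rfl⟩

theorem Om_conj (two : (2 : F) ≠ 0) {g h : GL ι F} (hg : g ∈ O S) (hh : h ∈ Om S) : g * h * g⁻¹ ∈ Om S := by
  have h1 := mul_mem (mem_Om_commutator S two hg (Om_le_O S two hh)) hh
  rwa [inv_mul_cancel_right] at h1

/-! ### Siegel transformations -/

/-- A non-zero isotropic vector and an anisotropic vector orthogonal to it. -/
structure IsRoot (x d : ι → F) : Prop where
  iso : sf S x x = 0
  orth : sf S x d = 0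
  aniso : sf S d d ≠ 0
  ne0 : x ≠ 0

theorem IsRoot.ne_zero {x d : ι → F} (_h : IsRoot S x d) : d ≠ 0 := fun e =>
  _h.aniso (by rw [e, sf_zero_left])

theorem alt_sq {x d : ι → F} (hx : sf S x x = 0) (hxd : sf S x d = 0) :
    alt S x d * alt S x d = -sf S d d • rk S x x := by
  rw [alt, sub_mul, mul_sub, mul_sub, rk_mul, rk_mul, rk_mul, rk_mul, hx, hxd, sf_symm S d x, hxd]
  module

theorem alt_cube {x d : ι → F} (hx : sf S x x = 0) (hxd : sf S x d = 0) :
    alt S x d * alt S x d * alt S x d = 0 := by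
  rw [alt_sq S hx hxd, alt, Matrix.smul_mul, mul_sub, rk_mul, rk_mul, hx, sf_symm S d x, hxd]
  simp

open Classical in
/-- The exponential of a nilpotent map of index at most three. -/
noncomputable def expU (two : (2 : F) ≠ 0) (N : Matrix ι ι F) : GL ι F :=
  if h : N * N * N = 0 then
    ⟨1 + N + (2 : F)⁻¹ • (N * N), 1 - N + (2 : F)⁻¹ • (N * N), by
      have e : (2 : F)⁻¹ + (2 : F)⁻¹ = 1 := by field_simp; norm_num
      simp only [mul_add, add_mul, mul_sub, one_mul, mul_one, Matrix.smul_mul, Matrix.mul_smul, ← mul_assoc,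
        h, Matrix.zero_mul, smul_zero]
      linear_combination (norm := module) (congrArg (fun r : F => r • (N * N)) e), by
      have e : (2 : F)⁻¹ + (2 : F)⁻¹ = 1 := by field_simp; norm_num
      simp only [mul_add, add_mul, sub_mul, one_mul, mul_one, Matrix.smul_mul, Matrix.mul_smul, ← mul_assoc,
        h, Matrix.zero_mul, smul_zero]
      linear_combination (norm := module) (congrArg (fun r : F => r • (N * N)) e)⟩
  else 1

variable {S}

theorem expU_coe (two : (2 : F) ≠ 0) {N : Matrix ι ι F} (h : N * N * N = 0) :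
    (expU two N).val = 1 + N + (2 : F)⁻¹ • (N * N) := by rw [expU, dif_pos h]

theorem expU_mul (two : (2 : F) ≠ 0) {N : Matrix ι ι F} (h : N * N * N = 0) (a b : F) :
    expU two (a • N) * expU two (b • N) = expU two ((a + b) • N) := by
  have hc : ∀ c : F, (c • N) * (c • N) * (c • N) = 0 := fun c => by
    simp only [Matrix.smul_mul, Matrix.mul_smul, h, smul_zero]
  refine Units.ext ?_
  rw [Units.val_mul, expU_coe two (hc a), expU_coe two (hc b), expU_coe two (hc _)]
  simp only [mul_add, add_mul, one_mul, mul_one, Matrix.smul_mul, Matrix.mul_smul, ← mul_assoc,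
    h, Matrix.zero_mul, smul_zero, add_zero, smul_smul]
  match_scalars <;> field_simp <;> ring

theorem expU_zero (two : (2 : F) ≠ 0) : expU two (0 : Matrix ι ι F) = 1 :=
  Units.ext (by rw [expU_coe two (by simp)]; simp)

theorem expU_smul_inv (two : (2 : F) ≠ 0) {N : Matrix ι ι F} (h : N * N * N = 0) (a : F) :
    (expU two (a • N))⁻¹ = expU two ((-a) • N) :=
  inv_eq_of_mul_eq_one_right (by rw [expU_mul two h, add_neg_cancel, zero_smul, expU_zero])

theorem expU_mem_O (two : (2 : F) ≠ 0) {N : Matrix ι ι F} (h : N * N * N = 0) (hN : adj S N = -N) :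
    expU two N ∈ O S := by
  rw [mem_O_iff]
  have e1 : adj S (expU two N).val = (expU two ((-1 : F) • N)).val := by
    rw [expU_coe two h, expU_coe two (by simp [Matrix.smul_mul, Matrix.mul_smul, h]), adj_add, adj_add, adj_one,
      adj_smul, adj_mul, hN]
    simp
  rw [e1, ← Units.val_mul]
  have := expU_mul two h (-1) 1
  rw [one_smul, neg_add_cancel, zero_smul, expU_zero] at this
  rw [this, Units.val_one]

theorem conj_expU (two : (2 : F) ≠ 0) (g : GL ι F) {N : Matrix ι ι F} (h : N * N * N = 0) :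
    g * expU two N * g⁻¹ = expU two ((g : Matrix ι ι F) * N * ((g⁻¹ : GL ι F) : Matrix ι ι F)) := by
  have e : ∀ A B : Matrix ι ι F, g.val * (A * B) * (g⁻¹).val = g.val * A * (g⁻¹).val * (g.val * B * (g⁻¹).val) :=
    fun A B => by simp only [mul_assoc, Units.inv_mul_cancel_left]
  have hn : (g.val * N * (g⁻¹).val) * (g.val * N * (g⁻¹).val) * (g.val * N * (g⁻¹).val) = 0 := by
    rw [← e, ← e, h, mul_zero, zero_mul]
  refine Units.ext ?_
  rw [Units.val_mul, Units.val_mul, expU_coe two h, expU_coe two hn, ← e]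
  simp [mul_add, add_mul, mul_assoc]

variable (S)

/-- The Siegel transformation of a vector pair. -/
noncomputable def root (two : (2 : F) ≠ 0) (x d : ι → F) : GL ι F := expU two (alt S x d)

variable [Fintype F]

theorem sq_mem_Om (two : (2 : F) ≠ 0) {g : GL ι F} (hg : g ∈ O S) : g * g ∈ Om S := by
  let G : Cfsg.isometryGroup F ⇑(qf S) := ⟨g, (mem_isometryGroup_iff S two).mpr hg⟩
  have hG : G ∈ Reflections.reflGroup (qf S) := by
    rw [Reflections.reflGroup_eq_top_of_two_ne_zero two (polarBilin_qf_nondegenerate S two)]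
    exact Subgroup.mem_top _
  have key : Abelianization.of G * Abelianization.of G = 1 := by
    refine Reflections.reflGroup_induction (p := fun x => Abelianization.of x * Abelianization.of x = 1)
      (by simp) (fun v x hv hx => ?_) hG
    rw [map_mul, mul_mul_mul_comm, hx, mul_one, ← map_mul, Reflections.refl_mul_self hv, map_one]
  have hmem : G * G ∈ commutator (Cfsg.isometryGroup F ⇑(qf S)) := by
    rw [← Abelianization.ker_of, MonoidHom.mem_ker, map_mul]
    exact key
  exact ⟨G * G, hmem, rfl⟩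

variable {S}

theorem expU_mem_Om (two : (2 : F) ≠ 0) {N : Matrix ι ι F} (h : N * N * N = 0) (hN : adj S N = -N) :
    expU two N ∈ Om S := by
  have h2 : ((2 : F)⁻¹ • N) * ((2 : F)⁻¹ • N) * ((2 : F)⁻¹ • N) = 0 := by
    simp only [Matrix.smul_mul, Matrix.mul_smul, h, smul_zero]
  have hO := expU_mem_O (S := S) two h2 (by rw [adj_smul, hN, smul_neg])
  have := sq_mem_Om S two hO
  rwa [expU_mul two h, show (2 : F)⁻¹ + (2 : F)⁻¹ = 1 by field_simp; norm_num, one_smul] at this

variable (S)

theorem root_mem_Om (two : (2 : F) ≠ 0) {x d : ι → F} (h : IsRoot S x d) : root S two x d ∈ Om S :=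
  expU_mem_Om two (alt_cube S h.iso h.orth) (adj_alt S x d)

end Cfsg.Agent.WreathO
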