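import Cfsg.Agent.WreathO.Alt

/-!
Elementary closure properties of the centre of the radical of a line of slots (helper1).
-/

set_option autoImplicit false
set_option linter.unusedSectionVars false

namespace Cfsg.Agent.WreathO

open Matrix Cfsg.Agent.MaxSub Cfsg.Agent.MaxSub.Asch Cfsg.Agent.FG75.SpinTensor Cfsg.Agent.WreathMax

variable {F : Type*} [Field F] {k t : ℕ} {P : Std k F}

theorem E_sq : P.E * P.E = 0 := by rw [Std.E, rk_mul, P.eo_iso, zero_smul]

theorem E_apply (a b : Fin k) : P.E a b = if a = P.i0 ∧ b = P.i1 then 1 else 0 := by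
  rw [Std.E, Std.eo, rk_single]
  show (P.w P.i0 • Matrix.single P.i0 (Equiv.swap P.i0 P.i1 P.i0) (1 : F)) a b = _
  rw [Equiv.swap_apply_left, P.w0 _ (show (0 : ℕ) < 2 by omega), one_smul, Matrix.single_apply]
  by_cases h : a = P.i0 ∧ b = P.i1
  · rw [if_pos h, if_pos ⟨h.1.symm, h.2.symm⟩]
  · rw [if_neg h, if_neg fun h' => h ⟨h'.1.symm, h'.2.symm⟩]

theorem adj_E : adj P.S P.E = P.E := adj_rk _ _ _

/-- An isometry of the other slots as an isometry. -/
theorem kzU_mem_O {A : GL (Fin k) F} (hA : A ∈ O P.S) {B : GL (Fin t → Fin k) F} (hB : B ∈ O (powS P.S t)) :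
    kzU A B ∈ O (powS P.S (t + 1)) := by
  rw [mem_O_iff, kzU_coe, adj_kz, kz_mul, (mem_O_iff _).mp hA, (mem_O_iff _).mp hB, kz_one]

/-- A homomorphism of isometry groups respects the commutator subgroups. -/
theorem map_Om {ι κ : Type} [Fintype ι] [DecidableEq ι] [Fintype κ] [DecidableEq κ] (two : (2 : F) ≠ 0)
    {S : Sform ι F} {S' : Sform κ F} (φ : GL ι F →* GL κ F) (h : ∀ g ∈ O S, φ g ∈ O S') {g : GL ι F}
    (hg : g ∈ Om S) : φ g ∈ Om S' := by
  obtain ⟨y, hy, rfl⟩ := hg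
  let ψ : Cfsg.isometryGroup F ⇑(qf S) →* Cfsg.isometryGroup F ⇑(qf S') :=
    MonoidHom.mk' (fun z => ⟨φ z.1,
      (mem_isometryGroup_iff S' two).mpr (h _ ((mem_isometryGroup_iff S two).mp z.2))⟩)
      fun a b => Subtype.ext (by simp)
  refine ⟨ψ y, ?_, rfl⟩
  have hle : (commutator (Cfsg.isometryGroup F ⇑(qf S))).map ψ ≤ commutator _ := by
    rw [_root_.commutator_def, Subgroup.map_commutator]
    exact Subgroup.commutator_mono le_top le_top
  exact hle ⟨y, hy, rfl⟩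

/-- The action on the other slots. -/
def restHom (k t : ℕ) (F : Type*) [Field F] : GL (Fin t → Fin k) F →* GL (Fin (t + 1) → Fin k) F :=
  MonoidHom.mk' (fun B => kzU 1 B) fun B C => by rw [kzU_mul, one_mul]

theorem restHom_apply (B : GL (Fin t → Fin k) F) : restHom k t F B = kzU 1 B := rfl

theorem restHom_mem_Om (two : (2 : F) ≠ 0) {B : GL (Fin t → Fin k) F} (hB : B ∈ Om (powS P.S t)) :
    kzU (1 : GL (Fin k) F) B ∈ Om (powS P.S (t + 1)) :=
  map_Om two (restHom k t F) (fun _ h => kzU_mem_O (one_mem _) h) hB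

theorem slotU_mem_Om (two : (2 : F) ≠ 0) {g : GL (Fin k) F} (hg : g ∈ Om P.S) (i : Fin t) :
    slotU i g ∈ Om (powS P.S t) :=
  map_Om two (MonoidHom.mk' (slotU i) (slotU_mul i)) (fun _ h => slotU_mem_O P.S h i) hg

theorem kzU_one_eq_slotU (A : GL (Fin k) F) :
    kzU A (1 : GL (Fin t → Fin k) F) = slotU (0 : Fin (t + 1)) A :=
  Units.ext (by rw [kzU_coe, slotU_coe, Units.val_one, slot_zero_eq_kz])

variable {H : Subgroup (GL (Fin (t + 1) → Fin k) F)}

theorem InK.add_right {Q : Matrix (Fin k) (Fin k) F} (hQ : Q * Q = 0) {Z Z' : Matrix (Fin t → Fin k) (Fin t → Fin k) F}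
    (h : InK H Q Z) (h' : InK H Q Z') : InK H Q (Z + Z') := by
  obtain ⟨g, hg, e⟩ := h
  obtain ⟨g', hg', e'⟩ := h'
  refine ⟨g * g', mul_mem hg hg', ?_⟩
  rw [Units.val_mul, e, e']
  simp only [mul_add, add_mul, one_mul, mul_one, kz_mul, hQ, kz_zero_left, add_zero, kz_add_right]
  abel

theorem InK.add_left {Q Q' : Matrix (Fin k) (Fin k) F} {Z : Matrix (Fin t → Fin k) (Fin t → Fin k) F}
    (hZ : Z * Z = 0) (h : InK H Q Z) (h' : InK H Q' Z) : InK H (Q + Q') Z := by
  obtain ⟨g, hg, e⟩ := h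
  obtain ⟨g', hg', e'⟩ := h'
  refine ⟨g * g', mul_mem hg hg', ?_⟩
  rw [Units.val_mul, e, e']
  simp only [mul_add, add_mul, one_mul, mul_one, kz_mul, hZ, kz_zero_right, add_zero, kz_add_left]
  abel

theorem InK.neg {Q : Matrix (Fin k) (Fin k) F} {Z : Matrix (Fin t → Fin k) (Fin t → Fin k) F}
    (hQZ : kz (Q * Q) (Z * Z) = 0) (h : InK H Q Z) : InK H Q (-Z) := by
  obtain ⟨g, hg, e⟩ := h
  refine ⟨g⁻¹, inv_mem hg, left_inv_eq_right_inv (Units.inv_mul g) ?_⟩
  rw [e]
  simp only [mul_add, add_mul, one_mul, mul_one, kz_neg_right, mul_neg, kz_mul, hQZ, neg_zero, add_zero]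
  abel

theorem InC.zero : InC P H (0 : Matrix (Fin t → Fin k) (Fin t → Fin k) F) :=
  ⟨1, one_mem H, by rw [kz_zero_right, add_zero, Units.val_one]⟩

theorem InC.add {Z Z' : Matrix (Fin t → Fin k) (Fin t → Fin k) F} (h : InC P H Z) (h' : InC P H Z') :
    InC P H (Z + Z') := InK.add_right E_sq h h'

theorem InC.neg {Z : Matrix (Fin t → Fin k) (Fin t → Fin k) F} (h : InC P H Z) : InC P H (-Z) :=
  InK.neg (by rw [E_sq, kz_zero_left]) h

variable (P H)

/-- The elements of the centre, as tuples. -/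
def centreTuples : AddSubgroup (Unit → Matrix (Fin t → Fin k) (Fin t → Fin k) F) where
  carrier := {X | InC P H (X ())}
  zero_mem' := InC.zero
  add_mem' := InC.add
  neg_mem' := InC.neg

/-- The maps all whose multiples give centre elements. -/
def CY : Submodule F (Matrix (Fin t → Fin k) (Fin t → Fin k) F) where
  carrier := {Z | ∀ c : F, InC P H (c • Z)}
  zero_mem' c := by rw [smul_zero]; exact InC.zero
  add_mem' {Y Y'} h h' c := by rw [smul_add]; exact (h c).add (h' c)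
  smul_mem' a Y h c := by rw [smul_smul]; exact h (c * a)

variable {P H}

theorem CY.inC {Z : Matrix (Fin t → Fin k) (Fin t → Fin k) F} (h : Z ∈ CY P H) : InC P H Z := by
  simpa using h 1

variable [Fintype F]

theorem kzU_mem_H (two : (2 : F) ≠ 0) (hM : ContainsW P.S H) {A : GL (Fin k) F} (hA : A ∈ Om P.S)
    {B : GL (Fin t → Fin k) F} (hB : B ∈ Om (powS P.S t)) (hBW : B ∈ Geo.tensorWreathStandard k t F) :
    kzU A B ∈ H := by
  refine hM _ (kzU_mem A hBW) ?_
  have e : kzU A B = kzU A 1 * kzU 1 B := by rw [kzU_mul, mul_one, one_mul]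
  rw [e]
  exact mul_mem (by rw [kzU_one_eq_slotU]; exact slotU_mem_Om two hA 0) (restHom_mem_Om two hB)

theorem InK.conj (two : (2 : F) ≠ 0) (hM : ContainsW P.S H) {A : GL (Fin k) F} (hA : A ∈ Om P.S)
    {B : GL (Fin t → Fin k) F} (hB : B ∈ Om (powS P.S t)) (hBW : B ∈ Geo.tensorWreathStandard k t F)
    {Q : Matrix (Fin k) (Fin k) F} {Z : Matrix (Fin t → Fin k) (Fin t → Fin k) F} (h : InK H Q Z) :
    InK H ((A : Matrix (Fin k) (Fin k) F) * Q * ((A⁻¹ : GL (Fin k) F) : Matrix (Fin k) (Fin k) F))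
      (conjHom B Z) := by
  obtain ⟨g, hg, e⟩ := h
  have hx := kzU_mem_H two hM hA hB hBW
  refine ⟨kzU A B * g * (kzU A B)⁻¹, mul_mem (mul_mem hx hg) (inv_mem hx), ?_⟩
  rw [Units.val_mul, Units.val_mul, e, conj_one_add]
  congr 1
  show kz _ _ * kz Q Z * kz _ _ = _
  rw [kz_mul, kz_mul, conjHom_apply]

theorem InC.conj (two : (2 : F) ≠ 0) (hM : ContainsW P.S H) {B : GL (Fin t → Fin k) F} (hB : B ∈ Om (powS P.S t))
    (hBW : B ∈ Geo.tensorWreathStandard k t F) {Z : Matrix (Fin t → Fin k) (Fin t → Fin k) F}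
    (h : InC P H Z) : InC P H (conjHom B Z) := by
  have := InK.conj two hM (one_mem _) hB hBW h
  rwa [Units.val_one, one_mul, inv_one, Units.val_one, mul_one] at this

theorem InC.skew (two : (2 : F) ≠ 0) (hH : H ≤ Om (powS P.S (t + 1)))
    {Z : Matrix (Fin t → Fin k) (Fin t → Fin k) F} (h : InC P H Z) : adj (powS P.S t) Z = -Z := by
  obtain ⟨g, hg, e⟩ := h
  have h1 := (mem_O_iff _).mp (Om_le_O _ two (hH hg))
  rw [e, adj_add, adj_one, adj_kz, adj_E] at h1
  simp only [add_mul, mul_add, one_mul, mul_one, kz_mul, E_sq, kz_zero_left, add_zero] at h1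
  rw [add_assoc, add_eq_left, ← kz_add_right] at h1
  have h2 := congrArg (fun X => zblk X P.i0 P.i1) h1
  simp only [zblk_kz, E_apply, and_self, if_true, one_smul] at h2
  rw [show zblk (0 : Matrix (Fin (t + 1) → Fin k) (Fin (t + 1) → Fin k) F) P.i0 P.i1 = 0 from rfl] at h2
  exact eq_neg_of_add_eq_zero_left h2

theorem CY.conj (two : (2 : F) ≠ 0) (hM : ContainsW P.S H) {B : GL (Fin t → Fin k) F} (hB : B ∈ Om (powS P.S t))
    (hBW : B ∈ Geo.tensorWreathStandard k t F) {Z : Matrix (Fin t → Fin k) (Fin t → Fin k) F}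
    (h : Z ∈ CY P H) : conjHom B Z ∈ CY P H := fun c => by
  rw [← map_smul]; exact (h c).conj two hM hB hBW

end Cfsg.Agent.WreathO
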