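import Cfsg.Agent.WreathO.SlotSpan

/-!
One pure element of the centre of the radical of a line of slots gives all skew maps (helper42).
-/

set_option autoImplicit false
set_option linter.unusedSectionVars false
set_option linter.unusedSimpArgs false

namespace Cfsg.Agent.WreathO

open Matrix Cfsg.Agent.MaxSub Cfsg.Agent.MaxSub.Asch Cfsg.Agent.FG75.SpinTensor Cfsg.Agent.WreathMax

variable {F : Type*} [Field F] [Fintype F] {k t : ℕ} {P : Std k F}
variable {H : Subgroup (GL (Fin (t + 1) → Fin k) F)}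

theorem CY.skew (two : (2 : F) ≠ 0) (hH : H ≤ Om (powS P.S (t + 1)))
    {Z : Matrix (Fin t → Fin k) (Fin t → Fin k) F} (h : Z ∈ CY P H) : adj (powS P.S t) Z = -Z :=
  (CY.inC h).skew two hH

/-- A square zero member gives maps of the whole space of traceless symmetric maps in front. -/
theorem CY.inK_sym (hP : P.Good) (hM : ContainsW P.S H) {Z : Matrix (Fin t → Fin k) (Fin t → Fin k) F}
    (h : Z ∈ CY P H) (hZ : Z * Z = 0) {a : Fin k} (ha0 : a ≠ P.i0) (ha1 : a ≠ P.i1) (c : F) :
    InK H (sym P.S P.eo (Pi.single a 1)) (c • Z) := by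
  let R : Submodule F (Matrix (Fin k) (Fin k) F) :=
    { carrier := {Q | ∀ c : F, InK H Q (c • Z)}
      zero_mem' := fun c => ⟨1, one_mem H, by rw [kz_zero_left, add_zero, Units.val_one]⟩
      add_mem' := fun {Q Q'} hQ hQ' c => InK.add_left (by rw [smul_mul_assoc, mul_smul_comm, hZ, smul_zero,
        smul_zero]) (hQ c) (hQ' c)
      smul_mem' := fun r Q hQ c => by
        obtain ⟨g, hg, e⟩ := hQ (r * c)
        exact ⟨g, hg, by rw [e, kz_smul_left, kz_smul_right, kz_smul_right, smul_smul]⟩ }
  have hR : OmStable P R := fun g hg Q hQ c => by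
    have h1 := InK.conj hP.two hM hg (one_mem _) (one_mem _) (hQ c)
    rwa [show conjHom (1 : GL (Fin t → Fin k) F) (c • Z) = c • Z by simp [conjHom_apply]] at h1
  exact (stable_E hP (R := R) hR (fun c => h c) ha0 ha1).1 c

/-- The bracket of two square zero members. -/
theorem CY.bracket_sq (hP : P.Good) (hM : ContainsW P.S H) {Z Z' : Matrix (Fin t → Fin k) (Fin t → Fin k) F}
    (h : Z ∈ CY P H) (h' : Z' ∈ CY P H) (hZ : Z * Z = 0) (hZ' : Z' * Z' = 0) :
    Z * Z' - Z' * Z ∈ CY P H := by
  intro c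
  obtain ⟨a0, a1⟩ := P.i2_ne
  set u : Fin k → F := Pi.single P.i2 1 with hu_def
  have hu : P.IsMid u := Std.isMid_single a0 a1
  have hq : sf P.S u u ≠ 0 := by rw [hu_def, Std.sf_single_mid a0 a1]; exact P.w_ne _
  set q := sf P.S u u with hq_def
  obtain ⟨g, hg, hgv⟩ := CY.inK_sym hP hM h hZ a0 a1 (c / q)
  obtain ⟨g', hg', hgv'⟩ := CY.inK_sym hP hM h' hZ' a0 a1 1
  rw [one_smul, ← hu_def] at hgv'
  rw [← hu_def] at hgv
  refine ⟨g * g' * (g' * g)⁻¹, mul_mem (mul_mem hg hg') (inv_mem (mul_mem hg' hg)), ?_⟩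
  set S := sym P.S P.eo u with hS
  set A := kz S ((c / q) • Z) with hA
  set B := kz S Z' with hB
  set C := kz P.E (c • (Z * Z' - Z' * Z)) with hC
  have hES : P.E * S = 0 := by
    simp [Std.E, hS, sym, mul_add, rk_mul, P.eo_iso, hu.eo]
  have hSS : S * S = q • P.E := by
    simp [Std.E, hS, sym, mul_add, add_mul, rk_mul, P.eo_iso, hu.eo, hu.eo', ← hq_def]
  have hC1 : C * A = 0 := by rw [hC, hA, kz_mul, hES, kz_zero_left]
  have hC2 : C * B = 0 := by rw [hC, hB, kz_mul, hES, kz_zero_left]
  have hAB : C = A * B - B * A := by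
    rw [hC, hA, hB, kz_mul, kz_mul, hSS, smul_mul_assoc, mul_smul_comm, kz_smul_left, kz_smul_left,
      kz_smul_right, kz_smul_right, kz_smul_right, smul_smul, smul_smul, sub_eq_add_neg, kz_add_right,
      kz_neg_right, smul_add, smul_neg, mul_div_cancel₀ _ hq, sub_eq_add_neg]
  have e1 : (1 + C) * ((1 + B) * (1 + A)) = (1 + A) * (1 + B) := by
    rw [← mul_assoc, add_mul (1 : Matrix (Fin (t + 1) → Fin k) (Fin (t + 1) → Fin k) F) C, one_mul,
      mul_add C, mul_one, hC2, add_zero, add_mul, mul_add C, mul_one, hC1, add_zero, hAB]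
    noncomm_ring
  rw [Units.val_mul]
  calc ((g * g' : GL _ F) : Matrix _ _ F) * ((g' * g)⁻¹ : GL _ F).val
      = (1 + C) * ((g' * g : GL _ F) : Matrix _ _ F) * ((g' * g)⁻¹ : GL _ F).val := by
        rw [Units.val_mul g, Units.val_mul g', hgv, hgv', e1]
    _ = 1 + C := by rw [mul_assoc, Units.mul_inv, mul_one]

variable (P H) in
/-- The span of the square zero members. -/
def NZ : Submodule F (Matrix (Fin t → Fin k) (Fin t → Fin k) F) :=
  Submodule.span F {Z | Z ∈ CY P H ∧ Z * Z = 0}

theorem NZ.le_CY : NZ P H ≤ CY P H := Submodule.span_le.mpr fun _ h => h.1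

theorem NZ.conj (two : (2 : F) ≠ 0) (hM : ContainsW P.S H) {B : GL (Fin t → Fin k) F} (hB : B ∈ Om (powS P.S t))
    (hBW : B ∈ Geo.tensorWreathStandard k t F) {Z : Matrix (Fin t → Fin k) (Fin t → Fin k) F}
    (h : Z ∈ NZ P H) : conjHom B Z ∈ NZ P H := by
  induction h using Submodule.span_induction with
  | mem Z hZ =>
    exact Submodule.subset_span ⟨CY.conj two hM hB hBW hZ.1, by rw [← map_mul, hZ.2, map_zero]⟩
  | zero => rw [map_zero]; exact zero_mem _
  | add Y Y' _ _ h h' => rw [map_add]; exact add_mem h h'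
  | smul c Y _ h => rw [map_smul]; exact Submodule.smul_mem _ c h

theorem NZ.bracket (hP : P.Good) (hM : ContainsW P.S H) {Z Z' : Matrix (Fin t → Fin k) (Fin t → Fin k) F}
    (h : Z ∈ NZ P H) (h' : Z' ∈ NZ P H) : Z * Z' - Z' * Z ∈ CY P H := by
  induction h using Submodule.span_induction with
  | mem Z hZ =>
    induction h' using Submodule.span_induction with
    | mem Z' hZ' => exact CY.bracket_sq hP hM hZ.1 hZ'.1 hZ.2 hZ'.2
    | zero => simp
    | add Y Y' _ _ h1 h2 =>
      have := add_mem h1 h2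
      convert this using 1
      noncomm_ring
    | smul c Y _ h1 =>
      rw [mul_smul_comm, smul_mul_assoc, ← smul_sub]
      exact Submodule.smul_mem _ c h1
  | zero => simp
  | add Y Y' _ _ h1 h2 =>
    have := add_mem h1 h2
    convert this using 1
    noncomm_ring
  | smul c Y _ h1 =>
    rw [mul_smul_comm, smul_mul_assoc, ← smul_sub]
    exact Submodule.smul_mem _ c h1

variable (P H) in
/-- The maps whose skew part is a member. -/
def WS : Submodule F (Matrix (Fin t → Fin k) (Fin t → Fin k) F) where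
  carrier := {Y | Y - adj (powS P.S t) Y ∈ CY P H}
  zero_mem' := by
    show _ - _ ∈ CY P H
    rw [adj_zero, sub_zero]; exact zero_mem _
  add_mem' {Y Y'} h h' := by
    show _ - _ ∈ CY P H
    have h1 : Y - adj (powS P.S t) Y ∈ CY P H := h
    have h2 : Y' - adj (powS P.S t) Y' ∈ CY P H := h'
    have := add_mem h1 h2
    convert this using 1
    rw [adj_add]; abel
  smul_mem' c Y h := by
    show _ - _ ∈ CY P H
    rw [adj_smul, ← smul_sub]; exact Submodule.smul_mem _ c h

theorem WS.mem_CY (two : (2 : F) ≠ 0) {Y : Matrix (Fin t → Fin k) (Fin t → Fin k) F} (h : Y ∈ WS P H)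
    (hY : adj (powS P.S t) Y = -Y) : Y ∈ CY P H := by
  have h1 : Y - adj (powS P.S t) Y ∈ CY P H := h
  rw [hY, sub_neg_eq_add, ← two_smul F] at h1
  exact ((CY P H).smul_mem_iff two).mp h1

/-- The maps of one slot keeping a tensor in a space. -/
def slotPre (N : Submodule F (Matrix (Fin t → Fin k) (Fin t → Fin k) F))
    (U : Fin t → Matrix (Fin k) (Fin k) F) (l : Fin t) : Submodule F (Matrix (Fin k) (Fin k) F) where
  carrier := {B | tens (Function.update U l B) ∈ N}
  zero_mem' := by
    show _ ∈ N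
    rw [tens_eq_zero (l := l) (Function.update_self _ _ _)]; exact zero_mem _
  add_mem' {B B'} h h' := by
    show _ ∈ N
    rw [tens_update_add]; exact add_mem h h'
  smul_mem' c B h := by
    show _ ∈ N
    have e := slot_mul_tens l (c • 1) (Function.update U l B)
    rw [slot_smul_one, Matrix.smul_mul, one_mul, Function.update_idem, Function.update_self,
      Matrix.smul_mul, one_mul] at e
    rw [← e]
    exact Submodule.smul_mem _ c h

/-- Spaces of maps allowed in each slot, from spans. -/
theorem tens_mem_of_slots (N : Submodule F (Matrix (Fin t → Fin k) (Fin t → Fin k) F))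
    (A B : Fin t → Matrix (Fin k) (Fin k) F → Prop) (h : ∀ U, (∀ l, A l (U l)) → tens U ∈ N)
    (hAB : ∀ (U : Fin t → Matrix (Fin k) (Fin k) F) (l : Fin t),
      (∀ X, A l X → tens (Function.update U l X) ∈ N) → ∀ X, B l X → tens (Function.update U l X) ∈ N)
    (U : Fin t → Matrix (Fin k) (Fin k) F) (hU : ∀ l, B l (U l)) : tens U ∈ N := by
  classical
  have key : ∀ S : Finset (Fin t), ∀ U, (∀ l ∈ S, B l (U l)) → (∀ l, l ∉ S → A l (U l)) → tens U ∈ N := by
    intro S
    induction S using Finset.induction with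
    | empty => exact fun U _ h2 => h U fun l => h2 l (Finset.notMem_empty l)
    | insert l S hl ih =>
      intro U h1 h2
      have := hAB U l (fun X hX => ih _ (fun j hj => by
          rw [Function.update_of_ne (show j ≠ l by rintro rfl; exact hl hj)]; exact h1 j (Finset.mem_insert_of_mem hj))
        (fun j hj => by
          rcases eq_or_ne j l with rfl | hjl
          · rw [Function.update_self]; exact hX
          · rw [Function.update_of_ne hjl]
            exact h2 j fun hm => (Finset.mem_insert.mp hm).elim hjl hj)) (U l) (h1 l (Finset.mem_insert_self _ _))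
      rwa [Function.update_eq_self] at this
  exact key Finset.univ U (fun l _ => hU l) fun l hl => absurd (Finset.mem_univ l) hl

/-- The orbit of a seed, slot by slot. -/
theorem NZ.of_gen (two : (2 : F) ≠ 0) (hM : ContainsW P.S H) {W : Fin t → Matrix (Fin k) (Fin k) F}
    (hW : tens W ∈ NZ P H) (U : Fin t → Matrix (Fin k) (Fin k) F) (hU : ∀ l, Gen P (W l) (U l)) :
    tens U ∈ NZ P H := by
  refine tens_mem_of_slots _ (fun l X => X = W l) (fun l X => Gen P (W l) X)
    (fun U h => by rwa [funext h]) (fun U l h X hX => ?_) U hU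
  refine hX (slotPre (NZ P H) U l) (fun g hg B hB => ?_) (h _ rfl)
  have h1 := NZ.conj two hM (slotU_mem_Om two hg l) (slotU_mem l g) hB
  show _ ∈ NZ P H
  rwa [conjHom_apply, slotU_inv, slotU_coe, slotU_coe, slot_mul_tens, Function.update_idem,
    Function.update_self, tens_mul_slot, Function.update_idem, Function.update_self] at h1

/-- All maps supported on a set of slots have their skew parts in the centre. -/
def Full (P : Std k F) (H : Subgroup (GL (Fin (t + 1) → Fin k) F)) (S : Set (Fin t)) : Prop :=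
  ∀ U : Fin t → Matrix (Fin k) (Fin k) F, (∀ l, l ∉ S → U l = 1) → tens U ∈ WS P H

/-- A seed gives everything on its support. -/
theorem full_of_seed (hP : P.Good) (hH : H ≤ Om (powS P.S (t + 1))) (hM : ContainsW P.S H)
    {m : Fin t → Fin k} {T : Fin t → Ty} (hm : ∀ l, m l ≠ P.i0 ∧ m l ≠ P.i1) {j : Fin t} (hj : T j = Ty.E)
    (h : tens (fun l => P.entry (m l) (T l)) ∈ CY P H) : Full P H {l | T l ≠ Ty.one} := by
  have two := hP.two
  set W : Fin t → Matrix (Fin k) (Fin k) F := fun l => P.entry (m l) (T l) with hW_def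
  have hW : tens W ∈ NZ P H := Submodule.subset_span ⟨h, by
    rw [tens_mul]; exact tens_eq_zero (l := j) (by simp [W, Std.entry, hj, E_sq])⟩
  have hprod : ∀ U, (∀ l, ∃ X Y, Gen P (W l) X ∧ Gen P (W l) Y ∧ U l = X * Y) → tens U ∈ WS P H := by
    intro U hU
    choose X Y hX hY hXY using hU
    have hx := NZ.of_gen two hM hW X hX
    have hy := NZ.of_gen two hM hW Y hY
    have h1 := NZ.bracket hP hM hx hy
    show _ - _ ∈ CY P H
    rw [show U = X * Y from funext hXY, ← tens_mul, adj_mul, CY.skew two hH (NZ.le_CY hx),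
      CY.skew two hH (NZ.le_CY hy), neg_mul_neg]
    exact h1
  intro U hU
  refine tens_mem_of_slots _ (fun l B => ∃ X Y, Gen P (W l) X ∧ Gen P (W l) Y ∧ B = X * Y)
    (fun l B => T l = Ty.one → B = 1) hprod (fun V l hl B hB => ?_) U (fun l hl => hU l (by simp [hl]))
  rcases hT : T l with _ | _ | _
  · refine hl B ⟨1, 1, ?_, ?_, by rw [hB hT, one_mul]⟩ <;>
    · simp only [W, Std.entry, hT]; exact Gen.refl _
  · have e := prd_E hP (R := slotPre (WS P H) V l) fun X Y hX hY =>
      hl (X * Y) ⟨X, Y, by simpa [W, Std.entry, hT] using hX, by simpa [W, Std.entry, hT] using hY, rfl⟩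
    exact (e ▸ Submodule.mem_top : B ∈ slotPre (WS P H) V l)
  · have e := prd_Q hP (hm l).1 (hm l).2 (R := slotPre (WS P H) V l) fun X Y hX hY =>
      hl (X * Y) ⟨X, Y, by simpa [W, Std.entry, hT] using hX, by simpa [W, Std.entry, hT] using hY, rfl⟩
    exact (e ▸ Submodule.mem_top : B ∈ slotPre (WS P H) V l)

/-- A tensor with one skew entry and symmetric others is skew. -/
theorem adj_tens_one_skew (U : Fin t → Matrix (Fin k) (Fin k) F) (i : Fin t) (hi : adj P.S (U i) = -U i)
    (ho : ∀ l, l ≠ i → adj P.S (U l) = U l) : adj (powS P.S t) (tens U) = -tens U := by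
  rw [adj_tens]
  have e : (fun l => adj P.S (U l)) = Function.update U i (-U i) := by
    funext l
    rcases eq_or_ne l i with rfl | hl
    · rw [Function.update_self, hi]
    · rw [Function.update_of_ne hl, ho l hl]
  rw [e, show -U i = ((-1 : F) • (1 : Matrix (Fin k) (Fin k) F)) * U i by simp, ← slot_mul_tens, slot_smul_one]
  simp

theorem adj_entry_sym (a : Fin k) {T : Ty} (hT : T ≠ Ty.Q) : adj P.S (P.entry a T) = P.entry a T := by
  cases T with
  | one => exact adj_one _
  | E => exact adj_E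
  | Q => exact absurd rfl hT

/-- A three-cycle of slots lies in the commutator subgroup. -/
theorem cycle_mem_Om (two : (2 : F) ≠ 0) {σ : Equiv.Perm (Fin t)} (hσ : σ * σ * σ = 1) :
    (factorPerm σ : GL (Fin t → Fin k) F) ∈ Om (powS P.S t) := by
  have h := sq_mem_Om (powS P.S t) two (factorPerm_mem_O P.S (σ * σ))
  rwa [factorPerm_mul, show σ * σ * (σ * σ) = σ * σ * σ * σ by group, hσ, one_mul] at h

/-- One more slot joins the support. -/
theorem full_insert (hP : P.Good) (hH : H ≤ Om (powS P.S (t + 1))) (hM : ContainsW P.S H) {S : Set (Fin t)}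
    {i j x : Fin t} (hi : i ∈ S) (hj : j ∈ S) (hij : i ≠ j) (hx : x ∉ S) (hS : Full P H S) :
    Full P H (insert x S) := by
  classical
  have two := hP.two
  have hxi : x ≠ i := fun e => hx (e ▸ hi)
  have hxj : x ≠ j := fun e => hx (e ▸ hj)
  obtain ⟨a0, a1⟩ := P.i2_ne
  set a := P.i2
  have hm : ∀ l : Fin t, (fun _ : Fin t => a) l ≠ P.i0 ∧ (fun _ : Fin t => a) l ≠ P.i1 := fun _ => ⟨a0, a1⟩
  have hsk : ∀ (T : Fin t → Ty) (r : Fin t), T r = Ty.Q → (∀ l, l ≠ r → T l ≠ Ty.Q) →
      adj (powS P.S t) (tens fun l => P.entry a (T l)) = -tens (fun l => P.entry a (T l)) := by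
    intro T r hr ho
    refine adj_tens_one_skew _ r ?_ (fun l hl => adj_entry_sym a (ho l hl))
    rw [hr]; exact adj_alt _ _ _
  -- a pair inside
  let T₀ : Fin t → Ty := fun l => if l = i then Ty.E else if l = j then Ty.Q else Ty.one
  have h₀ : tens (fun l => P.entry a (T₀ l)) ∈ CY P H := by
    refine WS.mem_CY two (hS _ fun l hl => ?_) (hsk T₀ j (by simp [T₀, hij.symm]) fun l hl => ?_)
    · have h1 : l ≠ i := fun e => hl (e ▸ hi)
      have h2 : l ≠ j := fun e => hl (e ▸ hj)
      simp [T₀, h1, h2, Std.entry]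
    · simp only [T₀, if_neg hl]; split_ifs <;> simp
  set σ : Equiv.Perm (Fin t) := Equiv.swap i j * Equiv.swap j x with hσ_def
  have hσi : σ i = j := by
    rw [hσ_def, Equiv.Perm.mul_apply, Equiv.swap_apply_of_ne_of_ne hij hxi.symm, Equiv.swap_apply_left]
  have hσj : σ j = x := by
    rw [hσ_def, Equiv.Perm.mul_apply, Equiv.swap_apply_left, Equiv.swap_apply_of_ne_of_ne hxi hxj]
  have hσx : σ x = i := by
    rw [hσ_def, Equiv.Perm.mul_apply, Equiv.swap_apply_right, Equiv.swap_apply_right]
  have hσ3 : σ * σ * σ = 1 := by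
    refine Equiv.ext fun l => ?_
    simp only [Equiv.Perm.mul_apply, Equiv.Perm.one_apply]
    rcases eq_or_ne l i with rfl | h1
    · rw [hσi, hσj, hσx]
    rcases eq_or_ne l j with rfl | h2
    · rw [hσj, hσx, hσi]
    rcases eq_or_ne l x with rfl | h3
    · rw [hσx, hσi, hσj]
    have hl : σ l = l := by
      rw [hσ_def, Equiv.Perm.mul_apply, Equiv.swap_apply_of_ne_of_ne h2 h3, Equiv.swap_apply_of_ne_of_ne h1 h2]
    rw [hl, hl, hl]
  let T₁ : Fin t → Ty := fun l => T₀ (σ.symm l)
  have h₁ : tens (fun l => P.entry a (T₁ l)) ∈ CY P H := by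
    have h1 := CY.conj two hM (cycle_mem_Om two hσ3) (factorPerm_mem σ) h₀
    rw [← one_mul (factorPerm σ), ← tensGL_one, conjHom_wreath_tens] at h1
    simpa [T₁] using h1
  have hsj : σ.symm j = i := by rw [← hσi, Equiv.symm_apply_apply]
  have hsx : σ.symm x = j := by rw [← hσj, Equiv.symm_apply_apply]
  have hF₁ := full_of_seed hP hH hM (m := fun _ => a) hm (j := j) (by simp [T₁, hsj, T₀]) h₁
  -- the pair of the new slot
  let H0 : Matrix (Fin k) (Fin k) F := alt P.S P.eo P.ew
  let V : Fin t → Matrix (Fin k) (Fin k) F := Function.update (Function.update 1 x P.E) j H0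
  have hV : tens V ∈ NZ P H := by
    refine Submodule.subset_span ⟨WS.mem_CY two (hF₁ V fun l hl => ?_) (adj_tens_one_skew V j ?_ fun l hl => ?_), ?_⟩
    · have hlj : l ≠ j := fun e => hl (by subst e; simp [T₁, hsj, T₀])
      have hlx : l ≠ x := fun e => hl (by subst e; simp [T₁, hsx, T₀, hij.symm])
      simp [V, hlj, hlx]
    · simp only [V, Function.update_self, H0]; exact adj_alt _ _ _
    · simp only [V, Function.update_of_ne hl]
      rcases eq_or_ne l x with rfl | hlx
      · rw [Function.update_self]; exact adj_E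
      · rw [Function.update_of_ne hlx, Pi.one_apply, adj_one]
    · rw [tens_mul]
      exact tens_eq_zero (l := x) (by simp [V, Function.update_of_ne hxj, E_sq])
  -- the old element
  let T₂ : Fin t → Ty := fun l => if l = i then Ty.Q else if l ∈ S then Ty.E else Ty.one
  have h₂ : tens (fun l => P.entry a (T₂ l)) ∈ NZ P H := by
    refine Submodule.subset_span ⟨WS.mem_CY two (hS _ fun l hl => ?_) (hsk T₂ i (by simp [T₂]) fun l hl => ?_), ?_⟩
    · have h1 : l ≠ i := fun e => hl (e ▸ hi)
      simp [T₂, h1, hl, Std.entry]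
    · simp only [T₂, if_neg hl]; split_ifs <;> simp
    · rw [tens_mul]
      exact tens_eq_zero (l := j) (by simp [T₂, hij.symm, hj, Std.entry, E_sq])
  let T₃ : Fin t → Ty := fun l => if l = i then Ty.Q else if l ∈ insert x S then Ty.E else Ty.one
  have h₃ : tens (fun l => P.entry a (T₃ l)) ∈ CY P H := by
    have h1 := NZ.bracket hP hM h₂ hV
    have eEH : P.E * H0 = -P.E := by
      simp [H0, Std.E, alt, mul_sub, rk_mul, P.eo_iso, P.eo_ew, P.ew_eo]
    have eHE : H0 * P.E = P.E := by
      simp [H0, Std.E, alt, sub_mul, rk_mul, P.eo_iso, P.eo_ew, P.ew_eo]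
    have e1 : tens (fun l => P.entry a (T₂ l)) * tens V = -tens (fun l => P.entry a (T₃ l)) := by
      rw [tens_mul, show -tens (fun l => P.entry a (T₃ l)) = slot j ((-1 : F) • 1) * tens (fun l => P.entry a (T₃ l))
        by rw [slot_smul_one]; simp, slot_mul_tens]
      congr 1
      funext l
      rcases eq_or_ne l j with rfl | hlj
      · simp [T₂, T₃, V, hij.symm, hj, Std.entry, eEH]
      · rw [Function.update_of_ne hlj]
        rcases eq_or_ne l x with rfl | hlx
        · simp [T₂, T₃, V, hxi, hx, hxj, Std.entry]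
        · simp [T₂, T₃, V, hlj, hlx]
    have e2 : tens V * tens (fun l => P.entry a (T₂ l)) = tens (fun l => P.entry a (T₃ l)) := by
      rw [tens_mul]
      congr 1
      funext l
      rcases eq_or_ne l j with rfl | hlj
      · simp [T₂, T₃, V, hij.symm, hj, Std.entry, eHE]
      · rcases eq_or_ne l x with rfl | hlx
        · simp [T₂, T₃, V, hxi, hx, hxj, Std.entry]
        · simp [T₂, T₃, V, hlj, hlx]
    rw [e1, e2, ← neg_add', ← two_smul F, ← neg_smul] at h1
    exact ((CY P H).smul_mem_iff (neg_ne_zero.mpr two)).mp h1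
  have hF₃ := full_of_seed hP hH hM (m := fun _ => a) hm (j := j) (by simp [T₃, hij.symm, hj]) h₃
  intro U hU
  refine hF₃ U fun l hl => hU l fun hm' => hl ?_
  show T₃ l ≠ Ty.one
  simp only [T₃]
  split_ifs <;> simp

/-- A pure seed gives all skew maps. -/
theorem InC.all_of_seed (hP : P.Good) (_ht : 2 ≤ t) (hH : H ≤ Om (powS P.S (t + 1))) (hM : ContainsW P.S H)
    (m : Fin t → Fin k) (T : Fin t → Ty) (hm : ∀ l, m l ≠ P.i0 ∧ m l ≠ P.i1) (hE : ∃ l, T l = Ty.E)
    (h : tens (fun l => P.entry (m l) (T l)) ∈ CY P H) :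
    ∀ Z, adj (powS P.S t) Z = -Z → Z ∈ CY P H := by
  classical
  have two := hP.two
  obtain ⟨i, hi⟩ := hE
  obtain ⟨j, hj⟩ : ∃ j, T j = Ty.Q := by
    by_contra hc
    push Not at hc
    have h1 : adj (powS P.S t) (tens fun l => P.entry (m l) (T l)) = tens fun l => P.entry (m l) (T l) := by
      rw [adj_tens]
      exact congrArg tens (funext fun l => adj_entry_sym _ (hc l))
    rw [CY.skew two hH h, neg_eq_iff_add_eq_zero, ← two_smul F] at h1
    have h2 := congrFun (congrFun ((smul_eq_zero.mp h1).resolve_left two)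
      (fun _ => P.i0)) (fun l => if T l = Ty.E then P.i1 else P.i0)
    rw [tens_apply, Matrix.zero_apply, Finset.prod_eq_zero_iff] at h2
    obtain ⟨l, -, hl⟩ := h2
    rcases hT : T l with _ | _ | _
    · rw [hT, if_neg (by simp)] at hl
      simp [Std.entry] at hl
    · simp [hT, Std.entry, E_apply] at hl
    · exact hc l hT
  have hij : i ≠ j := fun e => by rw [e, hj] at hi; cases hi
  set S₀ : Set (Fin t) := {l | T l ≠ Ty.one} with hS₀
  have hiS : i ∈ S₀ := by simp [hS₀, hi]
  have hjS : j ∈ S₀ := by simp [hS₀, hj]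
  have hgrow : ∀ A : Finset (Fin t), Full P H (S₀ ∪ ↑A) := by
    intro A
    induction A using Finset.induction with
    | empty => simpa using full_of_seed hP hH hM hm hi h
    | insert x A _ ih =>
      rw [Finset.coe_insert, Set.union_insert]
      by_cases hx : x ∈ S₀ ∪ ↑A
      · rwa [Set.insert_eq_of_mem hx]
      · exact full_insert hP hH hM (Or.inl hiS) (Or.inl hjS) hij hx ih
  have hall : ∀ Y, Y ∈ WS P H := by
    intro Y
    rw [Matrix.matrix_eq_sum_single Y]
    refine Submodule.sum_mem _ fun x _ => Submodule.sum_mem _ fun y _ => ?_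
    rw [show Matrix.single x y (Y x y) = Y x y • Matrix.single x y (1 : F) by simp [Matrix.smul_single],
      single_eq_tens]
    exact Submodule.smul_mem _ _ (hgrow Finset.univ _ fun l hl => absurd (Or.inr (Finset.mem_univ l)) hl)
  exact fun Z hZ => WS.mem_CY two (hall Z) hZ

end Cfsg.Agent.WreathO
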