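import Cfsg.Agent.WreathO.Tensor

/-!
Similitudes, the centre of the radical of a line of slots, stable families of tuples (helper1).
-/

set_option autoImplicit false
set_option linter.unusedSectionVars false

namespace Cfsg.Agent.WreathO

open Matrix Cfsg.Agent.MaxSub Cfsg.Agent.MaxSub.Asch Cfsg.Agent.FG75.SpinTensor Cfsg.Agent.WreathMax

variable {F : Type*} [Field F] {ι : Type} [Fintype ι] [DecidableEq ι]

/-- A similitude of the form. -/
def IsSim (S : Sform ι F) (g : GL ι F) : Prop :=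
  ∃ r : F, r ≠ 0 ∧ adj S (g : Matrix ι ι F) * (g : Matrix ι ι F) = r • 1

variable {S : Sform ι F}

theorem IsSim.of_mem {g : GL ι F} (h : g ∈ O S) : IsSim S g :=
  ⟨1, one_ne_zero, by rw [(mem_O_iff S).mp h, one_smul]⟩

theorem IsSim.inv_eq {g : GL ι F} (h : IsSim S g) :
    ∃ r : F, r ≠ 0 ∧ ((g⁻¹ : GL ι F) : Matrix ι ι F) = r • adj S (g : Matrix ι ι F) := by
  obtain ⟨r, hr, e⟩ := h
  refine ⟨r⁻¹, inv_ne_zero hr, ?_⟩
  have h1 := congrArg (fun X => r⁻¹ • (X * ((g⁻¹ : GL ι F) : Matrix ι ι F))) e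
  simp only [mul_assoc, Units.mul_inv, mul_one, smul_mul_assoc, one_mul, smul_smul, inv_mul_cancel₀ hr,
    one_smul] at h1
  exact h1.symm

theorem IsSim.adj_conj {g : GL ι F} (h : IsSim S g) (X : Matrix ι ι F) :
    adj S ((g : Matrix ι ι F) * X * ((g⁻¹ : GL ι F) : Matrix ι ι F)) =
      (g : Matrix ι ι F) * adj S X * ((g⁻¹ : GL ι F) : Matrix ι ι F) := by
  obtain ⟨r, -, e⟩ := h.inv_eq
  rw [e, mul_smul_comm, mul_smul_comm, adj_smul, adj_mul, adj_mul, adj_adj, mul_assoc]

theorem IsSim.conj_mem_O {g x : GL ι F} (h : IsSim S g) (hx : x ∈ O S) : g * x * g⁻¹ ∈ O S := by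
  rw [mem_O_iff, Units.val_mul, Units.val_mul, h.adj_conj]
  simp only [mul_assoc, Units.inv_mul_cancel_left]
  rw [← mul_assoc (adj S (x : Matrix ι ι F)), (mem_O_iff S).mp hx, one_mul, Units.mul_inv]

theorem IsSim.inv {g : GL ι F} (h : IsSim S g) : IsSim S g⁻¹ := by
  obtain ⟨r, hr, e⟩ := h.inv_eq
  refine ⟨r, hr, ?_⟩
  nth_rewrite 2 [e]
  rw [mul_smul_comm, ← adj_mul]
  simp [adj_one]

theorem IsSim.conj_mem_Om (two : (2 : F) ≠ 0) {g x : GL ι F} (h : IsSim S g) (hx : x ∈ Om S) :
    g * x * g⁻¹ ∈ Om S := by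
  obtain ⟨y, hy, rfl⟩ := hx
  let φ : Cfsg.isometryGroup F ⇑(qf S) →* Cfsg.isometryGroup F ⇑(qf S) :=
    MonoidHom.mk' (fun z => ⟨g * z.1 * g⁻¹,
      (mem_isometryGroup_iff S two).mpr (h.conj_mem_O ((mem_isometryGroup_iff S two).mp z.2))⟩)
      fun a b => Subtype.ext (by simp [mul_assoc])
  refine ⟨φ y, ?_, rfl⟩
  have hle : (commutator (Cfsg.isometryGroup F ⇑(qf S))).map φ ≤ commutator _ := by
    rw [_root_.commutator_def, Subgroup.map_commutator]
    exact Subgroup.commutator_mono le_top le_top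
  exact hle ⟨y, hy, rfl⟩

variable {k t : ℕ}

/-- `1 + Q ⊗ Z` lies in `H`. -/
def InK (H : Subgroup (GL (Fin (t + 1) → Fin k) F)) (Q : Matrix (Fin k) (Fin k) F)
    (Z : Matrix (Fin t → Fin k) (Fin t → Fin k) F) : Prop := ∃ g ∈ H, g.val = 1 + kz Q Z

/-- The centre of the radical of the first line of the first slot. -/
def InC (P : Std k F) (H : Subgroup (GL (Fin (t + 1) → Fin k) F))
    (Z : Matrix (Fin t → Fin k) (Fin t → Fin k) F) : Prop := InK H P.E Z

/-- The reflection of a middle coordinate. -/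
def Std.flip (_P : Std k F) (a : Fin k) : GL (Fin k) F where
  val := Matrix.diagonal fun b => if b = a then -1 else 1
  inv := Matrix.diagonal fun b => if b = a then -1 else 1
  val_inv := by
    rw [Matrix.diagonal_mul_diagonal, ← Matrix.diagonal_one]
    congr 1; funext b; split_ifs <;> simp
  inv_val := by
    rw [Matrix.diagonal_mul_diagonal, ← Matrix.diagonal_one]
    congr 1; funext b; split_ifs <;> simp

/-- Families of tuples of maps of the slots, stable under the groups of the slots; in dimension four also under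
the reflections of one slot, up to signs of the coordinates. -/
structure SlotStable (P : Std k F) {κ : Type} (R : AddSubgroup (κ → Matrix (Fin t → Fin k) (Fin t → Fin k) F))
    (ε : Fin k → κ → F) : Prop where
  conj : ∀ X ∈ R, ∀ (l : Fin t) (g : GL (Fin k) F), g ∈ Om P.S → (fun c => conjHom (slotU l g) (X c)) ∈ R
  refl : k = 4 → 2 ≤ t → ∀ X ∈ R, ∀ (l : Fin t) (a : Fin k), a ≠ P.i0 → a ≠ P.i1 →
    (fun c => ε a c • conjHom (slotU l (P.flip a)) (X c)) ∈ R

/-- The type of the entry of a slot in a pure family. -/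
inductive Ty | one | E | Q
  deriving DecidableEq

/-- The entry of a slot: one, the square of a root matrix, or a root matrix of a middle coordinate. -/
def Std.entry (P : Std k F) (a : Fin k) : Ty → Matrix (Fin k) (Fin k) F
  | .one => 1
  | .E => P.E
  | .Q => alt P.S P.eo (Pi.single a 1)

end Cfsg.Agent.WreathO
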