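import Cfsg.Agent.WreathO.Radical
import Cfsg.Agent.WreathO.Refl

/-!
An element fixing a line of the first slot is a centre-like element times a similitude of the slots (helper1).
-/

set_option autoImplicit false
set_option linter.unusedSectionVars false

namespace Cfsg.Agent.WreathO

open Matrix Cfsg.Agent.MaxSub Cfsg.Agent.MaxSub.Asch Cfsg.Agent.FG75.SpinTensor Cfsg.Agent.WreathMax

variable {F : Type*} [Field F] [Fintype F] {k t : ℕ} {P : Std k F}

/-- The matrix respects the two lines and the middle. -/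
def Blk (P : Std k F) (T : Matrix (Fin k) (Fin k) F) : Prop :=
  ∀ x y, x ≠ y → (x = P.i0 ∨ x = P.i1 ∨ y = P.i0 ∨ y = P.i1) → T x y = 0

theorem Blk.mul {T T' : Matrix (Fin k) (Fin k) F} (h : Blk P T) (h' : Blk P T') : Blk P (T * T') := by
  intro x y hxy hm
  rw [Matrix.mul_apply]
  refine Finset.sum_eq_zero fun z _ => ?_
  by_cases hxz : x = z
  · subst hxz; rw [h' x y hxy hm, mul_zero]
  by_cases hzy : z = y
  · subst hzy; rw [h x z hxy hm, zero_mul]
  rcases hm with hm | hm | hm | hm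
  · rw [h x z hxz (Or.inl hm), zero_mul]
  · rw [h x z hxz (Or.inr (Or.inl hm)), zero_mul]
  · rw [h' z y hzy (Or.inr (Or.inr (Or.inl hm))), mul_zero]
  · rw [h' z y hzy (Or.inr (Or.inr (Or.inr hm))), mul_zero]

theorem Blk.refl {x : Fin k → F} (hx : P.IsMid x) (h : sf P.S x x ≠ 0) : Blk P (WreathO.refl P.S x).val := by
  intro a b hab hm
  rw [refl_coe h, Matrix.sub_apply, Matrix.one_apply_ne hab, Matrix.smul_apply, rk, vecMulVec_apply, cv]
  rcases hm with rfl | rfl | rfl | rfl
  · simp [hx.1]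
  · simp [hx.2]
  · simp [Std.J_i0, hx.2]
  · simp [Std.J_i1, hx.1]

theorem Blk.diagonal (v : Fin k → F) : Blk P (Matrix.diagonal v) := fun _ _ hab _ => Matrix.diagonal_apply_ne _ hab

theorem refl_fix {x z : Fin k → F} (h : sf P.S x x ≠ 0) (hz : sf P.S z x = 0) :
    (refl P.S x).val *ᵥ z = z := by
  rw [refl_mulVec h, hz, mul_zero, zero_div, zero_smul, sub_zero]

/-- An element of the first slot which separates a middle coordinate from the line. -/
theorem exists_sep (hP : P.Good) {c : Fin k} (hc : c ∈ P.mids) :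
    ∃ T ∈ Om P.S, Blk P T.val ∧ Blk P (T⁻¹).val ∧ ∃ a b : F, a * b ≠ 1 ∧ T.val P.i0 P.i0 = a ∧
      ∀ y, (T⁻¹).val y c = if y = c then b else 0 := by
  classical
  obtain ⟨hc0, hc1⟩ := Std.mem_mids.mp hc
  by_cases hb : ∃ b : F, b ≠ 0 ∧ b * b ≠ 1
  · obtain ⟨b, hb0, hb1⟩ := hb
    let v : Fin k → F := fun x => if x = P.i0 then b else if x = P.i1 then b⁻¹ else 1
    have hv : ∀ x, v x * (fun x => if x = P.i0 then b⁻¹ else if x = P.i1 then b else 1) x = 1 := fun x => by
      simp only [v]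
      split_ifs <;> simp [hb0]
    let D : GL (Fin k) F :=
      ⟨Matrix.diagonal v, Matrix.diagonal fun x => if x = P.i0 then b⁻¹ else if x = P.i1 then b else 1,
        by rw [Matrix.diagonal_mul_diagonal, ← Matrix.diagonal_one]; simp only [hv],
        by rw [Matrix.diagonal_mul_diagonal, ← Matrix.diagonal_one]
           simp only [fun x => (mul_comm _ (v x)).trans (hv x)]⟩
    have hD : D.val = Matrix.diagonal v := rfl
    have hDi : (D⁻¹).val = Matrix.diagonal fun x => if x = P.i0 then b⁻¹ else if x = P.i1 then b else 1 := rfl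
    have hO : D ∈ O P.S := by
      rw [mem_O_iff, hD]
      have hadj : adj P.S (Matrix.diagonal v) = Matrix.diagonal fun x => v (P.S.J x) := by
        ext p q
        by_cases hpq : p = q
        · subst hpq; simp [adj, div_self (P.S.w_ne p)]
        · simp [adj, hpq, P.S.J.injective.ne (Ne.symm hpq)]
      rw [hadj, Matrix.diagonal_mul_diagonal, ← Matrix.diagonal_one]
      congr 1
      funext x
      by_cases h0 : x = P.i0
      · subst h0; simp [v, Std.J_i0, P.i0_ne_i1.symm, hb0]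
      by_cases h1 : x = P.i1
      · subst h1; simp [v, Std.J_i1, P.i0_ne_i1.symm, hb0]
      rw [Std.J_mid h0 h1]
      simp [v, h0, h1]
    refine ⟨D * D, sq_mem_Om _ hP.two hO, ?_, ?_, b * b, 1, by rwa [mul_one], ?_, fun y => ?_⟩
    · rw [Units.val_mul, hD]; exact (Blk.diagonal v).mul (Blk.diagonal v)
    · rw [_root_.mul_inv_rev, Units.val_mul, hDi]; exact (Blk.diagonal _).mul (Blk.diagonal _)
    · rw [Units.val_mul, hD, Matrix.diagonal_mul_diagonal, Matrix.diagonal_apply_eq]; simp [v]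
    · rw [_root_.mul_inv_rev, Units.val_mul, hDi, Matrix.diagonal_mul_diagonal, Matrix.diagonal_apply]
      by_cases hy : y = c
      · subst hy; simp [hc0, hc1]
      · simp [hy]
  · push Not at hb
    -- the field with three elements
    have h3 : ∀ a : F, a = 0 ∨ a = 1 ∨ a = -1 := fun a => by
      rcases eq_or_ne a 0 with h | h
      · exact Or.inl h
      rcases mul_self_eq_one_iff.mp (hb a h) with h | h
      · exact Or.inr (Or.inl h)
      · exact Or.inr (Or.inr h)
    have hcard : Nat.card F = 3 := by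
      classical
      have e : (Finset.univ : Finset F) = {0, 1, -1} := by
        ext a; simpa using h3 a
      have h1 : (1 : F) ≠ -1 := fun h => hP.two (by linear_combination h)
      rw [Nat.card_eq_fintype_card, ← Finset.card_univ, e, Finset.card_insert_of_notMem (by simp [eq_comm]),
        Finset.card_pair h1]
    have hk4 : 4 ≤ k := by
      have := P.hk
      rcases Nat.lt_or_ge k 4 with h | h
      · exact absurd ⟨hcard, by omega⟩ hP.hex
      · exact h
    have hpm : ∀ x, P.w x = 1 ∨ P.w x = -1 := fun x => (h3 _).resolve_left (P.w_ne x)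
    obtain ⟨y, hym, hyc, hyy⟩ : ∃ y, P.IsMid y ∧ sf P.S (Pi.single c 1) y = 0 ∧ sf P.S y y = P.w c := by
      by_cases hsame : ∃ d ∈ P.mids, d ≠ c ∧ P.w d = P.w c
      · obtain ⟨d, hd, hdc, hw⟩ := hsame
        obtain ⟨hd0, hd1⟩ := Std.mem_mids.mp hd
        refine ⟨Pi.single d 1, Std.isMid_single hd0 hd1, ?_, by rw [Std.sf_single_mid hd0 hd1, hw]⟩
        rw [sf_single, Std.J_mid hc0 hc1, Pi.single_eq_of_ne (Ne.symm hdc), mul_zero]
      push Not at hsame
      have hneg : ∀ d ∈ P.mids, d ≠ c → P.w d = -P.w c := fun d hd hdc => by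
        rcases hpm d with h | h <;> rcases hpm c with h' | h' <;> have := hsame d hd hdc <;> simp_all
      have hcard' : P.mids.card = k - 2 := by
        have e : P.mids = ({P.i0, P.i1} : Finset (Fin k))ᶜ := by ext x; simp [Std.mem_mids]
        rw [e, Finset.card_compl, Finset.card_pair P.i0_ne_i1, Fintype.card_fin]
      obtain ⟨d, hd⟩ : (P.mids.erase c).Nonempty := by
        rw [← Finset.card_pos, Finset.card_erase_of_mem hc, hcard']; omega
      rw [Finset.mem_erase] at hd
      obtain ⟨hd0, hd1⟩ := Std.mem_mids.mp hd.2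
      have hwd := hneg d hd.2 hd.1
      by_cases hk5 : k = 4
      · exfalso
        have hz := hP.minus hk5 _ ((Std.isMid_single hc0 hc1).add (Std.isMid_single hd0 hd1)) (by
          simp only [sf_add_left, sf_add_right, Std.sf_single_mid hc0 hc1, Std.sf_single_mid hd0 hd1, sf_single,
            Std.J_mid hc0 hc1, Std.J_mid hd0 hd1, Pi.single_eq_of_ne hd.1, Pi.single_eq_of_ne (Ne.symm hd.1), hwd]
          ring)
        have := congrFun hz c
        simp [Ne.symm hd.1] at this
      obtain ⟨d', hd'⟩ : ((P.mids.erase c).erase d).Nonempty := by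
        rw [← Finset.card_pos, Finset.card_erase_of_mem (Finset.mem_erase.mpr hd), Finset.card_erase_of_mem hc, hcard']
        omega
      rw [Finset.mem_erase, Finset.mem_erase] at hd'
      obtain ⟨hd'0, hd'1⟩ := Std.mem_mids.mp hd'.2.2
      refine ⟨_, (Std.isMid_single hd0 hd1).add (Std.isMid_single hd'0 hd'1), ?_, ?_⟩
      · simp [sf_add_right, sf_single, Std.J_mid hc0 hc1, Pi.single_eq_of_ne (Ne.symm hd.1),
          Pi.single_eq_of_ne (Ne.symm hd'.2.1)]
      · simp only [sf_add_left, sf_add_right, Std.sf_single_mid hd0 hd1, Std.sf_single_mid hd'0 hd'1, sf_single,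
          Std.J_mid hd0 hd1, Std.J_mid hd'0 hd'1, Pi.single_eq_of_ne hd'.1, Pi.single_eq_of_ne (Ne.symm hd'.1), hwd,
          hneg d' hd'.2.2 hd'.2.1]
        have h30 : (3 : F) = 0 := by
          rcases h3 3 with h | h | h
          · exact h
          · exact absurd (show (2 : F) = 0 by linear_combination h) hP.two
          · exact absurd (mul_eq_zero.mp (show (2 : F) * 2 = 0 by linear_combination h)) (by simp [hP.two])
        linear_combination -(P.w c) * h30
    set ec : Fin k → F := Pi.single c 1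
    have hecm : P.IsMid ec := Std.isMid_single hc0 hc1
    have hcc : sf P.S ec ec = P.w c := Std.sf_single_mid hc0 hc1
    have hcne : sf P.S ec ec ≠ 0 := by rw [hcc]; exact P.w_ne c
    have hyne : sf P.S y y ≠ 0 := by rw [hyy]; exact P.w_ne c
    set T := refl P.S ec * refl P.S y with hT
    have hTinv : T⁻¹ = refl P.S y * refl P.S ec := by rw [hT, _root_.mul_inv_rev, refl_inv, refl_inv]
    have hTe : T.val *ᵥ P.eo = P.eo := by
      rw [hT, Units.val_mul, ← mulVec_mulVec, refl_fix hyne hym.eo', refl_fix hcne hecm.eo']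
    refine ⟨T, refl_mul_refl_mem_Om hP.two hcne (hcc.trans hyy.symm), ?_, ?_, 1, -1, ?_, ?_, fun x => ?_⟩
    · rw [hT, Units.val_mul]; exact (Blk.refl hecm hcne).mul (Blk.refl hym hyne)
    · rw [hTinv, Units.val_mul]; exact (Blk.refl hym hyne).mul (Blk.refl hecm hcne)
    · intro h; exact hP.two (by linear_combination -h)
    · have := congrFun hTe P.i0
      simpa [Std.eo, Matrix.mulVec_single_one] using this
    · have e : (T⁻¹).val *ᵥ ec = -ec := by
        rw [hTinv, Units.val_mul, ← mulVec_mulVec, refl_mulVec hcne,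
          show 2 * sf P.S ec ec / sf P.S ec ec = 2 by field_simp, two_smul, sub_add_cancel_left, mulVec_neg,
          refl_fix hyne hyc]
      have := congrFun e x
      rw [show ec = Pi.single c 1 from rfl, Matrix.mulVec_single_one] at this
      rw [show (T⁻¹).val x c = (-Pi.single c 1 : Fin k → F) x from this, Pi.neg_apply, Pi.single_apply]
      split_ifs <;> simp

variable {H : Subgroup (GL (Fin (t + 1) → Fin k) F)}

/-- The decomposition of an element which fixes the line. -/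
theorem line_decomp (hP : P.Good) (hH : H ≤ Om (powS P.S (t + 1))) (hM : ContainsW P.S H)
    (hrad : ∀ h ∈ H, ∀ N, h.val = 1 + N → Upper P N → ∀ c ∈ P.mids, ∃ r : F, zblk N P.i0 c = r • 1)
    {g : GL (Fin (t + 1) → Fin k) F} (hgO : g ∈ O (powS P.S (t + 1)))
    (hconj : ∀ w ∈ Geo.tensorWreathStandard k (t + 1) F, w ∈ Om (powS P.S (t + 1)) → g * w * g⁻¹ ∈ H)
    {r : F} (hcomm : g.val * kz P.E 1 = r • (kz P.E 1 * g.val)) :
    ∃ (u : GL (Fin (t + 1) → Fin k) F) (Z : Matrix (Fin t → Fin k) (Fin t → Fin k) F) (L : GL (Fin k) F)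
      (A : GL (Fin t → Fin k) F), u.val = 1 + kz P.E Z ∧ adj (powS P.S t) Z = -Z ∧ IsSim P.S L ∧
        IsSim (powS P.S t) A ∧ g = u * kzU L A ∧
        ∀ T ∈ Om P.S, u * kzU T (1 : GL (Fin t → Fin k) F) * u⁻¹ ∈ H := by
  classical
  have how : P.i0 ≠ P.i1 := P.i0_ne_i1
  have hone : (1 : Matrix (Fin t → Fin k) (Fin t → Fin k) F) ≠ 0 := by
    haveI : Nonempty (Fin k) := ⟨P.i0⟩
    exact one_ne_zero
  have hfix : Fixes P g.val := fixes_of_comm (fun Y hY => by
    rw [← one_mul Y, ← Units.inv_mul g, mul_assoc, hY, mul_zero]) hcomm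
  have hfix' : Fixes P (g⁻¹).val := by rw [inv_eq_adj _ hgO]; exact hfix.adj
  set A := zblk g.val P.i0 P.i0 with hA
  set A' := zblk (g⁻¹).val P.i0 P.i0 with hA'
  have hAA : A * A' = 1 := by
    have h := congrArg (fun Y => zblk Y P.i0 P.i0) (Units.mul_inv g)
    rwa [zblk_mul, Finset.sum_eq_single P.i0 (fun c _ hc => by rw [hfix'.1 c hc, mul_zero]) (by simp), zblk_one,
      if_pos rfl] at h
  have hAA' : A' * A = 1 := mul_eq_one_comm.mp hAA
  have hA0 : A ≠ 0 := fun h => by rw [h, zero_mul] at hAA; exact hone hAA.symm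
  have hArw : A = r • zblk g.val P.i1 P.i1 := by
    have e := congrArg (fun Y => zblk Y P.i0 P.i1) hcomm
    rw [show zblk (r • (kz P.E 1 * g.val)) P.i0 P.i1 = r • zblk (kz P.E 1 * g.val) P.i0 P.i1 from rfl,
      zblk_mul, zblk_mul] at e
    simp only [zblk_kz, Std.E_eq, Matrix.single_apply] at e
    rw [Finset.sum_eq_single P.i0 (fun c _ hc => by simp [Ne.symm hc]) (by simp),
      Finset.sum_eq_single P.i1 (fun c _ hc => by simp [Ne.symm hc]) (by simp)] at e
    simpa using e
  have hr : r ≠ 0 := fun h => hA0 (by rw [hArw, h, zero_smul])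
  have hgww : zblk g.val P.i1 P.i1 = r⁻¹ • A := by rw [hArw, smul_smul, inv_mul_cancel₀ hr, one_smul]
  have hA'adj : A' = r⁻¹ • adj (powS P.S t) A := by
    rw [hA', inv_eq_adj _ hgO, zblk_adj, Std.J_i0, Std.w_i0, div_one, one_smul, hgww, adj_smul]
  let Au : GL (Fin t → Fin k) F := ⟨A, A', hAA, hAA'⟩
  have hAsim : IsSim (powS P.S t) Au := ⟨r, hr, by
    have := congrArg (fun X => r • X) hAA'
    rwa [hA'adj, smul_mul_assoc, smul_smul, mul_inv_cancel₀ hr, one_smul] at this⟩
  have hadjA' : adj (powS P.S t) A' = r⁻¹ • A := by rw [hA'adj, adj_smul, adj_adj]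
  -- the middle blocks
  have hmid : ∀ c ∈ P.mids, ∀ d ∈ P.mids, ∃ α : F, zblk (g⁻¹).val c d = α • A' := by
    intro c hc d hd
    obtain ⟨hc0, hc1⟩ := Std.mem_mids.mp hc
    obtain ⟨hd0, hd1⟩ := Std.mem_mids.mp hd
    obtain ⟨B, hB, β, hBe⟩ := middle_element (P := P) hP.two hc 1
    rw [one_mul, one_smul] at hBe
    set Q : Matrix (Fin k) (Fin k) F := P.S.w c • Matrix.single P.i0 c 1 - Matrix.single c P.i1 1 +
      β • Matrix.single P.i0 P.i1 1 with hQd
    set N := g.val * kz Q 1 * (g⁻¹).val with hN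
    have hblk : ∀ a b, zblk N a b = P.S.w c • (zblk g.val a P.i0 * zblk (g⁻¹).val c b) -
        zblk g.val a c * zblk (g⁻¹).val P.i1 b + β • (zblk g.val a P.i0 * zblk (g⁻¹).val P.i1 b) := by
      intro a b
      have hQ : ∀ x y, zblk (kz Q (1 : Matrix (Fin t → Fin k) (Fin t → Fin k) F)) x y = Q x y • 1 :=
        fun x y => zblk_kz _ _ _ _
      rw [hN, mul_assoc, zblk_mul]
      simp only [zblk_mul, hQ, smul_mul_assoc, one_mul, Finset.mul_sum, mul_smul_comm]
      simp only [hQd, Matrix.add_apply, Matrix.sub_apply, Matrix.smul_apply, Matrix.single_apply, smul_eq_mul, mul_ite,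
        mul_one, mul_zero, add_smul, sub_smul, ite_smul, zero_smul, one_smul, Finset.sum_add_distrib,
        Finset.sum_sub_distrib, ite_and, Finset.sum_ite_irrel, Finset.sum_const_zero, Finset.sum_ite_eq,
        Finset.mem_univ, if_true]
    have hUp : Upper P N := by
      intro a b h1 h2
      rw [hblk]
      by_cases hb : b = P.i1
      · have ha : a = P.i1 := by by_contra ha; exact h2 ⟨hb, ha⟩
        subst ha
        rw [hfix.2 P.i0 how, hfix.2 c hc1]
        simp
      · rw [hfix'.2 b hb, mul_zero, mul_zero, smul_zero, add_zero, sub_zero]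
        by_cases ha : a = P.i0
        · rw [show b = P.i0 by by_contra hb0; exact h1 ⟨ha, hb0⟩, hfix'.1 c hc0, mul_zero, smul_zero]
        · rw [hfix.1 a ha, zero_mul, smul_zero]
    have hin : g * kzU B (1 : GL (Fin t → Fin k) F) * g⁻¹ ∈ H :=
      hconj _ (kzU_mem B (one_mem _)) (by rw [kzU_one_eq_slotU]; exact slotU_mem_Om hP.two hB 0)
    have he : (g * kzU B (1 : GL (Fin t → Fin k) F) * g⁻¹).val = 1 + N := by
      rw [Units.val_mul, Units.val_mul, kzU_coe, hBe, Units.val_one, hN,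
        show (1 : Matrix (Fin k) (Fin k) F) + P.S.w c • Matrix.single P.i0 c 1 - Matrix.single c P.i1 1 +
          β • Matrix.single P.i0 P.i1 1 = 1 + Q by rw [hQd]; abel,
        kz_add_left, kz_one, mul_add, add_mul, mul_one, Units.mul_inv]
    obtain ⟨α, hα⟩ := hrad _ hin N he hUp d hd
    rw [hblk, hfix'.2 d hd1, mul_zero, mul_zero, smul_zero, add_zero, sub_zero, ← hA] at hα
    refine ⟨(P.S.w c)⁻¹ * α, ?_⟩
    have h2 := congrArg (fun X => (P.S.w c)⁻¹ • (A' * X)) hα
    simpa [← mul_assoc, hAA', smul_smul, inv_mul_cancel₀ (P.S.w_ne c)] using h2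
  choose α hα using hmid
  let al : Fin k → Fin k → F := fun c d => if h : c ∈ P.mids ∧ d ∈ P.mids then α c h.1 d h.2 else 0
  have hal : ∀ c ∈ P.mids, ∀ d ∈ P.mids, zblk (g⁻¹).val c d = al c d • A' := fun c hc d hd => by
    simp only [al, dif_pos (And.intro hc hd)]; exact hα c hc d hd
  let μ : Fin k → Fin k → F := fun d e => P.S.w e / P.S.w d * al e d / r
  have hgmid : ∀ d ∈ P.mids, ∀ e ∈ P.mids, zblk g.val d e = μ d e • A := by
    intro d hd e he
    have hinv := inv_eq_adj _ (inv_mem hgO)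
    rw [inv_inv] at hinv
    rw [hinv, zblk_adj, Std.J_mid (Std.mem_mids.mp hd).1 (Std.mem_mids.mp hd).2,
      Std.J_mid (Std.mem_mids.mp he).1 (Std.mem_mids.mp he).2, hal e he d hd, adj_smul, hadjA', smul_smul, smul_smul]
    congr 1
    simp only [μ, div_eq_mul_inv]
  -- the similitude of the first slot
  let L : Matrix (Fin k) (Fin k) F := Matrix.of fun a b =>
    if a ∈ P.mids ∧ b ∈ P.mids then μ a b else if a = b then (if a = P.i0 then 1 else r⁻¹) else 0
  let L' : Matrix (Fin k) (Fin k) F := Matrix.of fun a b =>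
    if a ∈ P.mids ∧ b ∈ P.mids then al a b else if a = b then (if a = P.i0 then 1 else r) else 0
  have hout : ∀ a, a ∉ P.mids → a = P.i0 ∨ a = P.i1 := fun a ha => by
    rw [Std.mem_mids, not_and_or, not_not, not_not] at ha; exact ha
  have n0 : P.i0 ∉ P.mids := by simp [Std.mem_mids]
  have n1 : P.i1 ∉ P.mids := by simp [Std.mem_mids]
  have hLadj : adj P.S L = r⁻¹ • L' := by
    ext a b
    by_cases ha : a ∈ P.mids
    · by_cases hb : b ∈ P.mids
      · simp only [adj, Matrix.of_apply, Matrix.smul_apply, L, L', μ, smul_eq_mul,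
          Std.J_mid (Std.mem_mids.mp ha).1 (Std.mem_mids.mp ha).2,
          Std.J_mid (Std.mem_mids.mp hb).1 (Std.mem_mids.mp hb).2, if_pos (And.intro ha hb), if_pos (And.intro hb ha)]
        field_simp [P.S.w_ne a, P.S.w_ne b, hr]
      · obtain ⟨ha0, ha1⟩ := Std.mem_mids.mp ha
        rcases hout b hb with rfl | rfl <;>
          simp [adj, L, L', hb, n0, n1, Std.J_i0, Std.J_i1, Std.J_mid ha0 ha1, ha, ha0, ha1, Ne.symm ha0, Ne.symm ha1]
    · by_cases hb : b ∈ P.mids
      · obtain ⟨hb0, hb1⟩ := Std.mem_mids.mp hb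
        rcases hout a ha with rfl | rfl <;>
          simp [adj, L, L', hb, n0, n1, Std.J_i0, Std.J_i1, Std.J_mid hb0 hb1, ha, hb0, hb1, Ne.symm hb0, Ne.symm hb1]
      · rcases hout a ha with rfl | rfl <;> rcases hout b hb with rfl | rfl <;>
          simp [adj, L, L', n0, n1, Std.J_i0, Std.J_i1, Std.w_i0, Std.w_i1, how, how.symm, hr]
  have hgg : ∀ x y, ∑ e, zblk g.val x e * zblk (g⁻¹).val e y = if x = y then 1 else 0 := fun x y => by
    rw [← zblk_mul, Units.mul_inv, zblk_one]
  have hmidsum : ∀ c ∈ P.mids, ∀ d ∈ P.mids, ∑ e ∈ P.mids, μ c e * al e d = if c = d then 1 else 0 := by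
    intro c hc d hd
    have h := hgg c d
    rw [Std.sum_split (P := P), hfix.1 c (Std.mem_mids.mp hc).1, zero_mul, zero_add,
      hfix'.2 d (Std.mem_mids.mp hd).2, mul_zero, zero_add,
      Finset.sum_congr rfl fun e he => by rw [hgmid c hc e he, hal e he d hd, smul_mul_smul_comm, hAA],
      ← Finset.sum_smul] at h
    refine smul_left_injective F hone (h.trans ?_)
    split_ifs <;> simp
  have hLL : L * L' = 1 := by
    ext a b
    rw [Matrix.mul_apply, Std.sum_split (P := P), Matrix.one_apply]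
    by_cases ha : a ∈ P.mids
    · obtain ⟨ha0, ha1⟩ := Std.mem_mids.mp ha
      by_cases hb : b ∈ P.mids
      · rw [Finset.sum_congr rfl fun e he => show L a e * L' e b = μ a e * al e b by simp [L, L', ha, hb, he],
          hmidsum a ha b hb]
        simp [L, n0, n1, ha, ha0, ha1]
      · have hab : a ≠ b := fun h => hb (h ▸ ha)
        rw [Finset.sum_eq_zero fun e he => show L a e * L' e b = 0 by
          have heb : e ≠ b := fun h => hb (h ▸ he)
          simp [L', hb, heb]]
        simp [L, n0, n1, ha, ha0, ha1, hab]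
    · rw [Finset.sum_eq_zero fun e he => show L a e * L' e b = 0 by
        have hae : a ≠ e := fun h => ha (h ▸ he)
        simp [L, ha, hae]]
      rcases hout a ha with rfl | rfl <;>
        simp [L, L', n0, n1, how, how.symm, hr]
  let Lu : GL (Fin k) F := ⟨L, L', hLL, mul_eq_one_comm.mp hLL⟩
  have hLsim : IsSim P.S Lu := ⟨r⁻¹, inv_ne_zero hr, by
    show adj P.S L * L = _
    rw [hLadj, smul_mul_assoc, mul_eq_one_comm.mp hLL]⟩
  -- the radical part
  set u := g * (kzU Lu Au)⁻¹ with hu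
  have huv : ∀ a b, zblk u.val a b = ∑ e, L' e b • (zblk g.val a e * A') := fun a b => by
    rw [hu, Units.val_mul, show ((kzU Lu Au)⁻¹).val = kz L' A' from rfl, zblk_mul]
    exact Finset.sum_congr rfl fun e _ => by rw [zblk_kz, mul_smul_comm]
  have huO : u ∈ O (powS P.S (t + 1)) := by
    refine mul_mem hgO (inv_mem ?_)
    rw [mem_O_iff, kzU_coe, adj_kz, kz_mul]
    show kz (adj P.S L * L) (adj (powS P.S t) A * A) = 1
    obtain ⟨c₁, -, e₁⟩ := hAsim
    rw [hLadj, smul_mul_assoc, mul_eq_one_comm.mp hLL, show adj (powS P.S t) A = r • A' by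
      rw [hA'adj, smul_smul, mul_inv_cancel₀ hr, one_smul], smul_mul_assoc, hAA', kz_smul_left, kz_smul_right,
      smul_smul, inv_mul_cancel₀ hr, one_smul, kz_one]
  set N := u.val - 1 with hNd
  clear_value N
  have heu : u.val = 1 + N := by rw [hNd, add_sub_cancel]
  have hNU : Upper P N := by
    intro a b h1 h2
    rw [hNd, zblk_sub, zblk_one, huv]
    by_cases ha : a = P.i1
    · subst ha
      rw [Finset.sum_eq_single P.i1 (fun e _ he => by rw [hfix.2 e he, zero_mul, smul_zero]) (by simp), hgww,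
        smul_mul_assoc, hAA]
      by_cases hb : b = P.i1
      · subst hb; simp [L', n1, how.symm, hr]
      · simp [L', n1, Ne.symm hb]
    by_cases hb : b = P.i0
    · subst hb
      rw [Finset.sum_eq_single P.i0 (fun e _ he => by simp [L', n0, he]) (by simp)]
      by_cases ha0 : a = P.i0
      · subst ha0; simp [L', n0, ← hA, hAA]
      · simp [hfix.1 a ha0, ha0]
    have ha0 : a ≠ P.i0 := fun h => h1 ⟨h, hb⟩
    have hb1 : b ≠ P.i1 := fun h => h2 ⟨h, ha⟩
    have ham : a ∈ P.mids := Std.mem_mids.mpr ⟨ha0, ha⟩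
    have hbm : b ∈ P.mids := Std.mem_mids.mpr ⟨hb, hb1⟩
    rw [Std.sum_split (P := P), hfix.1 a ha0, zero_mul, smul_zero, zero_add,
      show L' P.i1 b = 0 by simp [L', n1, Ne.symm hb1], zero_smul, zero_add,
      Finset.sum_congr rfl fun e he => show L' e b • (zblk g.val a e * A') = (μ a e * al e b) • 1 by
        rw [hgmid a ham e he, smul_mul_assoc, hAA, smul_smul, mul_comm]; simp [L', he, hbm],
      ← Finset.sum_smul, hmidsum a ham b hbm]
    split_ifs <;> simp
  have huT : ∀ T ∈ Om P.S, u * kzU T (1 : GL (Fin t → Fin k) F) * u⁻¹ ∈ H := by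
    intro T hT
    have hT' : Lu⁻¹ * T * Lu ∈ Om P.S := by simpa using hLsim.inv.conj_mem_Om hP.two hT
    have h := hconj _ (kzU_mem (Lu⁻¹ * T * Lu) (one_mem _))
      (by rw [kzU_one_eq_slotU]; exact slotU_mem_Om hP.two hT' 0)
    have e : kzU Lu Au * kzU (Lu⁻¹ * T * Lu) (1 : GL (Fin t → Fin k) F) = kzU T 1 * kzU Lu Au := by
      rw [kzU_mul, kzU_mul, mul_one, one_mul, ← mul_assoc, ← mul_assoc, mul_inv_cancel, one_mul]
    have e2 : g * kzU (Lu⁻¹ * T * Lu) (1 : GL (Fin t → Fin k) F) * g⁻¹ = u * kzU T 1 * u⁻¹ := by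
      have hg : g = u * kzU Lu Au := by rw [hu, inv_mul_cancel_right]
      rw [mul_inv_eq_iff_eq_mul, hg, mul_assoc u, e]
      group
    rwa [e2] at h
  -- the row is scalar
  have hrow : ∀ c ∈ P.mids, ∃ ν : F, zblk N P.i0 c = ν • 1 := by
    intro c hc
    obtain ⟨T, hT, hb, hb', a, b, hab, hTa, hTc⟩ := exists_sep hP hc
    set M := kz T.val (1 : Matrix (Fin t → Fin k) (Fin t → Fin k) F) with hMd
    set N' := M * N * kz (T⁻¹).val 1 with hN'
    clear_value N'
    have hN'b : ∀ x y, zblk N' x y = ∑ p, ∑ q, (T.val x p * (T⁻¹).val q y) • zblk N p q := fun x y => by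
      rw [hN', zblk_mul, Finset.sum_comm]
      refine Finset.sum_congr rfl fun q _ => ?_
      rw [zblk_mul, Finset.sum_mul]
      refine Finset.sum_congr rfl fun p _ => ?_
      rw [hMd, zblk_kz, zblk_kz, smul_mul_assoc, one_mul, smul_mul_assoc, mul_smul_comm, mul_one, smul_smul]
    have hkey : ∀ x p, T.val x p ≠ 0 → (x = P.i0 ↔ p = P.i0) ∧ (x = P.i1 ↔ p = P.i1) := fun x p h => by
      refine ⟨⟨fun hx => ?_, fun hp => ?_⟩, fun hx => ?_, fun hp => ?_⟩ <;> by_contra hne
      · exact h (hb x p (fun e => hne (e ▸ hx)) (Or.inl hx))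
      · exact h (hb x p (fun e => hne (e ▸ hp)) (Or.inr (Or.inr (Or.inl hp))))
      · exact h (hb x p (fun e => hne (e ▸ hx)) (Or.inr (Or.inl hx)))
      · exact h (hb x p (fun e => hne (e ▸ hp)) (Or.inr (Or.inr (Or.inr hp))))
    have hkey' : ∀ q y, (T⁻¹).val q y ≠ 0 → (q = P.i0 ↔ y = P.i0) ∧ (q = P.i1 ↔ y = P.i1) := fun x p h => by
      refine ⟨⟨fun hx => ?_, fun hp => ?_⟩, fun hx => ?_, fun hp => ?_⟩ <;> by_contra hne
      · exact h (hb' x p (fun e => hne (e ▸ hx)) (Or.inl hx))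
      · exact h (hb' x p (fun e => hne (e ▸ hp)) (Or.inr (Or.inr (Or.inl hp))))
      · exact h (hb' x p (fun e => hne (e ▸ hx)) (Or.inr (Or.inl hx)))
      · exact h (hb' x p (fun e => hne (e ▸ hp)) (Or.inr (Or.inr (Or.inr hp))))
    have hN'U : Upper P N' := fun x y h1 h2 => by
      rw [hN'b]
      refine Finset.sum_eq_zero fun p _ => Finset.sum_eq_zero fun q _ => ?_
      by_cases hz : T.val x p * (T⁻¹).val q y = 0
      · rw [hz, zero_smul]
      obtain ⟨k1, k2⟩ := hkey x p (left_ne_zero_of_mul hz)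
      obtain ⟨k3, k4⟩ := hkey' q y (right_ne_zero_of_mul hz)
      rw [hNU p q (fun h => h1 ⟨k1.mpr h.1, fun e => h.2 (k3.mpr e)⟩)
        (fun h => h2 ⟨k4.mp h.1, fun e => h.2 (k2.mp e)⟩), smul_zero]
    set Tk := kzU T (1 : GL (Fin t → Fin k) F) with hTk
    have hcube := Upper.mul_mul_eq_zero hN'U hN'U hN'U
    have hconjN : (Tk * u * Tk⁻¹).val = 1 + N' := by
      rw [Units.val_mul, Units.val_mul, heu, conj_one_add, hN', hMd]
      congr 1
    have hinv : ((Tk * u * Tk⁻¹)⁻¹).val = 1 - N' + N' * N' := by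
      refine left_inv_eq_right_inv (Units.inv_mul _) ?_
      rw [hconjN]
      simp only [mul_add, add_mul, mul_sub, one_mul, mul_one, ← mul_assoc, hcube]
      abel
    have hhv : (u * Tk * u⁻¹ * Tk⁻¹).val = 1 + (N - N' + (N' * N' - N * N')) := by
      rw [show u * Tk * u⁻¹ * Tk⁻¹ = u * (Tk * u * Tk⁻¹)⁻¹ by group, Units.val_mul, hinv, heu]
      simp only [mul_add, add_mul, mul_sub, one_mul, mul_one, ← mul_assoc,
        Upper.mul_mul_eq_zero hNU hN'U hN'U]
      abel
    obtain ⟨γ, hγ⟩ := hrad _ (mul_mem (huT T hT) (inv_mem (kzU_mem_H hP.two hM hT (one_mem _) (one_mem _)))) _ hhv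
      ((hNU.sub hN'U).add ((hN'U.mul hN'U).sub (hNU.mul hN'U))) c hc
    obtain ⟨hc0, hc1⟩ := Std.mem_mids.mp hc
    have hz : ∀ X Y : Matrix (Fin (t + 1) → Fin k) (Fin (t + 1) → Fin k) F, Upper P X → Upper P Y →
        zblk (X * Y) P.i0 c = 0 := fun X Y hX hY => by
      rw [Upper.mul_eq hX hY, zblk_kz, E_apply, if_neg (fun h => hc1 h.2), zero_smul]
    have hN'c : zblk N' P.i0 c = (a * b) • zblk N P.i0 c := by
      rw [hN'b, Finset.sum_eq_single P.i0, Finset.sum_eq_single c]
      · rw [hTc, if_pos rfl, hTa]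
      · intro q _ hq; rw [hTc, if_neg hq, mul_zero, zero_smul]
      · simp
      · intro p _ hp
        refine Finset.sum_eq_zero fun q _ => ?_
        rw [hb P.i0 p (Ne.symm hp) (Or.inl rfl), zero_mul, zero_smul]
      · simp
    rw [zblk_add, zblk_sub, zblk_sub, hz _ _ hN'U hN'U, hz _ _ hNU hN'U, hN'c, sub_zero, add_zero] at hγ
    refine ⟨(1 - a * b)⁻¹ * γ, ?_⟩
    rw [mul_smul, ← hγ, show zblk N P.i0 c - (a * b) • zblk N P.i0 c = (1 - a * b) • zblk N P.i0 c by
      rw [sub_smul, one_smul], inv_smul_smul₀ (sub_ne_zero.mpr (Ne.symm hab))]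
  choose ν hν using hrow
  let z : Fin k → F := fun c => if h : c ∈ P.mids then ν c h / P.S.w c else 0
  have hzm : P.IsMid z := ⟨by simp [z, n0], by simp [z, n1]⟩
  set Q := alt P.S P.eo z with hQ
  have hQc : Q * Q * Q = 0 := alt_cube P.S P.eo_iso hzm.eo'
  set S := expU hP.two Q with hS
  have hSm : S ∈ Om P.S := expU_mem_Om hP.two hQc (adj_alt _ _ _)
  have hQe : ∀ a b, Q a b = (if a = P.i0 then P.S.w b * z (P.S.J b) else 0) - (if b = P.i1 then z a else 0) := by
    intro a b
    simp only [hQ, alt, Matrix.sub_apply, rk, vecMulVec_apply, cv, Std.eo, Pi.single_apply]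
    congr 1
    · split_ifs <;> simp
    · by_cases hb : b = P.i1
      · subst hb; simp [Std.J_i1, Std.w_i1]
      · rw [if_neg hb, if_neg (fun h => hb (by rw [← P.S.inv b, h, Std.J_i0]))]
        simp
  set S' := expU hP.two ((-1 : F) • Q) with hS'
  have hQc' : ((-1 : F) • Q) * ((-1 : F) • Q) * ((-1 : F) • Q) = 0 := by
    simp [Matrix.smul_mul, Matrix.mul_smul, hQc]
  have hSinv : S⁻¹ = S' := by
    have := expU_smul_inv hP.two hQc (1 : F)
    rwa [one_smul] at this
  have hKQ : Upper P (kz Q (1 : Matrix (Fin t → Fin k) (Fin t → Fin k) F)) := by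
    intro a b h1 h2
    rw [zblk_kz, hQe]
    by_cases ha : a = P.i0
    · have hb : b = P.i0 := by by_contra hb; exact h1 ⟨ha, hb⟩
      simp [ha, hb, how, Std.J_i0, hzm.2]
    · by_cases hb : b = P.i1
      · have ha1 : a = P.i1 := by by_contra ha1; exact h2 ⟨hb, ha1⟩
        simp [ha1, hb, how.symm, hzm.2]
      · simp [ha, hb]
  set N3 := N - kz Q (1 : Matrix (Fin t → Fin k) (Fin t → Fin k) F) +
    ((2 : F)⁻¹ • (kz Q 1 * kz Q 1) - N * kz Q 1) + (2 : F)⁻¹ • (N * (kz Q 1 * kz Q 1)) with hN3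
  clear_value N3
  have hNQQ : N * (kz Q (1 : Matrix (Fin t → Fin k) (Fin t → Fin k) F) * kz Q 1) = 0 := by
    rw [← mul_assoc]; exact Upper.mul_mul_eq_zero hNU hKQ hKQ
  set v := u * (kzU S (1 : GL (Fin t → Fin k) F))⁻¹ with hv
  have hvv : v.val = 1 + N3 := by
    rw [hv, Units.val_mul, show ((kzU S (1 : GL (Fin t → Fin k) F))⁻¹).val = kz (S⁻¹).val 1 from by
      show kz _ _ = kz _ _; rw [inv_one, Units.val_one], hSinv, hS', expU_coe hP.two hQc', heu, hN3, hNQQ]
    rw [Matrix.smul_mul, Matrix.mul_smul, smul_smul, smul_smul, mul_assoc, neg_one_mul (-1 : F), neg_neg, mul_one,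
      kz_add_left, kz_add_left,
      kz_one, kz_smul_left, kz_smul_left, neg_one_smul]
    rw [show kz (Q * Q) (1 : Matrix (Fin t → Fin k) (Fin t → Fin k) F) = kz Q 1 * kz Q 1 by rw [kz_mul, mul_one]]
    simp only [mul_one, mul_add, add_mul, one_mul, mul_neg, mul_smul_comm, hNQQ, smul_zero, add_zero]
    abel
  have hN3U : Upper P N3 := by
    have h2 : ∀ (c : F) X, Upper P (t := t) X → Upper P (c • X) := fun c X hX a b h1 h2' => by
      rw [show zblk (c • X) a b = c • zblk X a b from rfl, hX a b h1 h2', smul_zero]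
    rw [hN3, hNQQ, smul_zero, add_zero]
    exact (hNU.sub hKQ).add ((h2 _ _ (hKQ.mul hKQ)).sub (hNU.mul hKQ))
  have hvO : v ∈ O (powS P.S (t + 1)) :=
    mul_mem huO (inv_mem (kzU_mem_O (Om_le_O _ hP.two hSm) (one_mem _)))
  have hrow3 : ∀ c ∈ P.mids, zblk N3 P.i0 c = 0 := by
    intro c hc
    obtain ⟨hc0, hc1⟩ := Std.mem_mids.mp hc
    have hz : ∀ X Y : Matrix (Fin (t + 1) → Fin k) (Fin (t + 1) → Fin k) F, Upper P X → Upper P Y →
        zblk (X * Y) P.i0 c = 0 := fun X Y hX hY => by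
      rw [Upper.mul_eq hX hY, zblk_kz, E_apply, if_neg (fun h => hc1 h.2), zero_smul]
    rw [hN3, hNQQ, smul_zero, add_zero, zblk_add, zblk_sub, zblk_sub,
      show zblk ((2 : F)⁻¹ • (kz Q 1 * kz Q 1)) P.i0 c = (2 : F)⁻¹ • zblk (kz Q 1 * kz Q 1) P.i0 c from rfl,
      hz _ _ hKQ hKQ, hz _ _ hNU hKQ, smul_zero, sub_zero, add_zero, hν c hc, zblk_kz, hQe, if_pos rfl, if_neg hc1,
      Std.J_mid hc0 hc1, sub_zero, show z c = ν c hc / P.S.w c from dif_pos hc, mul_div_cancel₀ _ (P.S.w_ne c),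
      sub_self]
  have hN3E : N3 = kz P.E (zblk N3 P.i0 P.i1) := by
    refine zblk_ext fun a b => ?_
    rw [zblk_kz, E_apply]
    by_cases hab : a = P.i0 ∧ b = P.i1
    · rw [if_pos hab, one_smul, hab.1, hab.2]
    rw [if_neg hab, zero_smul]
    by_cases ha : a = P.i0
    · subst ha
      by_cases hb : b = P.i0
      · rw [hb, hN3U.col_i0]
      · exact hrow3 b (Std.mem_mids.mpr ⟨hb, fun h => hab ⟨rfl, h⟩⟩)
    by_cases ha1 : a = P.i1
    · rw [ha1, hN3U.row_i1]
    by_cases hb : b = P.i1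
    · rw [hb, Upper.col_eq_O hvO hvv hN3U (Std.mem_mids.mpr ⟨ha, ha1⟩), hrow3 a (Std.mem_mids.mpr ⟨ha, ha1⟩),
        adj_zero, smul_zero, neg_zero]
    · exact hN3U a b (fun h => ha h.1) (fun h => hb h.1)
  set Z := zblk N3 P.i0 P.i1 with hZ
  refine ⟨v, Z, S * Lu, Au, by rw [hvv, hN3E], ?_, ?_, hAsim, ?_, ?_⟩
  · have h1 := (mem_O_iff _).mp hvO
    rw [hvv, hN3E, adj_add, adj_one, adj_kz, adj_E] at h1
    simp only [add_mul, mul_add, one_mul, mul_one, kz_mul, E_sq, kz_zero_left, add_zero] at h1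
    rw [add_assoc, add_eq_left, ← kz_add_right] at h1
    have h2 := congrArg (fun X => zblk X P.i0 P.i1) h1
    simp only [zblk_kz, E_apply, and_self, if_true, one_smul] at h2
    rw [show zblk (0 : Matrix (Fin (t + 1) → Fin k) (Fin (t + 1) → Fin k) F) P.i0 P.i1 = 0 from rfl] at h2
    exact eq_neg_of_add_eq_zero_left h2
  · obtain ⟨c₁, hc₁, e₁⟩ := hLsim
    refine ⟨c₁, hc₁, ?_⟩
    rw [Units.val_mul, adj_mul, mul_assoc, ← mul_assoc (adj P.S S.val), (mem_O_iff _).mp (Om_le_O _ hP.two hSm),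
      one_mul, e₁]
  · rw [hv, hu, show kzU (S * Lu) Au = kzU S (1 : GL (Fin t → Fin k) F) * kzU Lu Au by rw [kzU_mul, one_mul],
      ← mul_assoc, inv_mul_cancel_right, inv_mul_cancel_right]
  · intro T hT
    have hT' : S⁻¹ * T * S ∈ Om P.S := mul_mem (mul_mem (inv_mem hSm) hT) hSm
    have h := huT _ hT'
    have e : u * kzU (S⁻¹ * T * S) (1 : GL (Fin t → Fin k) F) * u⁻¹ = v * kzU T 1 * v⁻¹ := by
      have hu' : u = v * kzU S (1 : GL (Fin t → Fin k) F) := by rw [hv, inv_mul_cancel_right]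
      rw [hu', show kzU (S⁻¹ * T * S) (1 : GL (Fin t → Fin k) F) = (kzU S 1)⁻¹ * kzU T 1 * kzU S 1 by
        rw [show (kzU S (1 : GL (Fin t → Fin k) F))⁻¹ = kzU S⁻¹ 1 from
          inv_eq_of_mul_eq_one_right (by rw [kzU_mul, mul_inv_cancel, one_mul]; exact Units.ext kz_one),
          kzU_mul, kzU_mul, one_mul, one_mul]]
      group
    rwa [e] at h

end Cfsg.Agent.WreathO
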