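import Cfsg.Agent.WreathO.RowTuples

/-!
The evaluation of a pure family against a moved copy of itself, and a mover of an isotropic middle vector
(helper48).
-/

set_option autoImplicit false
set_option linter.unusedSectionVars false

namespace Cfsg.Agent.WreathO

open Matrix Cfsg.Agent.MaxSub Cfsg.Agent.MaxSub.Asch Cfsg.Agent.FG75.SpinTensor Cfsg.Agent.WreathMax

variable {F : Type*} [Field F] {k t : ℕ} {P : Std k F}

theorem tens_apply_pv (A : Fin t → Matrix (Fin k) (Fin k) F) (v : Fin t → Fin k → F) :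
    tens A *ᵥ pv v = pv fun i => A i *ᵥ v i := by
  funext x
  simp only [Matrix.mulVec, dotProduct, tens_apply, pv, ← Finset.prod_mul_distrib, Fintype.prod_sum]

theorem pv_of_zero {v : Fin t → Fin k → F} {i : Fin t} (h : v i = 0) : pv v = 0 := by
  funext x
  exact Finset.prod_eq_zero (Finset.mem_univ i) (by rw [h]; rfl)

theorem pv_smul (c : Fin t → F) (v : Fin t → Fin k → F) :
    pv (fun i => c i • v i) = (∏ i, c i) • pv v := by
  funext x
  simp [pv, Finset.prod_mul_distrib]

theorem pv_eo_ne_zero : pv (fun _ : Fin t => P.eo) ≠ 0 := fun h => by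
  simpa [pv, Std.eo] using congrFun h fun _ => P.i0

namespace Std

/-- The sign of the adjoint of an entry. -/
def tySign : Ty → F
  | .Q => -1
  | _ => 1

theorem adj_entry (P : Std k F) (a : Fin k) (T : Ty) : adj P.S (P.entry a T) = (tySign T : F) • P.entry a T := by
  cases T
  · show adj P.S 1 = (1 : F) • (1 : Matrix (Fin k) (Fin k) F)
    rw [one_smul, adj_one]
  · show adj P.S P.E = (1 : F) • P.E
    rw [one_smul, WreathO.adj_E]
  · show adj P.S (alt P.S P.eo _) = (-1 : F) • alt P.S P.eo _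
    rw [adj_alt, neg_one_smul]

theorem entry_eo {a : Fin k} (h0 : a ≠ P.i0) (h1 : a ≠ P.i1) {T : Ty} (hT : T ≠ .one) :
    P.entry a T *ᵥ P.eo = 0 := by
  cases T
  · exact absurd rfl hT
  · show rk P.S P.eo P.eo *ᵥ _ = 0
    rw [rk_mulVec, P.eo_iso, zero_smul]
  · show alt P.S P.eo _ *ᵥ _ = 0
    rw [alt_mulVec, (isMid_single h0 h1).eo', P.eo_iso, zero_smul, zero_smul, sub_zero]

/-- The scale of the mover of a middle coordinate. -/
noncomputable def mb (P : Std k F) (d : Fin k) : F := -(P.w d) / 2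

/-- An element carrying the first isotropic vector to the line of the second. -/
noncomputable def mover (P : Std k F) (d : Fin k) : GL (Fin k) F :=
  refl P.S (P.eo - P.mb d • P.ew) * refl P.S (Pi.single d 1)

theorem mover_norm (two : (2 : F) ≠ 0) (P : Std k F) (d : Fin k) :
    sf P.S (P.eo - P.mb d • P.ew) (P.eo - P.mb d • P.ew) = P.w d := by
  simp only [sf_sub_left, sf_sub_right, sf_smul_left, sf_smul_right, P.eo_iso, P.ew_iso, P.eo_ew, P.ew_eo, mb]
  field_simp
  ring

theorem mb_ne (two : (2 : F) ≠ 0) (P : Std k F) (d : Fin k) : P.mb d ≠ 0 :=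
  div_ne_zero (neg_ne_zero.mpr (P.w_ne d)) two

variable {d m : Fin k}

theorem mover_eo (two : (2 : F) ≠ 0) (h0 : d ≠ P.i0) (h1 : d ≠ P.i1) :
    (P.mover d).val *ᵥ P.eo = P.mb d • P.ew := by
  have hv := mover_norm two P d
  have hd : sf P.S (Pi.single d 1) (Pi.single d 1) = P.w d := sf_single_mid h0 h1
  rw [mover, Units.val_mul, ← mulVec_mulVec, refl_mulVec (x := (Pi.single d 1 : Fin k → F)) (by rw [hd]; exact P.w_ne d),
    (isMid_single h0 h1).eo', mul_zero, zero_div, zero_smul, sub_zero, refl_mulVec (by rw [hv]; exact P.w_ne d), hv,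
    show 2 * sf P.S P.eo (P.eo - P.mb d • P.ew) = P.w d by
      rw [sf_sub_right, sf_smul_right, P.eo_iso, P.eo_ew, mb]; field_simp; ring,
    div_self (P.w_ne d), one_smul, sub_sub_cancel]

/-- The sign of the mover on a middle coordinate. -/
def msign (d m : Fin k) : F := if m = d then -1 else 1

theorem mover_mid (two : (2 : F) ≠ 0) (h0 : d ≠ P.i0) (h1 : d ≠ P.i1) (m0 : m ≠ P.i0) (m1 : m ≠ P.i1) :
    (P.mover d).val *ᵥ (Pi.single m 1 : Fin k → F) = (msign d m : F) • Pi.single m 1 := by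
  have hv := mover_norm two P d
  have hd : sf P.S (Pi.single d 1) (Pi.single d 1) = P.w d := sf_single_mid h0 h1
  have hmv : sf P.S (Pi.single m 1) (P.eo - P.mb d • P.ew) = 0 := by
    rw [sf_sub_right, sf_smul_right, (isMid_single m0 m1).eo, (isMid_single m0 m1).ew, mul_zero, sub_zero]
  rw [mover, Units.val_mul, ← mulVec_mulVec, refl_mulVec (x := (Pi.single d 1 : Fin k → F)) (by rw [hd]; exact P.w_ne d)]
  rcases eq_or_ne m d with rfl | hmd
  · rw [hd, mul_div_assoc, div_self (P.w_ne m), mul_one,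
      show (Pi.single m 1 : Fin k → F) - (2 : F) • Pi.single m 1 = (-1 : F) • Pi.single m 1 by module,
      mulVec_smul, refl_mulVec (by rw [hv]; exact P.w_ne m), hmv, mul_zero, zero_div, zero_smul, sub_zero,
      msign, if_pos rfl]
  · rw [show sf P.S (Pi.single m 1) (Pi.single d 1) = 0 by
        rw [sf_single, J_mid m0 m1, Pi.single_eq_of_ne hmd, mul_zero],
      mul_zero, zero_div, zero_smul, sub_zero, refl_mulVec (by rw [hv]; exact P.w_ne d), hmv, mul_zero, zero_div,
      zero_smul, sub_zero, msign, if_neg hmd, one_smul]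

variable [Fintype F]

theorem mover_mem (two : (2 : F) ≠ 0) (h0 : d ≠ P.i0) (h1 : d ≠ P.i1) : P.mover d ∈ Om P.S :=
  refl_mul_refl_mem_Om two (by rw [mover_norm two]; exact P.w_ne d)
    (by rw [mover_norm two, sf_single_mid h0 h1])

/-- The value of an entry against its moved copy. -/
noncomputable def gam (P : Std k F) (d m : Fin k) : Ty → F
  | .one => 1
  | .E => P.mb d * P.mb d
  | .Q => -(P.mb d * msign d m * P.w m)

theorem gam_ne (two : (2 : F) ≠ 0) (P : Std k F) (d m : Fin k) (T : Ty) : P.gam d m T ≠ 0 := by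
  have hs : (msign d m : F) ≠ 0 := by rw [msign]; split_ifs <;> simp
  cases T
  · exact one_ne_zero
  · exact mul_ne_zero (mb_ne two P d) (mb_ne two P d)
  · exact neg_ne_zero.mpr (mul_ne_zero (mul_ne_zero (mb_ne two P d) hs) (P.w_ne m))

theorem entry_moved (two : (2 : F) ≠ 0) (h0 : d ≠ P.i0) (h1 : d ≠ P.i1) (m0 : m ≠ P.i0) (m1 : m ≠ P.i1) (T : Ty) :
    (P.entry m T * ((P.mover d).val * P.entry m T * ((P.mover d)⁻¹ : GL (Fin k) F).val)) *ᵥ P.eo =
      P.gam d m T • P.eo := by
  have hn : P.mover d ∈ O P.S := Om_le_O _ two (mover_mem two h0 h1)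
  cases T
  · show ((1 : Matrix (Fin k) (Fin k) F) * _) *ᵥ _ = (1 : F) • _
    rw [one_mul, one_smul, show P.entry m Ty.one = (1 : Matrix (Fin k) (Fin k) F) from rfl, mul_one, Units.mul_inv,
      one_mulVec]
  · show (P.E * (_ * P.E * _)) *ᵥ _ = (P.mb d * P.mb d) • _
    rw [Std.E, conj_rk P.S hn, mover_eo two h0 h1, ← mulVec_mulVec, rk_mulVec, rk_mulVec, sf_smul_right, P.eo_ew,
      mul_one, sf_smul_left, sf_smul_left, P.ew_eo, mul_one]
  · show (alt P.S P.eo _ * (_ * alt P.S P.eo _ * _)) *ᵥ _ = (-(P.mb d * msign d m * P.w m)) • _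
    rw [conj_alt P.S hn, mover_eo two h0 h1, mover_mid two h0 h1 m0 m1, ← mulVec_mulVec, alt_mulVec, alt_mulVec]
    simp only [sf_smul_left, sf_smul_right, sf_sub_left, (isMid_single m0 m1).eo, (isMid_single m0 m1).eo',
      sf_single_mid m0 m1, P.eo_ew, P.ew_eo]
    module

/-- An isometry fixing the isotropic pair moves an isotropic middle vector out of its orthogonal. -/
theorem exists_moving (hP : P.Good) {a : Fin k → F} (ha : P.IsMid a) (ha0 : a ≠ 0) (hiso : sf P.S a a = 0) :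
    ∃ A ∈ Om P.S, A.val *ᵥ P.eo = P.eo ∧ A.val *ᵥ P.ew = P.ew ∧ sf P.S a (A.val *ᵥ a) ≠ 0 := by
  classical
  have two := hP.two
  have hs : ∀ i, i ≠ P.i0 → i ≠ P.i1 → sf P.S a (Pi.single i 1) = P.w i * a i := fun i i0 i1 => by
    rw [sf_symm, sf_single, J_mid i0 i1]; rfl
  obtain ⟨y, hy, hyy, hay⟩ : ∃ y, P.IsMid y ∧ sf P.S y y ≠ 0 ∧ sf P.S a y = 0 := by
    by_cases hz : ∃ i, i ≠ P.i0 ∧ i ≠ P.i1 ∧ a i = 0
    · obtain ⟨i, i0, i1, hi⟩ := hz
      exact ⟨Pi.single i 1, isMid_single i0 i1, by rw [sf_single_mid i0 i1]; exact P.w_ne i,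
        by rw [hs i i0 i1, hi, mul_zero]⟩
    push Not at hz
    have hk5 : 5 ≤ k := by
      have := P.hk
      by_contra h
      rcases Nat.lt_or_ge k 4 with h3 | h4
      · obtain ⟨c0, c1⟩ := P.i2_ne
        have e : a = a P.i2 • (Pi.single P.i2 1 : Fin k → F) := by
          funext i
          rcases eq_or_ne i P.i2 with rfl | h2
          · simp
          · have : i = P.i0 ∨ i = P.i1 := by
              simp only [i0, i1, i2, Fin.ext_iff, ne_eq] at h2 ⊢; omega
            rcases this with rfl | rfl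
            · simp [ha.1, h2]
            · simp [ha.2, h2]
        rw [e, sf_smul_left, sf_smul_right, sf_single_mid c0 c1] at hiso
        exact mul_ne_zero (hz _ c0 c1) (mul_ne_zero (hz _ c0 c1) (P.w_ne _)) hiso
      · exact ha0 (hP.minus (by omega) a ha hiso)
    have pair : ∀ i j : Fin k, i ≠ P.i0 → i ≠ P.i1 → j ≠ P.i0 → j ≠ P.i1 → i ≠ j →
        a i * a i * P.w i + a j * a j * P.w j ≠ 0 → ∃ y, P.IsMid y ∧ sf P.S y y ≠ 0 ∧ sf P.S a y = 0 := by
      intro i j i0 i1 j0 j1 hij h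
      refine ⟨(P.w j * a j) • Pi.single i 1 - (P.w i * a i) • Pi.single j 1, ?_, ?_, ?_⟩
      · rw [sub_eq_add_neg, ← neg_smul]
        exact ((isMid_single i0 i1).smul _).add ((isMid_single j0 j1).smul _)
      · simp only [sf_sub_left, sf_sub_right, sf_smul_left, sf_smul_right, sf_single_mid i0 i1, sf_single_mid j0 j1]
        rw [show sf P.S (Pi.single i 1) (Pi.single j 1) = 0 by rw [sf_single, J_mid i0 i1, Pi.single_eq_of_ne hij, mul_zero],
          show sf P.S (Pi.single j 1) (Pi.single i 1) = 0 by rw [sf_single, J_mid j0 j1, Pi.single_eq_of_ne (Ne.symm hij), mul_zero]]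
        intro h0
        exact mul_ne_zero (mul_ne_zero (P.w_ne i) (P.w_ne j)) h (by linear_combination h0)
      · rw [sf_sub_right, sf_smul_right, sf_smul_right, hs i i0 i1, hs j j0 j1]; ring
    obtain ⟨i, hi⟩ : ∃ i : Fin k, i.val = 2 := ⟨⟨2, by omega⟩, rfl⟩
    obtain ⟨j, hj⟩ : ∃ i : Fin k, i.val = 3 := ⟨⟨3, by omega⟩, rfl⟩
    obtain ⟨l, hl⟩ : ∃ i : Fin k, i.val = 4 := ⟨⟨4, by omega⟩, rfl⟩
    have out : ∀ i : Fin k, 2 ≤ i.val → i ≠ P.i0 ∧ i ≠ P.i1 := fun i h => by
      simp only [i0, i1, Fin.ext_iff, ne_eq]; omega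
    obtain ⟨i0, i1⟩ := out i (by omega)
    obtain ⟨j0, j1⟩ := out j (by omega)
    obtain ⟨l0, l1⟩ := out l (by omega)
    have nij : i ≠ j := by simp only [Fin.ext_iff, ne_eq]; omega
    have nil : i ≠ l := by simp only [Fin.ext_iff, ne_eq]; omega
    have njl : j ≠ l := by simp only [Fin.ext_iff, ne_eq]; omega
    by_contra hne
    have hij := fun h => hne (pair i j i0 i1 j0 j1 nij h)
    have hil := fun h => hne (pair i l i0 i1 l0 l1 nil h)
    have hjl := fun h => hne (pair j l j0 j1 l0 l1 njl h)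
    rw [imp_false, not_ne_iff] at hij hil hjl
    exact mul_ne_zero two (mul_ne_zero (mul_ne_zero (hz i i0 i1) (hz i i0 i1)) (P.w_ne i))
      (by linear_combination hij + hil - hjl)
  obtain ⟨c, hc⟩ := Function.ne_iff.mp ha0
  have c0 : c ≠ P.i0 := fun e => hc (by rw [e]; exact ha.1)
  have c1 : c ≠ P.i1 := fun e => hc (by rw [e]; exact ha.2)
  set z : Fin k → F := (P.w c * a c)⁻¹ • Pi.single c 1 with hz_def
  have hza : sf P.S a z = 1 := by
    rw [hz_def, sf_smul_right, hs c c0 c1]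
    exact inv_mul_cancel₀ (mul_ne_zero (P.w_ne c) hc)
  set s : F := (sf P.S y y - sf P.S z z) / 2 with hs_def
  set x := z + s • a with hx_def
  have hxm : P.IsMid x := ((isMid_single c0 c1).smul _).add (ha.smul _)
  have hxx : sf P.S x x = sf P.S y y := by
    rw [hx_def]
    simp only [sf_add_left, sf_add_right, sf_smul_left, sf_smul_right, hiso, hza, sf_symm P.S z a, hs_def]
    field_simp
    ring
  have hax : sf P.S a x = 1 := by
    rw [hx_def, sf_add_right, hza, sf_smul_right, hiso]; ring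
  have hx0 : sf P.S x x ≠ 0 := by rw [hxx]; exact hyy
  refine ⟨refl P.S x * refl P.S y, refl_mul_refl_mem_Om two hx0 hxx, ?_, ?_, ?_⟩
  · rw [Units.val_mul, ← mulVec_mulVec, refl_mulVec hyy, hy.eo', mul_zero, zero_div, zero_smul, sub_zero,
      refl_mulVec hx0, hxm.eo', mul_zero, zero_div, zero_smul, sub_zero]
  · rw [Units.val_mul, ← mulVec_mulVec, refl_mulVec hyy, hy.ew', mul_zero, zero_div, zero_smul, sub_zero,
      refl_mulVec hx0, hxm.ew', mul_zero, zero_div, zero_smul, sub_zero]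
  · rw [Units.val_mul, ← mulVec_mulVec, refl_mulVec hyy, hay, mul_zero, zero_div, zero_smul, sub_zero,
      refl_mulVec hx0, hax, sf_sub_right, sf_smul_right, hiso, hax]
    simp [two, hx0]

end Std

end Cfsg.Agent.WreathO
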