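import Cfsg.Agent.WreathO.PartnerTensor

/-!
The rows of radical elements contain no pure family with a non-trivial entry, the centre being trivial (helper48).
-/

set_option autoImplicit false
set_option linter.unusedSectionVars false

namespace Cfsg.Agent.WreathO

open Matrix Cfsg.Agent.MaxSub Cfsg.Agent.MaxSub.Asch Cfsg.Agent.FG75.SpinTensor Cfsg.Agent.WreathMax

variable {F : Type*} [Field F] {k t : ℕ} {P : Std k F}

theorem Std.mid_vals {c : Fin k} (hc : c ∈ P.mids) : 2 ≤ c.val := by
  obtain ⟨h0, h1⟩ := Std.mem_mids.mp hc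
  simp only [Std.i0, Std.i1, Fin.ext_iff, ne_eq] at h0 h1
  omega

/-- The vector of the coefficients of a family. -/
def coeffVec (P : Std k F) (α : {c : Fin k // c ∈ P.mids} → F) (i : Fin k) : F :=
  if h : i ∈ P.mids then α ⟨i, h⟩ / P.w i else 0

theorem coeffVec_mid (α : {c : Fin k // c ∈ P.mids} → F) (c : {c : Fin k // c ∈ P.mids}) :
    coeffVec P α c.1 = α c / P.w c.1 := by rw [coeffVec, dif_pos c.2]

theorem coeffVec_isMid (α : {c : Fin k // c ∈ P.mids} → F) : P.IsMid (coeffVec P α) :=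
  ⟨by simp [coeffVec, Std.mem_mids], by simp [coeffVec, Std.mem_mids]⟩

theorem sf_coeffVec (α : {c : Fin k // c ∈ P.mids} → F) (u : Fin k → F) :
    sf P.S (coeffVec P α) u = ∑ c, α c * u c.1 := by
  show ∑ i, P.S.w i * u (P.S.J i) * coeffVec P α i = _
  rw [Std.sum_split (P := P), (coeffVec_isMid α).1, (coeffVec_isMid α).2, mul_zero, mul_zero, zero_add, zero_add,
    ← Finset.sum_coe_sort P.mids]
  refine Finset.sum_congr rfl fun c _ => ?_
  obtain ⟨c0, c1⟩ := Std.mem_mids.mp c.2
  rw [Std.J_mid c0 c1, coeffVec_mid, show P.S.w c.1 = P.w c.1 from rfl]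
  field_simp [P.w_ne c.1]

variable [Fintype F] {H : Subgroup (GL (Fin (t + 1) → Fin k) F)}

/-- A pure family moved in all the other slots. -/
theorem rowTuples_moved (two : (2 : F) ≠ 0) (hM : ContainsW P.S H) {n : Fin t → GL (Fin k) F}
    (hn : ∀ l, n l ∈ Om P.S) {α : {c : Fin k // c ∈ P.mids} → F}
    {U : {c : Fin k // c ∈ P.mids} → Fin t → Matrix (Fin k) (Fin k) F}
    (h : (fun c => α c • tens (U c)) ∈ rowTuples P H) :
    (fun c => α c • tens (fun l => (n l).val * U c l * ((n l)⁻¹).val)) ∈ rowTuples P H := by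
  classical
  have key : ∀ s : Finset (Fin t),
      (fun c => α c • tens (s.piecewise (fun l => (n l).val * U c l * ((n l)⁻¹).val) (U c))) ∈ rowTuples P H := by
    intro s
    induction s using Finset.induction with
    | empty => simpa using h
    | insert l s hl ih =>
      have h1 := rowTuples_rest two hM (slotU_mem_Om two (hn l) l) (slotU_mem l (n l)) ih
      convert h1 using 2 with c
      rw [map_smul, conjHom_apply, slotU_inv, slotU_coe, slotU_coe, slot_mul_tens, tens_mul_slot,
        Function.update_idem, Function.update_self, Finset.piecewise_insert,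
        Finset.piecewise_eq_of_notMem _ _ _ hl]
  simpa using key Finset.univ

/-- A pure family in the rows with a non-trivial entry is impossible. -/
theorem no_pure (hP : P.Good) (hH : H ≤ Om (powS P.S (t + 1))) (hM : ContainsW P.S H)
    (hns : ∀ Z, InC P H Z → Z = 0) {α : {c : Fin k // c ∈ P.mids} → F}
    {m : {c : Fin k // c ∈ P.mids} → Fin t → Fin k} {T : Fin t → Ty} (hα : ∃ c, α c ≠ 0)
    (hT : ∃ l, T l ≠ .one) (hm : ∀ c l, m c l ≠ P.i0 ∧ m c l ≠ P.i1)
    (h4 : k = 4 → ∀ l, T l = .Q → ∀ c c', (flipSign P P.i2 c = flipSign P P.i2 c' ↔ m c l = m c' l))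
    (hconst : k ≠ 4 → ∀ c c' l, m c l = m c' l)
    (hR : (fun c => α c • tens (fun l => P.entry (m c l) (T l))) ∈ rowTuples P H) : False := by
  classical
  have two := hP.two
  obtain ⟨j, hj⟩ := hT
  let c₀ : {c : Fin k // c ∈ P.mids} := ⟨P.i2, Std.mem_mids.mpr P.i2_ne⟩
  set d : Fin t → Fin k := m c₀ with hd_def
  have hd : ∀ l, d l ≠ P.i0 ∧ d l ≠ P.i1 := hm c₀
  set U : {c : Fin k // c ∈ P.mids} → Fin t → Matrix (Fin k) (Fin k) F := fun c l => P.entry (m c l) (T l) with hU
  set n : Fin t → GL (Fin k) F := fun l => P.mover (d l) with hn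
  set U' : {c : Fin k // c ∈ P.mids} → Fin t → Matrix (Fin k) (Fin k) F :=
    fun c l => (n l).val * U c l * ((n l)⁻¹).val with hU'
  have hnm : ∀ l, n l ∈ Om P.S := fun l => Std.mover_mem two (hd l).1 (hd l).2
  have hR' : (fun c => α c • tens (U' c)) ∈ rowTuples P H := rowTuples_moved two hM hnm hR
  set Γ : {c : Fin k // c ∈ P.mids} → F := fun c => ∏ l, P.gam (d l) (m c l) (T l) with hΓ
  have hΓ0 : ∀ c, Γ c ≠ 0 := fun c => Finset.prod_ne_zero_iff.mpr fun l _ => Std.gam_ne two P _ _ _
  set v := pv (fun _ : Fin t => P.eo) with hv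
  have hv0 : v ≠ 0 := pv_eo_ne_zero
  have hkill : ∀ c, tens (U c) *ᵥ v = 0 := fun c => by
    rw [hv, tens_apply_pv]
    exact pv_of_zero (i := j) (Std.entry_eo (hm c j).1 (hm c j).2 hj)
  have hval : ∀ c, tens (U c) *ᵥ (tens (U' c) *ᵥ v) = Γ c • v := fun c => by
    rw [mulVec_mulVec, tens_mul, hv, tens_apply_pv, hΓ, ← pv_smul]
    congr 1
    funext l
    exact Std.entry_moved two (hd l).1 (hd l).2 (hm c l).1 (hm c l).2 (T l)
  have rel : ∀ β : {c : Fin k // c ∈ P.mids} → F, (fun c => β c • tens (U' c)) ∈ rowTuples P H →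
      ∑ c, (P.w c.1)⁻¹ * (α c * β c) * Γ c = 0 := by
    intro β hβ
    have h0 := congrArg (· *ᵥ v) (rowTuples_bracket two hH hM hns hR hβ)
    have e : ∀ c : {c : Fin k // c ∈ P.mids}, ((P.S.w c.1)⁻¹ • (α c • tens (U c) * (β c • tens (U' c)) -
        β c • tens (U' c) * (α c • tens (U c)))) *ᵥ v = ((P.w c.1)⁻¹ * (α c * β c) * Γ c) • v := fun c => by
      rw [smul_mulVec, sub_mulVec, ← mulVec_mulVec, ← mulVec_mulVec, smul_mulVec, smul_mulVec, smul_mulVec,
        smul_mulVec, hkill, smul_zero, mulVec_zero, smul_zero, sub_zero, mulVec_smul, hval, smul_smul, smul_smul,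
        smul_smul]
      show ((P.w c.1)⁻¹ * α c * β c * Γ c) • v = _
      congr 1
      ring
    simp only [Matrix.sum_mulVec, zero_mulVec] at h0
    rw [Finset.sum_congr rfl fun c _ => e c, ← Finset.sum_smul] at h0
    exact (smul_eq_zero.mp h0).resolve_right hv0
  by_cases hcase : k = 4 ∧ ∃ l, T l = .Q
  · obtain ⟨hk4, lq, hlq⟩ := hcase
    let i3 : Fin k := ⟨3, by omega⟩
    have hi3 : i3 ∈ P.mids := Std.mem_mids.mpr (by simp [i3, Std.i0, Std.i1, Fin.ext_iff])
    let c₁ : {c : Fin k // c ∈ P.mids} := ⟨i3, hi3⟩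
    have h23 : P.i2 ≠ i3 := by simp [Std.i2, i3, Fin.ext_iff]
    have htwo : ∀ c : {c : Fin k // c ∈ P.mids}, c = c₀ ∨ c = c₁ := fun c => by
      have h1 := Std.mid_vals c.2
      simp only [c₀, c₁, Subtype.ext_iff, Fin.ext_iff, Std.i2, i3]
      omega
    have huniv : (Finset.univ : Finset {c : Fin k // c ∈ P.mids}) = {c₀, c₁} := by
      ext c; simpa using htwo c
    have hne01 : c₀ ≠ c₁ := fun h => h23 (congrArg Subtype.val h)
    have hd' : ∀ l, T l = .Q → m c₁ l ≠ d l := fun l hl hh => by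
      have h1 := (h4 hk4 l hl c₁ c₀).mpr hh
      rw [flipSign, flipSign, if_neg (Ne.symm h23), if_pos rfl] at h1
      exact two (by linear_combination h1)
    set π : F := P.w P.i2 * P.w i3 with hπ
    have hw2 : ∀ l, T l = .Q → P.w (d l) * P.w (m c₁ l) = π := fun l hl => by
      have hne := hd' l hl
      rcases htwo ⟨d l, Std.mem_mids.mpr (hd l)⟩ with e | e <;>
        rcases htwo ⟨m c₁ l, Std.mem_mids.mpr (hm c₁ l)⟩ with e' | e'
      all_goals
        have e := congrArg Subtype.val e
        have e' := congrArg Subtype.val e'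
        simp only [c₀, c₁] at e e'
      · exact absurd (e'.trans e.symm) hne
      · rw [e, e']
      · rw [e, e', mul_comm]
      · exact absurd (e'.trans e.symm) hne
    set Q := Finset.univ.filter fun l => T l = .Q with hQ
    have hsign : ∀ c, α c ≠ 0 → (-1 : F) ^ Q.card = 1 := by
      intro c hc
      have hs := rowTuples_sym two hH hM hns hR c
      rw [adj_smul, adj_tens, show (fun l => adj P.S (U c l)) = fun l => (Std.tySign (T l) : F) • U c l from
        funext fun l => P.adj_entry _ _, Asch.tens_smul] at hs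
      have hne : tens (U c) ≠ 0 := fun h0 => by
        have := hval c
        rw [h0, zero_mulVec] at this
        exact smul_ne_zero (hΓ0 c) hv0 this.symm
      have hp : (∏ l, (Std.tySign (T l) : F)) = (-1) ^ Q.card := by
        rw [hQ, ← Finset.prod_const, Finset.prod_filter]
        refine Finset.prod_congr rfl fun l _ => ?_
        cases T l <;> simp [Std.tySign]
      rw [hp] at hs
      refine smul_left_injective F hne ?_
      show (-1 : F) ^ Q.card • tens (U c) = (1 : F) • tens (U c)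
      rw [one_smul]
      exact smul_right_injective _ hc hs
    obtain ⟨cα, hcα⟩ := hα
    have hs1 := hsign cα hcα
    obtain ⟨n', hn'⟩ : Even Q.card :=
      (neg_one_pow_eq_one_iff_even fun h => two (by linear_combination -h)).mp hs1
    set q : F := π ^ n' / ∏ l ∈ Q, P.w (d l) with hq
    have hprodw : ∏ l ∈ Q, P.w (d l) ≠ 0 := Finset.prod_ne_zero_iff.mpr fun l _ => P.w_ne _
    have hq0 : q ≠ 0 := div_ne_zero (pow_ne_zero _ (mul_ne_zero (P.w_ne _) (P.w_ne _))) hprodw
    have hΓ1 : Γ c₁ = Γ c₀ * (q * q) := by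
      have e : ∀ l, P.gam (d l) (m c₁ l) (T l) = P.gam (d l) (m c₀ l) (T l) *
          (if T l = .Q then -π / (P.w (d l) * P.w (d l)) else 1) := fun l => by
        rw [← hd_def]
        rcases hTl : T l with _ | _ | _
        · simp [Std.gam]
        · simp [Std.gam]
        · rw [if_pos rfl]
          simp only [Std.gam, Std.msign, if_neg (hd' l hTl), if_true, ← hw2 l hTl]
          field_simp [P.w_ne (d l)]
      simp only [hΓ]
      rw [Finset.prod_congr rfl fun l _ => e l, Finset.prod_mul_distrib, ← Finset.prod_filter, ← hQ]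
      congr 1
      rw [Finset.prod_div_distrib, Finset.prod_const, neg_pow, hs1, one_mul, Finset.prod_mul_distrib, hn', hq,
        div_mul_div_comm, pow_add]
    have h0 := rel α hR'
    rw [huniv, Finset.sum_pair hne01, hΓ1] at h0
    set z : Fin k → F := (α c₀ / P.w P.i2) • Pi.single P.i2 1 + (q * α c₁ / P.w i3) • Pi.single i3 1 with hz
    obtain ⟨n20, n21⟩ := P.i2_ne
    obtain ⟨n30, n31⟩ := Std.mem_mids.mp hi3
    have hzm : P.IsMid z := ((Std.isMid_single n20 n21).smul _).add ((Std.isMid_single n30 n31).smul _)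
    have hzz : sf P.S z z = 0 := by
      rw [hz]
      simp only [sf_add_left, sf_add_right, sf_smul_left, sf_smul_right, Std.sf_single_mid n20 n21,
        Std.sf_single_mid n30 n31]
      rw [show sf P.S (Pi.single P.i2 1) (Pi.single i3 1) = 0 by
          rw [sf_single, Std.J_mid n20 n21, Pi.single_eq_of_ne h23, mul_zero],
        show sf P.S (Pi.single i3 1) (Pi.single P.i2 1) = 0 by
          rw [sf_single, Std.J_mid n30 n31, Pi.single_eq_of_ne (Ne.symm h23), mul_zero]]
      refine ((mul_eq_zero (a := Γ c₀)).mp ?_).resolve_left (hΓ0 c₀)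
      refine Eq.trans ?_ h0
      show _ = (P.w P.i2)⁻¹ * _ * _ + (P.w i3)⁻¹ * _ * _
      field_simp [P.w_ne P.i2, P.w_ne i3]
      ring
    have hz0 := hP.minus hk4 z hzm hzz
    have a0 : α c₀ = 0 := by
      have := congrFun hz0 P.i2
      simpa [hz, h23, P.w_ne] using this
    have a1 : α c₁ = 0 := by
      have := congrFun hz0 i3
      simpa [hz, Ne.symm h23, P.w_ne, hq0] using this
    rcases htwo cα with e | e
    · exact hcα (by rw [e, a0])
    · exact hcα (by rw [e, a1])
  · have hUc : ∀ c, U c = U c₀ := fun c => funext fun l => by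
      show P.entry (m c l) (T l) = P.entry (d l) (T l)
      rcases hTl : T l with _ | _ | _
      · rfl
      · rfl
      · rw [hconst (fun hk => hcase ⟨hk, l, hTl⟩) c c₀ l]
    have hU'c : ∀ c, U' c = U' c₀ := fun c => funext fun l => by
      show (n l).val * U c l * ((n l)⁻¹).val = _
      rw [hUc c]
    have hΓc : ∀ c, Γ c = Γ c₀ := fun c => Finset.prod_congr rfl fun l _ => by
      rcases hTl : T l with _ | _ | _
      · rfl
      · rfl
      · rw [hconst (fun hk => hcase ⟨hk, l, hTl⟩) c c₀ l]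
    set a := coeffVec P α with ha_def
    have hbeta : ∀ β : {c : Fin k // c ∈ P.mids} → F, (fun c => β c • tens (U' c)) ∈ rowTuples P H →
        ∑ c, α c * (β c / P.w c.1) = 0 := fun β hβ => by
      have h0 := rel β hβ
      rw [Finset.sum_congr rfl fun c _ => show (P.w c.1)⁻¹ * (α c * β c) * Γ c =
        α c * (β c / P.w c.1) * Γ c₀ by rw [hΓc c]; ring, ← Finset.sum_mul] at h0
      exact (mul_eq_zero.mp h0).resolve_right (hΓ0 c₀)
    have hiso : sf P.S a a = 0 := by
      rw [ha_def, sf_coeffVec]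
      simp only [coeffVec_mid]
      exact hbeta α hR'
    have ha0 : a ≠ 0 := fun h0 => by
      obtain ⟨c, hc⟩ := hα
      have := congrFun h0 c.1
      rw [ha_def, coeffVec_mid, Pi.zero_apply, div_eq_zero_iff] at this
      exact hc (this.resolve_right (P.w_ne _))
    obtain ⟨A, hA, hAe, hAw, hAa⟩ := Std.exists_moving hP (coeffVec_isMid α) ha0 hiso
    have hAO := Om_le_O _ two hA
    set β : {c : Fin k // c ∈ P.mids} → F := fun c =>
      ∑ f : {c : Fin k // c ∈ P.mids}, (A⁻¹ : GL (Fin k) F).val f.1 c.1 * α f with hβ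
    have hmem : (fun c => β c • tens (U' c)) ∈ rowTuples P H := by
      have h1 := rowTuples_conj hAO hAe hAw (kzU_mem_H two hM hA (one_mem _) (one_mem _)) hR'
      convert h1 using 2 with c
      rw [hU'c c, hβ, Finset.sum_smul]
      refine Finset.sum_congr rfl fun f _ => ?_
      rw [hU'c f, conjHom_apply, inv_one, Units.val_one, one_mul, mul_one, smul_smul]
    refine hAa ?_
    rw [sf_coeffVec]
    refine Eq.trans ?_ (hbeta β hmem)
    refine Finset.sum_congr rfl fun c _ => ?_
    congr 1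
    obtain ⟨c0, c1⟩ := Std.mem_mids.mp c.2
    rw [eq_div_iff (P.w_ne _), hβ]
    show (∑ i, A.val c.1 i * coeffVec P α i) * P.w c.1 = _
    rw [Std.sum_split (P := P), (coeffVec_isMid α).1, (coeffVec_isMid α).2, mul_zero, mul_zero, zero_add, zero_add,
      ← Finset.sum_coe_sort P.mids, Finset.sum_mul]
    refine Finset.sum_congr rfl fun f _ => ?_
    obtain ⟨f0, f1⟩ := Std.mem_mids.mp f.2
    rw [inv_eq_adj P.S hAO, coeffVec_mid]
    simp only [WreathO.adj, Matrix.of_apply, Std.J_mid c0 c1, Std.J_mid f0 f1]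
    show _ = P.w c.1 / P.w f.1 * _ * _
    ring

/-- A radical element has scalar rows, given pure families in the stable families with a non-scalar member. -/
theorem radical_scalar_of_pure (hP : P.Good) (hH : H ≤ Om (powS P.S (t + 1))) (hM : ContainsW P.S H)
    (hns : ∀ Z, InC P H Z → Z = 0)
    (hpure : ∀ X ∈ rowTuples P H, (∃ c, ∀ r : F, X c ≠ r • 1) →
      ∃ (α : {c : Fin k // c ∈ P.mids} → F) (m : {c : Fin k // c ∈ P.mids} → Fin t → Fin k) (T : Fin t → Ty),
        (∃ c, α c ≠ 0) ∧ (∃ l, T l ≠ .one) ∧ (∀ c l, m c l ≠ P.i0 ∧ m c l ≠ P.i1) ∧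
        (k = 4 → ∀ l, T l = .Q → ∀ c c', (flipSign P P.i2 c = flipSign P P.i2 c' ↔ m c l = m c' l)) ∧
        (k ≠ 4 → ∀ c c' l, m c l = m c' l) ∧
        (fun c => α c • tens (fun l => P.entry (m c l) (T l))) ∈ rowTuples P H)
    {h : GL (Fin (t + 1) → Fin k) F} (hh : h ∈ H)
    {N : Matrix (Fin (t + 1) → Fin k) (Fin (t + 1) → Fin k) F} (e : h.val = 1 + N) (hN : Upper P N)
    {c : Fin k} (hc : c ∈ P.mids) : ∃ r : F, zblk N P.i0 c = r • 1 := by
  by_contra hne
  push Not at hne
  obtain ⟨α, m, T, hα, hT, hm, h4, hconst, hR⟩ :=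
    hpure (fun c => zblk N P.i0 c.1) ⟨h, hh, N, e, hN, fun _ => rfl⟩ ⟨⟨c, hc⟩, hne⟩
  exact no_pure hP hH hM hns hα hT hm h4 hconst hR

end Cfsg.Agent.WreathO
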