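import Cfsg.Agent.WreathO.Alt

/-!
Elements of the commutator subgroup of one slot exchanging the two isotropic vectors, and skew maps stable under
that group (helper76).
-/

set_option autoImplicit false
set_option linter.unusedSectionVars false

namespace Cfsg.Agent.WreathO

open Matrix Cfsg.Agent.MaxSub

variable {F : Type*} [Field F] {k : ℕ} {P : Std k F}

namespace Std

/-- A vector orthogonal to both isotropic vectors in the form and the coordinates. -/
theorem mid_of_sf {x : Fin k → F} (ho : sf P.S x P.eo = 0) (hw : sf P.S x P.ew = 0) : P.IsMid x :=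
  ⟨by rwa [P.f_ew] at hw, by rwa [P.f_eo] at ho⟩

theorem sf_single_mid_right (x : Fin k → F) {a : Fin k} (h0 : a ≠ P.i0) (h1 : a ≠ P.i1) :
    sf P.S x (Pi.single a 1) = P.w a * x a := by
  rw [sf_symm, sf_single, Std.J_mid h0 h1]; rfl

theorem sf_singles_ne {a b : Fin k} (h0 : a ≠ P.i0) (h1 : a ≠ P.i1) (hab : a ≠ b) :
    sf P.S (Pi.single b 1 : Fin k → F) (Pi.single a 1) = 0 := by
  rw [sf_single_mid_right _ h0 h1, Pi.single_eq_of_ne hab, mul_zero]

/-- A middle vector orthogonal to all middle coordinates vanishes. -/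
theorem IsMid.eq_zero {z : Fin k → F} (hz : P.IsMid z)
    (h : ∀ a, a ≠ P.i0 → a ≠ P.i1 → sf P.S z (Pi.single a 1) = 0) : z = 0 := by
  funext a
  rcases eq_or_ne a P.i0 with rfl | h0
  · exact hz.1
  rcases eq_or_ne a P.i1 with rfl | h1
  · exact hz.2
  have := h a h0 h1
  rw [sf_single_mid_right _ h0 h1] at this
  exact (mul_eq_zero.mp this).resolve_left (P.w_ne a)

theorem mul_alt_mid {z z' : Fin k → F} (hz : P.IsMid z) (hz' : P.IsMid z') :
    alt P.S P.eo z * alt P.S P.eo z' = (-sf P.S z z') • P.E := by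
  rw [Std.E, alt, alt, sub_mul, mul_sub, mul_sub, rk_mul, rk_mul, rk_mul, rk_mul, P.eo_iso, hz'.eo,
    sf_symm P.S P.eo z, hz.eo, sf_symm P.S z z']
  module

theorem E_mul_alt {z : Fin k → F} (hz : P.IsMid z) : P.E * alt P.S P.eo z = 0 := by
  rw [Std.E, alt, mul_sub, rk_mul, rk_mul, P.eo_iso, hz.eo]
  simp

/-- A submodule of the middle space with all anisotropic vectors meeting one coordinate contains every middle
coordinate. -/
theorem single_mem (hP : P.Good) (V : Submodule F (Fin k → F)) {b : Fin k} (b0 : b ≠ P.i0) (b1 : b ≠ P.i1)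
    (h : ∀ v, P.IsMid v → sf P.S v v ≠ 0 → v b ≠ 0 → v ∈ V) {a : Fin k} (a0 : a ≠ P.i0) (a1 : a ≠ P.i1) :
    (Pi.single a 1 : Fin k → F) ∈ V := by
  classical
  have hb : (Pi.single b 1 : Fin k → F) ∈ V :=
    h _ (Std.isMid_single b0 b1) (by rw [Std.sf_single_mid b0 b1]; exact P.w_ne b) (by simp)
  rcases eq_or_ne a b with rfl | hab
  · exact hb
  have hea := Std.isMid_single (P := P) a0 a1
  have heb := Std.isMid_single (P := P) b0 b1
  have hfab : sf P.S (Pi.single a 1 : Fin k → F) (Pi.single b 1) = 0 := sf_singles_ne b0 b1 hab.symm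
  have hfba : sf P.S (Pi.single b 1 : Fin k → F) (Pi.single a 1) = 0 := sf_singles_ne a0 a1 hab
  have key : ∀ c : F, c ≠ 0 → P.w b + c * c * P.w a ≠ 0 → (Pi.single a 1 : Fin k → F) ∈ V := by
    intro c hc hne
    have hv := h ((Pi.single b 1 : Fin k → F) + c • Pi.single a 1) (heb.add (hea.smul c)) (by
      simp only [sf_add_left, sf_add_right, sf_smul_left, sf_smul_right, hfab, hfba, Std.sf_single_mid b0 b1,
        Std.sf_single_mid a0 a1]
      intro h'
      exact hne (by linear_combination h')) (by simp [Ne.symm hab])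
    have h1 := V.smul_mem c⁻¹ (V.sub_mem hv hb)
    rwa [add_sub_cancel_left, smul_smul, inv_mul_cancel₀ hc, one_smul] at h1
  by_cases h1 : P.w b + P.w a = 0
  swap
  · exact key 1 one_ne_zero (by simpa using h1)
  by_cases h2 : P.w b + 2 * 2 * P.w a = 0
  swap
  · exact key 2 hP.two h2
  -- the plane of the two coordinates has an isotropic vector
  have hk : 5 ≤ k := by
    by_contra hlt
    rcases (show k = 3 ∨ k = 4 by have := P.hk; omega) with h3 | h4
    · apply hab
      apply Fin.ext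
      have e : ∀ c : Fin k, c ≠ P.i0 → c ≠ P.i1 → (c : ℕ) = 2 := fun c c0 c1 => by
        simp [Std.i0, Std.i1, Fin.ext_iff] at c0 c1
        omega
      rw [e a a0 a1, e b b0 b1]
    · have := hP.minus h4 ((Pi.single b 1 : Fin k → F) + Pi.single a 1) (heb.add hea) (by
        simp only [sf_add_left, sf_add_right, hfab, hfba, Std.sf_single_mid b0 b1, Std.sf_single_mid a0 a1]
        simpa using h1)
      have := congrFun this b
      simp [Ne.symm hab] at this
  obtain ⟨c, -, hc⟩ := Finset.exists_mem_notMem_of_card_lt_card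
    (s := ({P.i0, P.i1, a, b} : Finset (Fin k))) (t := Finset.univ) (by
      rw [Finset.card_univ, Fintype.card_fin]
      exact lt_of_le_of_lt Finset.card_le_four (by omega))
  simp only [Finset.mem_insert, Finset.mem_singleton, not_or] at hc
  obtain ⟨c0, c1, ca, cb⟩ := hc
  have hec := Std.isMid_single (P := P) c0 c1
  have hs : ∀ σ : F, σ * σ = 1 → ((Pi.single b 1 : Fin k → F) + Pi.single a 1) + σ • Pi.single c 1 ∈ V := by
    intro σ hσ
    refine h _ ((heb.add hea).add (hec.smul σ)) ?_ (by simp [Ne.symm hab, Ne.symm cb])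
    simp only [sf_add_left, sf_add_right, sf_smul_left, sf_smul_right, hfab, hfba, Std.sf_single_mid b0 b1,
      Std.sf_single_mid a0 a1, Std.sf_single_mid c0 c1, sf_singles_ne (P := P) (b := b) c0 c1 cb,
      sf_singles_ne (P := P) (b := a) c0 c1 ca, sf_singles_ne (P := P) (b := c) b0 b1 (Ne.symm cb),
      sf_singles_ne (P := P) (b := c) a0 a1 (Ne.symm ca)]
    intro h'
    exact P.w_ne c (by linear_combination h' - h1 - P.w c * hσ)
  have h3 := V.sub_mem (V.smul_mem (2 : F)⁻¹ (V.add_mem (hs 1 (one_mul 1)) (hs (-1) (by ring)))) hb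
  convert h3 using 1
  ext x
  simp only [Pi.sub_apply, Pi.smul_apply, Pi.add_apply, smul_eq_mul]
  have := hP.two
  field_simp
  ring

/-- An element of the commutator subgroup exchanging the isotropic lines, acting on the middle space as the
reflection of a middle vector. -/
theorem exists_exchange [Fintype F] (two : (2 : F) ≠ 0) {v : Fin k → F} (hv : P.IsMid v)
    (hvv : sf P.S v v ≠ 0) :
    ∃ g ∈ Om P.S,
      (g : Matrix (Fin k) (Fin k) F) *ᵥ P.eo = (-(sf P.S v v / 2)) • P.ew ∧
      (g : Matrix (Fin k) (Fin k) F) *ᵥ P.ew = (-(2 / sf P.S v v)) • P.eo ∧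
      ∀ z, P.IsMid z → (g : Matrix (Fin k) (Fin k) F) *ᵥ z = z - (2 * sf P.S z v / sf P.S v v) • v := by
  set w := sf P.S v v with hw
  set u := P.eo + (w / 2) • P.ew with hu
  have huu : sf P.S u u = w := by
    simp only [hu, sf_add_left, sf_add_right, sf_smul_left, sf_smul_right, P.eo_iso, P.ew_iso, P.eo_ew, P.ew_eo]
    field_simp; ring
  have huv : sf P.S u v = 0 := by simp [hu, sf_add_left, sf_smul_left, hv.eo', hv.ew']
  have hvu : sf P.S v u = 0 := by rw [sf_symm, huv]
  set K := rk P.S u u + rk P.S v v with hK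
  set J := rk P.S v u - rk P.S u v with hJ
  have hKK : K * K = w • K := by
    simp only [hK, add_mul, mul_add, rk_mul, huu, huv, hvu, ← hw]; module
  have hJJ : J * J = -(w • K) := by
    simp only [hJ, hK, sub_mul, mul_sub, rk_mul, huu, huv, hvu, ← hw]; module
  have hKJ : K * J = w • J := by
    simp only [hJ, hK, add_mul, mul_sub, rk_mul, huu, huv, hvu, ← hw]; module
  have hJK : J * K = w • J := by
    simp only [hJ, hK, sub_mul, mul_add, rk_mul, huu, huv, hvu, ← hw]; module
  have hadjK : adj P.S K = K := by rw [hK, adj_add, adj_rk, adj_rk]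
  have hadjJ : adj P.S J = -J := by rw [hJ, adj_sub, adj_rk, adj_rk, neg_sub]
  set A : Matrix (Fin k) (Fin k) F := 1 - w⁻¹ • K + w⁻¹ • J with hA
  set B : Matrix (Fin k) (Fin k) F := 1 - w⁻¹ • K - w⁻¹ • J with hB
  have hAB : A * B = 1 ∧ B * A = 1 := by
    constructor <;>
    · simp only [hA, hB, mul_add, mul_sub, add_mul, sub_mul, one_mul, mul_one, Matrix.smul_mul, Matrix.mul_smul,
        hKK, hJJ, hKJ, hJK, smul_neg, smul_smul, inv_mul_cancel₀ hvv, one_smul]
      match_scalars <;> field_simp <;> ring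
  let h : GL (Fin k) F := ⟨A, B, hAB.1, hAB.2⟩
  have hO : h ∈ O P.S := by
    rw [mem_O_iff]
    show adj P.S A * A = 1
    rw [show adj P.S A = B by rw [hA, adj_add, adj_sub, adj_one, adj_smul, adj_smul, hadjK, hadjJ, hB, smul_neg,
      ← sub_eq_add_neg]]
    exact hAB.2
  have hsq : ((h * h : GL (Fin k) F) : Matrix (Fin k) (Fin k) F) = 1 - (2 * w⁻¹) • K := by
    show A * A = _
    simp only [hA, mul_add, mul_sub, add_mul, sub_mul, one_mul, mul_one, Matrix.smul_mul, Matrix.mul_smul,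
        hKK, hJJ, hKJ, hJK, smul_neg, smul_smul]
    match_scalars <;> field_simp <;> ring
  have hgx : ∀ x, ((h * h : GL (Fin k) F) : Matrix (Fin k) (Fin k) F) *ᵥ x =
      x - (2 * w⁻¹) • (sf P.S x u • u + sf P.S x v • v) := fun x => by
    rw [hsq, sub_mulVec, one_mulVec, smul_mulVec, hK, add_mulVec, rk_mulVec, rk_mulVec]
  refine ⟨h * h, sq_mem_Om P.S two hO, ?_, ?_, fun z hz => ?_⟩
  · rw [hgx, hv.eo', zero_smul, add_zero, show sf P.S P.eo u = w / 2 by
      simp [hu, sf_add_right, sf_smul_right, P.eo_iso, P.eo_ew]]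
    rw [hu]
    match_scalars <;> field_simp <;> ring
  · rw [hgx, hv.ew', zero_smul, add_zero, show sf P.S P.ew u = 1 by
      simp [hu, sf_add_right, sf_smul_right, P.ew_eo, P.ew_iso]]
    rw [hu]
    match_scalars <;> field_simp <;> ring
  · rw [hgx, show sf P.S z u = 0 by simp [hu, sf_add_right, sf_smul_right, hz.eo, hz.ew], zero_smul, zero_add,
      smul_smul]
    congr 2
    field_simp

variable [Fintype F]

/-- Two exchanges give an element fixing the first isotropic line, acting on the middle space as the product of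
two reflections. -/
theorem exists_rotation (two : (2 : F) ≠ 0) {v b : Fin k → F} (hv : P.IsMid v) (hvv : sf P.S v v ≠ 0)
    (hb : P.IsMid b) (hbb : sf P.S b b ≠ 0) :
    ∃ g ∈ Om P.S, (g : Matrix (Fin k) (Fin k) F) *ᵥ P.eo = (sf P.S b b / sf P.S v v) • P.eo ∧
      ∀ z, P.IsMid z → (g : Matrix (Fin k) (Fin k) F) *ᵥ z =
        (z - (2 * sf P.S z b / sf P.S b b) • b) -
          (2 * sf P.S (z - (2 * sf P.S z b / sf P.S b b) • b) v / sf P.S v v) • v := by
  obtain ⟨g1, hg1, e1o, e1w, e1z⟩ := exists_exchange two hv hvv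
  obtain ⟨g2, hg2, e2o, e2w, e2z⟩ := exists_exchange two hb hbb
  refine ⟨g1 * g2, mul_mem hg1 hg2, ?_, fun z hz => ?_⟩
  · rw [Units.val_mul, ← mulVec_mulVec, e2o, mulVec_smul, e1w, smul_smul]
    congr 1
    field_simp
  · have hz' : P.IsMid (z - (2 * sf P.S z b / sf P.S b b) • b) := by
      rw [sub_eq_add_neg, ← neg_smul]; exact hz.add (hb.smul _)
    rw [Units.val_mul, ← mulVec_mulVec, e2z z hz, e1z _ hz']

/-- Multiplication of the first isotropic vector by a square. -/
theorem exists_scaling (two : (2 : F) ≠ 0) {c : F} (hc : c ≠ 0) :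
    ∃ g ∈ Om P.S, (g : Matrix (Fin k) (Fin k) F) *ᵥ P.eo = (c * c) • P.eo ∧
      ∀ z, P.IsMid z → (g : Matrix (Fin k) (Fin k) F) *ᵥ z = z := by
  obtain ⟨a0, a1⟩ := P.i2_ne
  set e : Fin k → F := Pi.single P.i2 1 with he
  have hm : P.IsMid e := isMid_single a0 a1
  have hee : sf P.S e e ≠ 0 := by rw [Std.sf_single_mid a0 a1]; exact P.w_ne _
  have hcc : sf P.S (c • e) (c • e) ≠ 0 := by
    rw [sf_smul_left, sf_smul_right]; exact mul_ne_zero hc (mul_ne_zero hc hee)
  obtain ⟨g, hg, ho, hz⟩ := exists_rotation two hm hee (hm.smul c) hcc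
  refine ⟨g, hg, ?_, fun z hzm => ?_⟩
  · rw [ho, sf_smul_left, sf_smul_right]
    congr 1
    field_simp
  · rw [hz z hzm]
    simp only [sf_smul_left, sf_smul_right, sf_sub_left, smul_smul]
    match_scalars <;> field_simp <;> ring

theorem conj_alt_Om (two : (2 : F) ≠ 0) {g : GL (Fin k) F} (hg : g ∈ Om P.S) (x y : Fin k → F) :
    (g : Matrix (Fin k) (Fin k) F) * alt P.S x y * ((g⁻¹ : GL (Fin k) F) : Matrix (Fin k) (Fin k) F) =
      alt P.S ((g : Matrix (Fin k) (Fin k) F) *ᵥ x) ((g : Matrix (Fin k) (Fin k) F) *ᵥ y) :=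
  WreathO.conj_alt P.S (Om_le_O P.S two hg) x y

/-! ### Stable groups of skew maps -/

section Stable

variable {R : AddSubgroup (Matrix (Fin k) (Fin k) F)}

/-- A nonzero member fixed by the Siegel transformations of the middle coordinates. -/
theorem exists_fixed (two : (2 : F) ≠ 0)
    (hconj : ∀ g ∈ Om P.S, ∀ A ∈ R, (g : Matrix (Fin k) (Fin k) F) * A * ((g⁻¹ : GL (Fin k) F) : Matrix _ _ F) ∈ R)
    {A₀ : Matrix (Fin k) (Fin k) F} (h0 : A₀ ∈ R) (hne : A₀ ≠ 0) :
    ∃ A ∈ R, A ≠ 0 ∧ ∀ a, a ≠ P.i0 → a ≠ P.i1 → Commute (alt P.S P.eo (Pi.single a 1)) A := by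
  classical
  set N : Fin k → Matrix (Fin k) (Fin k) F := fun a => alt P.S P.eo (Pi.single a 1) with hN
  set u : Fin k → GL (Fin k) F := fun a => expU two (N a) with hu
  have key : ∀ S : Finset (Fin k), (∀ a ∈ S, a ≠ P.i0 ∧ a ≠ P.i1) → ∃ A ∈ R, A ≠ 0 ∧
      ∀ a ∈ S, Commute (u a : Matrix (Fin k) (Fin k) F) A := by
    intro S
    induction S using Finset.induction with
    | empty => exact fun _ => ⟨A₀, h0, hne, by simp⟩
    | insert a S ha ih =>
      intro hS
      obtain ⟨A, hA, hA0, hcomm⟩ := ih fun b hb => hS b (Finset.mem_insert_of_mem hb)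
      obtain ⟨a0, a1⟩ := hS a (Finset.mem_insert_self _ _)
      have hcube : N a * N a * N a = 0 := alt_cube P.S P.eo_iso (isMid_single a0 a1).eo'
      have huO : u a ∈ Om P.S := expU_mem_Om two hcube (adj_alt _ _ _)
      set U : Matrix (Fin k) (Fin k) F := (u a : Matrix (Fin k) (Fin k) F)
      set V : Matrix (Fin k) (Fin k) F := ((u a)⁻¹ : GL (Fin k) F).val
      have hUV : U * V = 1 := Units.mul_inv _
      have hVU : V * U = 1 := Units.inv_mul _
      -- the difference operator
      let D : Matrix (Fin k) (Fin k) F → Matrix (Fin k) (Fin k) F := fun X => U * X * V - X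
      let c : Matrix (Fin k) (Fin k) F → Matrix (Fin k) (Fin k) F := fun X => U * X - X * U
      have hD : ∀ X, D X = c X * V := fun X => by
        simp only [D, c, sub_mul, mul_assoc, hUV, mul_one]
      have hcV : ∀ X, c (X * V) = c X * V := fun X => by
        simp only [c, sub_mul, mul_assoc, hUV, hVU]
      have hDR : ∀ X ∈ R, D X ∈ R := fun X hX => R.sub_mem (hconj _ huO X hX) hX
      have hDc : ∀ X, (∀ b ∈ S, Commute (u b : Matrix (Fin k) (Fin k) F) X) →
          ∀ b ∈ S, Commute (u b : Matrix (Fin k) (Fin k) F) (D X) := by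
        intro X hX b hb
        obtain ⟨b0, b1⟩ := hS b (Finset.mem_insert_of_mem hb)
        have hbc : Commute (N a) (N b) := by
          show _ * _ = _ * _
          rw [hN, mul_alt_mid (isMid_single a0 a1) (isMid_single b0 b1),
            mul_alt_mid (isMid_single b0 b1) (isMid_single a0 a1), sf_symm]
        have hcb : Commute (u b : Matrix (Fin k) (Fin k) F) U := by
          show Commute (expU two (N b)).val (expU two (N a)).val
          rw [expU_coe two hcube, expU_coe two (alt_cube P.S P.eo_iso (isMid_single b0 b1).eo')]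
          have h1 : Commute (N b) (N a) := hbc.symm
          exact Commute.add_right (Commute.add_right (Commute.one_right _)
            ((Commute.add_left (Commute.add_left (Commute.one_left _) h1) ((h1.mul_left h1).smul_left _))))
            ((Commute.add_left (Commute.add_left (Commute.one_left _) (h1.mul_right h1))
              (((h1.mul_left h1).mul_right (h1.mul_left h1)).smul_left _)).smul_right _)
        have hcbV : Commute (u b : Matrix (Fin k) (Fin k) F) V := hcb.units_inv_right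
        exact ((hcb.mul_right (hX b hb)).mul_right hcbV).sub_right (hX b hb)
      have hU : U = 1 + (N a + (2 : F)⁻¹ • (N a * N a)) := by
        show (expU two (N a)).val = _
        rw [expU_coe two hcube, add_assoc]
      set M := N a + (2 : F)⁻¹ • (N a * N a) with hM
      have hM3 : M * M * M = 0 := by
        simp only [hM, add_mul, mul_add, Matrix.smul_mul, Matrix.mul_smul, ← mul_assoc, hcube, Matrix.zero_mul,
          smul_zero, add_zero]
      have hc5 : ∀ X, c (c (c (c (c X)))) = 0 := by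
        intro X
        have e : ∀ Y, c Y = M * Y - Y * M := fun Y => by simp only [c, hU, add_mul, mul_add, one_mul, mul_one]; abel
        have hM3' : M * (M * M) = 0 := by rw [← mul_assoc, hM3]
        have hM4 : ∀ Y, M * (M * (M * Y)) = 0 := fun Y => by rw [← mul_assoc, ← mul_assoc, hM3, Matrix.zero_mul]
        simp only [e, mul_sub, sub_mul, mul_assoc, hM3', hM4, mul_zero, sub_zero, zero_sub, mul_neg, neg_mul,
          neg_zero, neg_neg]
      have hfix : ∀ X, D X = 0 → Commute U X := fun X hX => by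
        rw [hD] at hX
        have h1 := congrArg (· * U) hX
        simp only [mul_assoc, hVU, mul_one, zero_mul] at h1
        exact sub_eq_zero.mp h1
      have hstep : ∀ X ∈ R, X ≠ 0 → (∀ b ∈ S, Commute (u b : Matrix (Fin k) (Fin k) F) X) → D X = 0 →
          ∃ A ∈ R, A ≠ 0 ∧ ∀ b ∈ insert a S, Commute (u b : Matrix (Fin k) (Fin k) F) A := by
        intro X hX hX0 hXc hXD
        refine ⟨X, hX, hX0, fun b hb => ?_⟩
        rcases Finset.mem_insert.mp hb with rfl | hb
        · exact hfix X hXD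
        · exact hXc b hb
      have h5 : D (D (D (D (D A)))) = 0 := by
        simp only [hD, hcV, hc5, Matrix.zero_mul]
      by_cases e1 : D A = 0
      · exact hstep A hA hA0 hcomm e1
      by_cases e2 : D (D A) = 0
      · exact hstep _ (hDR _ hA) e1 (hDc _ hcomm) e2
      by_cases e3 : D (D (D A)) = 0
      · exact hstep _ (hDR _ (hDR _ hA)) e2 (hDc _ (hDc _ hcomm)) e3
      by_cases e4 : D (D (D (D A))) = 0
      · exact hstep _ (hDR _ (hDR _ (hDR _ hA))) e3 (hDc _ (hDc _ (hDc _ hcomm))) e4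
      exact hstep _ (hDR _ (hDR _ (hDR _ (hDR _ hA)))) e4 (hDc _ (hDc _ (hDc _ (hDc _ hcomm)))) h5
  obtain ⟨A, hA, hA0, hc⟩ := key (Finset.univ.filter fun a => a ≠ P.i0 ∧ a ≠ P.i1) fun a ha => (Finset.mem_filter.mp ha).2
  refine ⟨A, hA, hA0, fun a a0 a1 => ?_⟩
  have h1 := hc a (by simp [a0, a1])
  have hcube : N a * N a * N a = 0 := alt_cube P.S P.eo_iso (isMid_single a0 a1).eo'
  have h2 : Commute ((u a)⁻¹ : GL (Fin k) F).val A := h1.units_inv_left
  have e : (u a).val - ((u a)⁻¹ : GL (Fin k) F).val = (2 : F) • N a := by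
    have hi : ((u a)⁻¹ : GL (Fin k) F) = expU two ((-1 : F) • N a) := by
      have := expU_smul_inv two hcube 1
      rwa [one_smul] at this
    rw [hi]
    show (expU two (N a)).val - (expU two ((-1 : F) • N a)).val = _
    rw [expU_coe two hcube, expU_coe two (by simp [Matrix.smul_mul, Matrix.mul_smul, hcube])]
    simp only [Matrix.smul_mul, Matrix.mul_smul, smul_smul]
    module
  have h3 := (h1.sub_left h2).smul_left ((2 : F)⁻¹)
  rwa [e, smul_smul, inv_mul_cancel₀ two, one_smul] at h3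

/-- A skew map commuting with the Siegel nilpotents of the first isotropic vector. -/
theorem eq_alt_of_commute (two : (2 : F) ≠ 0) {A : Matrix (Fin k) (Fin k) F} (hA : adj P.S A = -A)
    (hc : ∀ a, a ≠ P.i0 → a ≠ P.i1 → Commute (alt P.S P.eo (Pi.single a 1)) A) :
    ∃ z, P.IsMid z ∧ A = alt P.S P.eo z := by
  have hsk : ∀ x y, sf P.S (A *ᵥ x) y = -sf P.S x (A *ᵥ y) := fun x y => by
    rw [adj_mulVec, hA, neg_mulVec, sf_neg_right]
  have hself : ∀ x, sf P.S (A *ᵥ x) x = 0 := fun x => by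
    have h := hsk x x
    rw [sf_symm P.S x (A *ᵥ x)] at h
    have h2 : (2 : F) * sf P.S (A *ᵥ x) x = 0 := by linear_combination h
    exact (mul_eq_zero.mp h2).resolve_left two
  have heq : ∀ a, a ≠ P.i0 → a ≠ P.i1 → ∀ x, sf P.S (A *ᵥ x) (Pi.single a 1) • P.eo -
      sf P.S (A *ᵥ x) P.eo • (Pi.single a 1 : Fin k → F) =
      A *ᵥ (sf P.S x (Pi.single a 1) • P.eo - sf P.S x P.eo • (Pi.single a 1 : Fin k → F)) := by
    intro a a0 a1 x
    rw [← alt_mulVec, ← alt_mulVec, mulVec_mulVec, mulVec_mulVec, (hc a a0 a1).eq]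
  have ho : ∀ a, a ≠ P.i0 → a ≠ P.i1 → sf P.S (A *ᵥ P.eo) (Pi.single a 1) = 0 := by
    intro a a0 a1
    have h := heq a a0 a1 P.eo
    simp only [hself, P.eo_iso, (isMid_single a0 a1).eo', zero_smul, sub_zero, mulVec_zero] at h
    exact (smul_eq_zero.mp h).resolve_right P.eo_ne_zero
  obtain ⟨α, hα⟩ : ∃ α : F, A *ᵥ P.eo = α • P.eo := by
    obtain ⟨z, hz, e⟩ := Std.decomp (P := P) (A *ᵥ P.eo)
    have h1 : (A *ᵥ P.eo) P.i1 = 0 := (P.f_eo (A *ᵥ P.eo)).symm.trans (hself _)
    rw [h1, zero_smul, zero_add] at e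
    have hz0 : z = 0 := hz.eq_zero fun a a0 a1 => by
      have := ho a a0 a1
      rwa [e, sf_add_left, sf_smul_left, (isMid_single a0 a1).eo', mul_zero, add_zero] at this
    exact ⟨(A *ᵥ P.eo) P.i0, by rw [hz0, zero_add] at e; exact e⟩
  have hmido : ∀ b, b ≠ P.i0 → b ≠ P.i1 → sf P.S (A *ᵥ Pi.single b 1) P.eo = 0 := fun b b0 b1 => by
    rw [hsk, hα, sf_smul_right, (isMid_single b0 b1).eo, mul_zero, neg_zero]
  have hmm : ∀ a, a ≠ P.i0 → a ≠ P.i1 → ∀ b, b ≠ P.i0 → b ≠ P.i1 →
      sf P.S (A *ᵥ Pi.single b 1) (Pi.single a 1) = sf P.S (Pi.single b 1 : Fin k → F) (Pi.single a 1) * α := by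
    intro a a0 a1 b b0 b1
    have h := heq a a0 a1 (Pi.single b 1)
    simp only [hmido b b0 b1, (isMid_single b0 b1).eo, zero_smul, sub_zero, mulVec_smul, hα, smul_smul] at h
    exact smul_left_injective F P.eo_ne_zero h
  have hα0 : α = 0 := by
    obtain ⟨c0, c1⟩ := P.i2_ne
    have h := hmm _ c0 c1 _ c0 c1
    rw [hself, Std.sf_single_mid c0 c1] at h
    exact (mul_eq_zero.mp h.symm).resolve_left (P.w_ne _)
  rw [hα0, zero_smul] at hα
  have hwo : (A *ᵥ P.ew) P.i1 = 0 := by rw [← P.f_eo (A *ᵥ P.ew), hsk, hα, sf_zero_right, neg_zero]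
  have hww : (A *ᵥ P.ew) P.i0 = 0 := (P.f_ew (A *ᵥ P.ew)).symm.trans (hself _)
  refine ⟨-(A *ᵥ P.ew), ⟨by simp [hww], by simp [hwo]⟩, ?_⟩
  refine Matrix.ext_of_mulVec_single fun b => ?_
  rw [alt_mulVec]
  rcases eq_or_ne b P.i0 with rfl | b0
  · change A *ᵥ P.eo = sf P.S P.eo _ • P.eo - sf P.S P.eo P.eo • _
    rw [hα, P.eo_iso, zero_smul, sub_zero, sf_neg_right, sf_symm, P.f_eo, hwo, neg_zero, zero_smul]
  rcases eq_or_ne b P.i1 with rfl | b1
  · change A *ᵥ P.ew = sf P.S P.ew _ • P.eo - sf P.S P.ew P.eo • _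
    rw [P.ew_eo, one_smul, sub_neg_eq_add, sf_neg_right, sf_symm, P.f_ew, hww, neg_zero, zero_smul, zero_add]
  obtain ⟨z, hz, e⟩ := Std.decomp (P := P) (A *ᵥ Pi.single b 1)
  have h1 : (A *ᵥ Pi.single b 1) P.i1 = 0 := (P.f_eo (A *ᵥ Pi.single b 1)).symm.trans (hmido b b0 b1)
  rw [h1, zero_smul, zero_add] at e
  have hz0 : z = 0 := hz.eq_zero fun a a0 a1 => by
    have := hmm a a0 a1 b b0 b1
    rwa [hα0, mul_zero, e, sf_add_left, sf_smul_left, (isMid_single a0 a1).eo', mul_zero, add_zero] at this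
  rw [hz0, zero_add] at e
  rw [(isMid_single b0 b1).eo, zero_smul, sub_zero, sf_neg_right, ← hsk, P.f_ew]
  exact e

/-- A nonzero stable group of skew maps contains all skew maps. -/
theorem skew_all (hP : P.Good)
    (hconj : ∀ g ∈ Om P.S, ∀ A ∈ R, (g : Matrix (Fin k) (Fin k) F) * A * ((g⁻¹ : GL (Fin k) F) : Matrix _ _ F) ∈ R)
    (hskew : ∀ A ∈ R, adj P.S A = -A) {A₀ : Matrix (Fin k) (Fin k) F} (h0 : A₀ ∈ R) (hne : A₀ ≠ 0)
    {A : Matrix (Fin k) (Fin k) F} (hA : adj P.S A = -A) : A ∈ R := by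
  classical
  have two := hP.two
  obtain ⟨A₁, hA₁, hA₁0, hcomm⟩ := exists_fixed two hconj h0 hne
  obtain ⟨z, hz, rfl⟩ := eq_alt_of_commute two (hskew _ hA₁) hcomm
  have hz0 : z ≠ 0 := fun e => hA₁0 (by rw [e, alt, rk_zero_right, rk_zero_left, sub_zero])
  let W : Submodule F (Matrix (Fin k) (Fin k) F) :=
    { carrier := {X | ∀ c : F, c • X ∈ R}
      zero_mem' := fun c => by rw [smul_zero]; exact R.zero_mem
      add_mem' := fun {X Y} h h' c => by rw [smul_add]; exact R.add_mem (h c) (h' c)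
      smul_mem' := fun a X h c => by rw [smul_smul]; exact h (c * a) }
  let V : Submodule F (Fin k → F) :=
    { carrier := {x | alt P.S P.eo x ∈ W}
      zero_mem' := by show _ ∈ W; rw [alt, rk_zero_right, rk_zero_left, sub_zero]; exact W.zero_mem
      add_mem' := fun {x y} (h : _ ∈ W) (h' : _ ∈ W) => by show _ ∈ W; rw [alt_add_right]; exact W.add_mem h h'
      smul_mem' := fun c x (h : _ ∈ W) => by show _ ∈ W; rw [alt_smul_right]; exact W.smul_mem c h }
  have hWconj : ∀ g ∈ Om P.S, ∀ X ∈ W,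
      (g : Matrix (Fin k) (Fin k) F) * X * ((g⁻¹ : GL (Fin k) F) : Matrix _ _ F) ∈ W := fun g hg X hX c => by
    have := hconj g hg _ (hX c)
    rwa [Matrix.mul_smul, Matrix.smul_mul] at this
  -- all multiples
  have hzV : z ∈ V := by
    intro c
    have hsq : ∀ d : F, (d * d) • alt P.S P.eo z ∈ R := fun d => by
      rcases eq_or_ne d 0 with rfl | hd
      · rw [mul_zero, zero_smul]; exact R.zero_mem
      obtain ⟨g, hg, ho, hg'⟩ := exists_scaling (P := P) two hd
      have h := hconj g hg _ hA₁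
      rwa [conj_alt_Om two hg, ho, hg' z hz, alt_smul_left] at h
    have e : c • alt P.S P.eo z = ((1 + c / 2) * (1 + c / 2)) • alt P.S P.eo z -
        ((1 : F) * 1) • alt P.S P.eo z - ((c / 2) * (c / 2)) • alt P.S P.eo z := by
      match_scalars
      field_simp
      ring
    rw [e]
    exact R.sub_mem (R.sub_mem (hsq _) (hsq _)) (hsq _)
  have hrot : ∀ v, P.IsMid v → sf P.S v v ≠ 0 → ∀ b, P.IsMid b → sf P.S b b ≠ 0 → ∀ x, P.IsMid x → x ∈ V →
      (x - (2 * sf P.S x b / sf P.S b b) • b) -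
        (2 * sf P.S (x - (2 * sf P.S x b / sf P.S b b) • b) v / sf P.S v v) • v ∈ V := by
    intro v hv hvv b hb hbb x hx hxV
    obtain ⟨g, hg, ho, hg'⟩ := exists_rotation two hv hvv hb hbb
    have h : _ ∈ W := hWconj g hg _ hxV
    rw [conj_alt_Om two hg, ho, hg' x hx, alt_smul_left] at h
    show _ ∈ W
    have h' := W.smul_mem (sf P.S b b / sf P.S v v)⁻¹ h
    rwa [smul_smul, inv_mul_cancel₀ (div_ne_zero hbb hvv), one_smul] at h'
  -- reflections of an anisotropic member
  have hmeet : ∀ y, P.IsMid y → sf P.S y y ≠ 0 → y ∈ V → ∀ v, P.IsMid v → sf P.S v v ≠ 0 → sf P.S y v ≠ 0 →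
      v ∈ V := by
    intro y hy hyy hyV v hv hvv hyv
    have h := hrot v hv hvv y hy hyy y hy hyV
    rw [show 2 * sf P.S y y / sf P.S y y = 2 by field_simp, show y - (2 : F) • y = -y by module,
      sf_neg_left] at h
    have h' := V.smul_mem (sf P.S v v / (2 * sf P.S y v)) (V.add_mem h hyV)
    convert h' using 1
    match_scalars <;> field_simp <;> ring
  -- a coordinate
  obtain ⟨b, b0, b1, hbV⟩ : ∃ b, b ≠ P.i0 ∧ b ≠ P.i1 ∧ (Pi.single b 1 : Fin k → F) ∈ V := by
    obtain ⟨b, b0, b1, hzb⟩ : ∃ b, b ≠ P.i0 ∧ b ≠ P.i1 ∧ z b ≠ 0 := by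
      by_contra hall
      refine hz0 (funext fun x => ?_)
      rcases eq_or_ne x P.i0 with rfl | x0
      · exact hz.1
      rcases eq_or_ne x P.i1 with rfl | x1
      · exact hz.2
      by_contra hx
      exact hall ⟨x, x0, x1, hx⟩
    have hbb : sf P.S (Pi.single b 1 : Fin k → F) (Pi.single b 1) ≠ 0 := by
      rw [Std.sf_single_mid b0 b1]; exact P.w_ne b
    by_cases hzz : sf P.S z z = 0
    swap
    · refine ⟨b, b0, b1, hmeet z hz hzz hzV _ (isMid_single b0 b1) hbb ?_⟩
      rw [sf_single_mid_right _ b0 b1]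
      exact mul_ne_zero (P.w_ne b) hzb
    have hk : 5 ≤ k := by
      by_contra hlt
      rcases (show k = 3 ∨ k = 4 by have := P.hk; omega) with h3 | h4
      · have hsum := Std.decomp (P := P) z
        have hzs : z = z b • (Pi.single b 1 : Fin k → F) := by
          funext x
          rcases eq_or_ne x b with rfl | hxb
          · simp
          simp only [Pi.smul_apply, Pi.single_eq_of_ne hxb, smul_eq_mul, mul_zero]
          rcases eq_or_ne x P.i0 with rfl | x0
          · exact hz.1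
          rcases eq_or_ne x P.i1 with rfl | x1
          · exact hz.2
          exfalso
          simp [Std.i0, Std.i1, Fin.ext_iff] at b0 b1 x0 x1
          exact hxb (Fin.ext (by omega))
        rw [hzs, sf_smul_left, sf_smul_right] at hzz
        simp [hzb, hbb] at hzz
      · exact hz0 (hP.minus h4 z hz hzz)
    -- removing two coordinates
    have hd : ∀ x y : Fin k, x ≠ P.i0 → x ≠ P.i1 → y ≠ P.i0 → y ≠ P.i1 → x ≠ y →
        z x • (Pi.single x 1 : Fin k → F) + z y • Pi.single y 1 ∈ V := by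
      intro x y x0 x1 y0 y1 hxy
      have hxx : sf P.S (Pi.single x 1 : Fin k → F) (Pi.single x 1) ≠ 0 := by
        rw [Std.sf_single_mid x0 x1]; exact P.w_ne x
      have hyy : sf P.S (Pi.single y 1 : Fin k → F) (Pi.single y 1) ≠ 0 := by
        rw [Std.sf_single_mid y0 y1]; exact P.w_ne y
      have h := hrot _ (isMid_single x0 x1) hxx _ (isMid_single y0 y1) hyy z hz hzV
      rw [sf_sub_left, sf_smul_left, sf_singles_ne x0 x1 hxy, mul_zero, sub_zero, sf_single_mid_right _ x0 x1,
        sf_single_mid_right _ y0 y1, Std.sf_single_mid x0 x1, Std.sf_single_mid y0 y1] at h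
      have h' := V.smul_mem (2 : F)⁻¹ (V.sub_mem hzV h)
      convert h' using 1
      have hwx := P.w_ne x
      have hwy := P.w_ne y
      match_scalars <;> field_simp <;> ring
    obtain ⟨x, -, hx⟩ := Finset.exists_mem_notMem_of_card_lt_card
      (s := ({P.i0, P.i1, b} : Finset (Fin k))) (t := Finset.univ) (by
        rw [Finset.card_univ, Fintype.card_fin]
        exact lt_of_le_of_lt Finset.card_le_three (by omega))
    simp only [Finset.mem_insert, Finset.mem_singleton, not_or] at hx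
    obtain ⟨x0, x1, xb⟩ := hx
    obtain ⟨y, -, hy⟩ := Finset.exists_mem_notMem_of_card_lt_card
      (s := ({P.i0, P.i1, b, x} : Finset (Fin k))) (t := Finset.univ) (by
        rw [Finset.card_univ, Fintype.card_fin]
        exact lt_of_le_of_lt Finset.card_le_four (by omega))
    simp only [Finset.mem_insert, Finset.mem_singleton, not_or] at hy
    obtain ⟨y0, y1, yb, yx⟩ := hy
    refine ⟨b, b0, b1, ?_⟩
    have h := V.sub_mem (V.add_mem (hd b x b0 b1 x0 x1 (Ne.symm xb)) (hd b y b0 b1 y0 y1 (Ne.symm yb)))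
      (hd x y x0 x1 y0 y1 (Ne.symm yx))
    have h' := V.smul_mem (2 * z b)⁻¹ h
    convert h' using 1
    match_scalars <;> field_simp <;> ring
  -- all coordinates
  have hall : ∀ a, a ≠ P.i0 → a ≠ P.i1 → (Pi.single a 1 : Fin k → F) ∈ V := fun a a0 a1 =>
    single_mem hP V b0 b1 (fun v hv hvv hvb => hmeet _ (isMid_single b0 b1)
      (by rw [Std.sf_single_mid b0 b1]; exact P.w_ne b) hbV v hv hvv
      (by rw [sf_symm, sf_single_mid_right _ b0 b1]; exact mul_ne_zero (P.w_ne b) hvb)) a0 a1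
  have hwa : ∀ a, a ≠ P.i0 → a ≠ P.i1 → alt P.S P.ew (Pi.single a 1) ∈ W := by
    intro a a0 a1
    have haa : sf P.S (Pi.single a 1 : Fin k → F) (Pi.single a 1) ≠ 0 := by
      rw [Std.sf_single_mid a0 a1]; exact P.w_ne a
    obtain ⟨g, hg, ho, -, hg'⟩ := exists_exchange two (isMid_single a0 a1) haa
    have h := hWconj g hg _ (hall a a0 a1)
    rw [conj_alt_Om two hg, ho, hg' _ (isMid_single a0 a1)] at h
    have h' := W.smul_mem (2 / sf P.S (Pi.single a 1 : Fin k → F) (Pi.single a 1)) h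
    rw [show (2 * sf P.S (Pi.single a 1 : Fin k → F) (Pi.single a 1)) /
      sf P.S (Pi.single a 1 : Fin k → F) (Pi.single a 1) = 2 by field_simp,
      show (Pi.single a 1 : Fin k → F) - (2 : F) • Pi.single a 1 = (-1 : F) • Pi.single a 1 by module,
      alt_smul_left, alt_smul_right, smul_smul, smul_smul] at h'
    convert h' using 1
    rw [show (2 / sf P.S (Pi.single a 1 : Fin k → F) (Pi.single a 1)) *
      (-(sf P.S (Pi.single a 1 : Fin k → F) (Pi.single a 1) / 2)) * -1 = 1 by field_simp, one_smul]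
  have hroot : ∀ a, a ≠ P.i0 → a ≠ P.i1 → ∀ b, b ≠ P.i0 → b ≠ P.i1 →
      alt P.S (P.ew - Pi.single b 1 - (P.w b / 2) • P.eo)
        ((Pi.single a 1 : Fin k → F) + sf P.S (Pi.single a 1 : Fin k → F) (Pi.single b 1) • P.eo) ∈ W := by
    intro a a0 a1 b b0 b1
    have hcube := alt_cube P.S P.eo_iso (isMid_single (P := P) b0 b1).eo'
    have hg : expU two (alt P.S P.eo (Pi.single b 1)) ∈ Om P.S := expU_mem_Om two hcube (adj_alt _ _ _)
    have hbm := isMid_single (P := P) b0 b1
    have ha' := isMid_single (P := P) a0 a1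
    have e : ∀ x, (expU two (alt P.S P.eo (Pi.single b 1))).val *ᵥ x = x + (sf P.S x (Pi.single b 1) • P.eo -
        sf P.S x P.eo • (Pi.single b 1 : Fin k → F)) + (2 : F)⁻¹ • (-(sf P.S (Pi.single b 1 : Fin k → F)
          (Pi.single b 1)) * sf P.S x P.eo) • P.eo := fun x => by
      rw [expU_coe two hcube, alt_sq P.S P.eo_iso hbm.eo', add_mulVec, add_mulVec, one_mulVec, alt_mulVec,
        smul_mulVec, smul_mulVec, rk_mulVec]
      module
    have h := hWconj _ hg _ (hwa a a0 a1)
    rw [conj_alt_Om two hg, e, e, P.ew_eo, hbm.ew', ha'.eo, Std.sf_single_mid b0 b1] at h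
    convert h using 2 <;> module
  suffices hxy : ∀ x y, alt P.S (Pi.single x 1) (Pi.single y 1) ∈ W by
    have h : _ ∈ W := skew_mem P.S two W hxy hA
    have h1 := h 1
    rwa [one_smul] at h1
  intro x y
  have hmm : ∀ a, a ≠ P.i0 → a ≠ P.i1 → ∀ b, b ≠ P.i0 → b ≠ P.i1 → b ≠ a →
      alt P.S (Pi.single b 1) (Pi.single a 1) ∈ W := by
    intro a a0 a1 b b0 b1 hba
    have h := hroot a a0 a1 b b0 b1
    rw [sf_singles_ne b0 b1 hba, zero_smul, add_zero, sub_eq_add_neg, sub_eq_add_neg, alt_add_left, alt_add_left,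
      ← neg_one_smul F (Pi.single b 1 : Fin k → F), ← neg_smul, alt_smul_left, alt_smul_left, neg_one_smul] at h
    have h' := W.sub_mem (W.add_mem (hwa a a0 a1) (W.smul_mem (-(P.w b / 2)) (hall a a0 a1))) h
    convert h' using 1
    abel
  have how : alt P.S P.eo P.ew ∈ W := by
    obtain ⟨a0, a1⟩ := P.i2_ne
    have h := hroot _ a0 a1 _ a0 a1
    have h' := W.sub_mem h (W.add_mem (hwa _ a0 a1) (W.smul_mem (P.w P.i2 / 2) (hall _ a0 a1)))
    rw [Std.sf_single_mid a0 a1] at h'
    have h'' := W.smul_mem (-(P.w P.i2))⁻¹ h'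
    convert h'' using 1
    simp only [sub_eq_add_neg, alt_add_left, alt_add_right, ← neg_one_smul F (Pi.single P.i2 1 : Fin k → F),
      ← neg_smul, alt_smul_left, alt_smul_right, alt_self, alt_swap P.S P.eo (Pi.single P.i2 1),
      alt_swap P.S P.eo P.ew]
    have := P.w_ne P.i2
    match_scalars <;> field_simp <;> ring
  rcases eq_or_ne x y with rfl | hxy
  · rw [alt_self]; exact W.zero_mem
  rcases eq_or_ne x P.i0 with rfl | x0
  · rcases eq_or_ne y P.i1 with rfl | y1
    · exact how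
    · exact hall y hxy.symm y1
  rcases eq_or_ne x P.i1 with rfl | x1
  · rcases eq_or_ne y P.i0 with rfl | y0
    · rw [alt_swap]; exact W.neg_mem how
    · exact hwa y y0 hxy.symm
  rcases eq_or_ne y P.i0 with rfl | y0
  · rw [alt_swap]; exact W.neg_mem (hall x x0 x1)
  rcases eq_or_ne y P.i1 with rfl | y1
  · rw [alt_swap]; exact W.neg_mem (hwa x x0 x1)
  exact hmm y y0 y1 x x0 x1 hxy

end Stable

end Std

end Cfsg.Agent.WreathO
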