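import Cfsg.Agent.WreathO.SlotSpan
import Cfsg.Agent.WreathO.SeedSlot
import Cfsg.Agent.WreathO.Gen

/-!
Operators on the maps of one slot, built additively from conjugation by the commutator subgroup of the slot: the
maps fixed by a Siegel group up to scalars, isolation of the square of a root matrix and of a root matrix
(helper42).
-/

set_option autoImplicit false
set_option linter.unusedSectionVars false
set_option linter.unusedSimpArgs false

namespace Cfsg.Agent.WreathO

open Matrix Cfsg.Agent.MaxSub Cfsg.Agent.MaxSub.Asch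

variable {F : Type*} [Field F] {k : ℕ} {P : Std k F}

/-- A scalar map. -/
def Sc (X : Matrix (Fin k) (Fin k) F) : Prop := ∃ r : F, X = r • 1

theorem Sc.zero : Sc (0 : Matrix (Fin k) (Fin k) F) := ⟨0, (zero_smul _ _).symm⟩

/-- Conjugation as an operator. -/
def cop (g : GL (Fin k) F) : Module.End F (Matrix (Fin k) (Fin k) F) := (conjHom g).toLinearMap

theorem cop_apply (g : GL (Fin k) F) (X : Matrix (Fin k) (Fin k) F) :
    cop g X = (g : Matrix (Fin k) (Fin k) F) * X * ((g⁻¹ : GL (Fin k) F) : Matrix (Fin k) (Fin k) F) := rfl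

theorem cop_apply_one (g : GL (Fin k) F) : cop g 1 = 1 := by rw [cop_apply, mul_one, Units.mul_inv]

/-- Conjugation as a homomorphism. -/
def copHom : GL (Fin k) F →* Module.End F (Matrix (Fin k) (Fin k) F) where
  toFun := cop
  map_one' := LinearMap.ext fun X => by simp [cop_apply]
  map_mul' g h := LinearMap.ext fun X => by
    rw [Module.End.mul_apply, cop_apply, cop_apply, cop_apply, _root_.mul_inv_rev, Units.val_mul, Units.val_mul]
    simp only [mul_assoc]

theorem cop_mul (g h : GL (Fin k) F) : cop (g * h) = cop g * cop h := map_mul copHom g h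

/-- The operators contain the conjugations by the commutator subgroup. -/
def HasOm (P : Std k F) (A : Subring (Module.End F (Matrix (Fin k) (Fin k) F))) : Prop :=
  ∀ g ∈ Om P.S, cop g ∈ A

variable (P) in
/-- The maps fixed by the Siegel group of the first isotropic vector. -/
def InV (X : Matrix (Fin k) (Fin k) F) : Prop :=
  ∃ a b : F, ∃ γ, P.IsMid γ ∧ X = a • 1 + b • P.E + alt P.S P.eo γ

variable (P) in
/-- The reflection along a middle vector, on vectors. -/
def rf (v γ : Fin k → F) : Fin k → F := γ - (2 * sf P.S γ v / sf P.S v v) • v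

theorem rf_isMid {v γ : Fin k → F} (hv : P.IsMid v) (hγ : P.IsMid γ) : P.IsMid (rf P v γ) := by
  rw [rf, sub_eq_add_neg, ← neg_smul]
  exact hγ.add (hv.smul _)

theorem rf_rf {v : Fin k → F} (hvv : sf P.S v v ≠ 0) (γ : Fin k → F) : rf P v (rf P v γ) = γ := by
  rw [rf, rf, sf_sub_left, sf_smul_left]
  match_scalars <;> field_simp <;> ring

theorem rf_single {a : Fin k} (a0 : a ≠ P.i0) (a1 : a ≠ P.i1) (γ : Fin k → F) :
    rf P (Pi.single a 1) γ = γ - (2 * γ a) • (Pi.single a 1 : Fin k → F) := by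
  rw [rf, Std.sf_single_mid a0 a1, Std.sf_single_mid_right γ a0 a1]
  congr 2
  have := P.w_ne a
  field_simp

variable [Fintype F]

theorem cop_alt (two : (2 : F) ≠ 0) {g : GL (Fin k) F} (hg : g ∈ Om P.S) (x y : Fin k → F) :
    cop g (alt P.S x y) = alt P.S (g.val *ᵥ x) (g.val *ᵥ y) := Std.conj_alt_Om two hg x y

theorem cop_rk (two : (2 : F) ≠ 0) {g : GL (Fin k) F} (hg : g ∈ Om P.S) (x y : Fin k → F) :
    cop g (rk P.S x y) = rk P.S (g.val *ᵥ x) (g.val *ᵥ y) := conj_rk P.S (Om_le_O P.S two hg) x y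

theorem cop_sym (two : (2 : F) ≠ 0) {g : GL (Fin k) F} (hg : g ∈ Om P.S) (x y : Fin k → F) :
    cop g (sym P.S x y) = sym P.S (g.val *ᵥ x) (g.val *ᵥ y) := conj_sym (Om_le_O P.S two hg) x y

/-- A map fixed up to scalars by the Siegel group is fixed. -/
theorem inV_of_fixed (hP : P.Good) {X : Matrix (Fin k) (Fin k) F}
    (h : ∀ z, P.IsMid z → Sc (cop (go P hP.two z) X - X)) : InV P X := by
  classical
  have two := hP.two
  have hcmp : ∀ z, P.IsMid z → ∃ s : F, ∀ y : Fin k → F,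
      sf P.S (X *ᵥ y) z • P.eo - sf P.S (X *ᵥ y) P.eo • z -
          ((2 : F)⁻¹ * (sf P.S z z * sf P.S (X *ᵥ y) P.eo)) • P.eo =
        sf P.S y z • (X *ᵥ P.eo) - sf P.S y P.eo • (X *ᵥ z) -
          ((2 : F)⁻¹ * (sf P.S z z * sf P.S y P.eo)) • (X *ᵥ P.eo) +
          s • (y + (sf P.S y z • P.eo - sf P.S y P.eo • z) -
            ((2 : F)⁻¹ * (sf P.S z z * sf P.S y P.eo)) • P.eo) := by
    intro z hz
    obtain ⟨s, hs⟩ := h z hz
    refine ⟨s, fun y => ?_⟩
    set u := go P two z with hu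
    have hs' : cop u X = X + s • 1 := by rw [← hs]; abel
    have e : u.val * X = (X + s • 1) * u.val := by
      rw [← hs', cop_apply, mul_assoc, Units.inv_mul, mul_one]
    have h1 := congrArg (fun M => M *ᵥ y) e
    simp only [← mulVec_mulVec, add_mulVec, smul_mulVec, one_mulVec] at h1
    rw [hu, go, siegel_mulVec two P.eo_iso hz.eo', siegel_mulVec two P.eo_iso hz.eo'] at h1
    simp only [mulVec_add, mulVec_sub, mulVec_smul, smul_add, smul_sub, smul_smul] at h1
    linear_combination (norm := module) h1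
  have hcoord : ∀ y : Fin k → F, sf P.S y P.eo = y P.i1 := P.f_eo
  have hmid_coord : ∀ y : Fin k → F, ∀ a, a ≠ P.i0 → a ≠ P.i1 → sf P.S y (Pi.single a 1) = P.w a * y a :=
    fun y a a0 a1 => Std.sf_single_mid_right y a0 a1
  set α := (X *ᵥ P.eo) P.i0 with hα
  have eo_a : ∀ a, a ≠ P.i0 → P.eo a = 0 := fun a ha => by simp [Std.eo, ha]
  have ew_a : ∀ a, a ≠ P.i1 → P.ew a = 0 := fun a ha => by simp [Std.ew, ha]
  have eo_0 : P.eo P.i0 = 1 := by simp [Std.eo]
  have ew_1 : P.ew P.i1 = 1 := by simp [Std.ew]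
  have h10 : P.i1 ≠ P.i0 := P.i0_ne_i1.symm
  -- the first isotropic vector
  have hβ : (X *ᵥ P.eo) P.i1 = 0 := by
    obtain ⟨a0, a1⟩ := P.i2_ne
    obtain ⟨s, hs⟩ := hcmp _ (Std.isMid_single (P := P) a0 a1)
    have h1 := congrFun (hs P.eo) P.i2
    simp only [Pi.add_apply, Pi.sub_apply, Pi.smul_apply, smul_eq_mul, hcoord, hmid_coord _ _ a0 a1, eo_a _ a0,
      eo_a _ h10, Pi.single_eq_same, mul_zero, zero_mul, sub_zero, zero_sub, add_zero, mul_one, neg_eq_zero] at h1
    exact h1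
  -- the scalar of a transformation
  have hval : ∀ z, P.IsMid z → ∀ y : Fin k → F,
      sf P.S (X *ᵥ y) z • P.eo - (X *ᵥ y) P.i1 • z - ((2 : F)⁻¹ * (sf P.S z z * (X *ᵥ y) P.i1)) • P.eo =
        sf P.S y z • (X *ᵥ P.eo) - y P.i1 • (X *ᵥ z) - ((2 : F)⁻¹ * (sf P.S z z * y P.i1)) • (X *ᵥ P.eo) +
          sf P.S (X *ᵥ P.eo) z • (y + (sf P.S y z • P.eo - y P.i1 • z) -
            ((2 : F)⁻¹ * (sf P.S z z * y P.i1)) • P.eo) := by
    intro z hz y
    obtain ⟨s, hs⟩ := hcmp z hz
    have h1 := congrFun (hs P.eo) P.i0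
    simp only [Pi.add_apply, Pi.sub_apply, Pi.smul_apply, smul_eq_mul, hcoord, hβ, hz.eo', eo_0, eo_a _ h10, hz.1,
      mul_zero, zero_mul, sub_zero, zero_sub, add_zero, zero_add, mul_one] at h1
    have h2 := hs y
    simp only [hcoord] at h2
    rw [h1]
    exact h2
  -- the middle part of the image of the first isotropic vector
  have hm : ∀ b, b ≠ P.i0 → b ≠ P.i1 → (X *ᵥ P.eo) b = 0 := by
    intro b b0 b1
    by_cases hk : k = 3
    · have hw := P.w_ne b
      obtain ⟨c, hc0, hc1⟩ : ∃ c : F, c ≠ 0 ∧ c * c ≠ 1 := by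
        by_contra hc
        push Not at hc
        refine hP.hex ⟨?_, hk⟩
        rw [Nat.card_eq_fintype_card]
        have hm1 : (1 : F) ≠ -1 := fun h => two (by linear_combination h)
        have huniv : (Finset.univ : Finset F) = {0, 1, -1} := by
          ext c
          simp only [Finset.mem_univ, Finset.mem_insert, Finset.mem_singleton, true_iff]
          by_cases h0 : c = 0
          · exact Or.inl h0
          · exact Or.inr (mul_self_eq_one_iff.mp (hc c h0))
        rw [← Finset.card_univ, huniv, Finset.card_insert_of_notMem (by simp [two]),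
          Finset.card_pair hm1]
      have hl : ∀ l : F, l * (P.w b * (X *ᵥ P.ew) b) - (2 : F)⁻¹ * (l * l * P.w b) * (X *ᵥ P.ew) P.i1 =
          -(l * (X *ᵥ Pi.single b 1) P.i0) - (2 : F)⁻¹ * (l * l * P.w b) * α -
            (2 : F)⁻¹ * (l * l * l) * (P.w b * P.w b) * (X *ᵥ P.eo) b := by
        intro l
        have h1 := congrFun (hval _ ((Std.isMid_single (P := P) b0 b1).smul l) P.ew) P.i0
        simp only [Pi.add_apply, Pi.sub_apply, Pi.smul_apply, smul_eq_mul, sf_smul_left, sf_smul_right,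
          hmid_coord _ _ b0 b1, Pi.single_eq_same, Pi.single_eq_of_ne b0.symm, eo_0, ew_1, ew_a _ b1,
          ew_a _ P.i0_ne_i1, mulVec_smul, mul_zero, zero_mul, mul_one, one_mul, sub_zero, zero_sub, add_zero,
          zero_add] at h1
        rw [← hα] at h1
        linear_combination h1
      have e1 := hl 1
      have e2 := hl (-1)
      have e3 := hl c
      have e4 := hl (-c)
      have hz : (c * (c * c - 1)) * ((P.w b * P.w b) * ((2 : F)⁻¹ * 2) * (X *ᵥ P.eo) b) = 0 := by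
        linear_combination (e3 - e4) - c * (e1 - e2)
      rw [inv_mul_cancel₀ two, mul_one] at hz
      have h1 : c * c - 1 ≠ 0 := sub_ne_zero.mpr hc1
      exact ((mul_eq_zero.mp ((mul_eq_zero.mp hz).resolve_left (mul_ne_zero hc0 h1))).resolve_left
        (mul_ne_zero hw hw))
    · obtain ⟨a, a0, a1, hab⟩ : ∃ a, a ≠ P.i0 ∧ a ≠ P.i1 ∧ a ≠ b := by
        have hcard : ({P.i0, P.i1, b} : Finset (Fin k)).card < Fintype.card (Fin k) := by
          refine lt_of_le_of_lt (Finset.card_le_three) ?_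
          have := P.hk
          simp only [Fintype.card_fin]
          omega
        obtain ⟨a, -, ha⟩ := Finset.exists_mem_notMem_of_card_lt_card
          (s := ({P.i0, P.i1, b} : Finset (Fin k))) (t := Finset.univ) hcard
        simp only [Finset.mem_insert, Finset.mem_singleton, not_or] at ha
        exact ⟨a, ha.1, ha.2.1, ha.2.2⟩
      have h1 := congrFun (hval _ (Std.isMid_single (P := P) b0 b1) (Pi.single a 1)) a
      simp only [Pi.add_apply, Pi.sub_apply, Pi.smul_apply, smul_eq_mul, hmid_coord _ _ b0 b1, Pi.single_eq_same,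
        Pi.single_eq_of_ne hab, Pi.single_eq_of_ne hab.symm, Pi.single_eq_of_ne a1.symm, eo_a _ a0, mul_zero,
        zero_mul, mul_one, sub_zero, zero_sub, add_zero, zero_add, neg_zero] at h1
      exact (mul_eq_zero.mp h1.symm).resolve_left (P.w_ne b)
  have hXo : X *ᵥ P.eo = α • P.eo := by
    funext b
    rcases eq_or_ne b P.i0 with rfl | b0
    · simp [eo_0, hα]
    rcases eq_or_ne b P.i1 with rfl | b1
    · simp [eo_a _ b0, hβ]
    · simp [eo_a _ b0, hm b b0 b1]
  have hval' : ∀ z, P.IsMid z → ∀ y : Fin k → F,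
      sf P.S (X *ᵥ y) z • P.eo - (X *ᵥ y) P.i1 • z - ((2 : F)⁻¹ * (sf P.S z z * (X *ᵥ y) P.i1)) • P.eo =
        (α * sf P.S y z) • P.eo - y P.i1 • (X *ᵥ z) - ((2 : F)⁻¹ * (sf P.S z z * y P.i1) * α) • P.eo := by
    intro z hz y
    have h1 := hval z hz y
    rw [hXo, sf_smul_left, hz.eo', mul_zero, zero_smul, add_zero, smul_smul, smul_smul] at h1
    rw [h1, mul_comm α]
  -- the middle vectors
  have hmid : ∀ y, P.IsMid y → (X *ᵥ y) P.i1 = 0 ∧ ∀ b, b ≠ P.i0 → b ≠ P.i1 → (X *ᵥ y) b = α * y b := by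
    intro y hy
    have h1 : ∀ b, b ≠ P.i0 → b ≠ P.i1 → (X *ᵥ y) P.i1 = 0 := fun b b0 b1 => by
      have h := congrFun (hval' _ (Std.isMid_single (P := P) b0 b1) y) b
      simp only [Pi.sub_apply, Pi.smul_apply, smul_eq_mul, eo_a _ b0, hy.2, Pi.single_eq_same, mul_zero, zero_mul,
        mul_one, sub_zero, zero_sub, neg_eq_zero] at h
      exact h
    have h1' := h1 _ P.i2_ne.1 P.i2_ne.2
    refine ⟨h1', fun b b0 b1 => ?_⟩
    have h := congrFun (hval' _ (Std.isMid_single (P := P) b0 b1) y) P.i0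
    simp only [Pi.sub_apply, Pi.smul_apply, smul_eq_mul, eo_0, hy.2, h1', hmid_coord _ _ b0 b1, mul_zero, zero_mul,
      mul_one, sub_zero] at h
    exact mul_left_cancel₀ (P.w_ne b) (by linear_combination h)
  -- the second isotropic vector
  have hw1 : (X *ᵥ P.ew) P.i1 = α := by
    obtain ⟨a0, a1⟩ := P.i2_ne
    have h := congrFun (hval' _ (Std.isMid_single (P := P) a0 a1) P.ew) P.i2
    simp only [Pi.sub_apply, Pi.smul_apply, smul_eq_mul, eo_a _ a0, ew_1, Pi.single_eq_same,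
      (hmid _ (Std.isMid_single a0 a1)).2 _ a0 a1, mul_zero, mul_one, one_mul, sub_zero, zero_sub, neg_inj] at h
    exact h
  have hw2 : ∀ b, b ≠ P.i0 → b ≠ P.i1 → (X *ᵥ Pi.single b 1) P.i0 = -(P.w b * (X *ᵥ P.ew) b) := by
    intro b b0 b1
    have h := congrFun (hval' _ (Std.isMid_single (P := P) b0 b1) P.ew) P.i0
    simp only [Pi.sub_apply, Pi.smul_apply, smul_eq_mul, eo_0, ew_1, ew_a _ b1, hw1, hmid_coord _ _ b0 b1,
      Pi.single_eq_of_ne b0.symm, Pi.single_eq_same, mul_zero, zero_mul, mul_one, one_mul, sub_zero,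
      zero_sub] at h
    linear_combination h
  refine ⟨α, (X *ᵥ P.ew) P.i0, fun b => if b ≠ P.i0 ∧ b ≠ P.i1 then -(X *ᵥ P.ew) b else 0,
    ⟨by simp, by simp⟩, ?_⟩
  set γ : Fin k → F := fun b => if b ≠ P.i0 ∧ b ≠ P.i1 then -(X *ᵥ P.ew) b else 0
  have hγ : P.IsMid γ := ⟨by simp [γ], by simp [γ]⟩
  refine Matrix.ext_of_mulVec_single fun c => ?_
  rw [add_mulVec, add_mulVec, smul_mulVec, smul_mulVec, one_mulVec, Std.E, rk_mulVec, alt_mulVec]
  rcases eq_or_ne c P.i0 with rfl | c0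
  · rw [show (Pi.single P.i0 1 : Fin k → F) = P.eo from rfl, hXo, P.eo_iso, hγ.eo']
    simp
  rcases eq_or_ne c P.i1 with rfl | c1
  · rw [show (Pi.single P.i1 1 : Fin k → F) = P.ew from rfl, P.ew_eo, hγ.ew']
    funext b
    rcases eq_or_ne b P.i0 with rfl | b0
    · simp [eo_0, ew_a _ P.i0_ne_i1, hγ.1]
    rcases eq_or_ne b P.i1 with rfl | b1
    · simp [eo_a _ b0, ew_1, hγ.2, hw1]
    · simp [eo_a _ b0, ew_a _ b1, γ, b0, b1]
  · have hc := Std.isMid_single (P := P) c0 c1
    have e : sf P.S (Pi.single c 1 : Fin k → F) γ = -(P.w c * (X *ᵥ P.ew) c) := by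
      rw [sf_symm, hmid_coord _ _ c0 c1]
      simp [γ, c0, c1]
    rw [hc.eo, e]
    funext b
    rcases eq_or_ne b P.i0 with rfl | b0
    · simp [eo_0, hw2 c c0 c1, Pi.single_eq_of_ne c0.symm]
    rcases eq_or_ne b P.i1 with rfl | b1
    · simp [eo_a _ b0, (hmid _ hc).1, Pi.single_eq_of_ne c1.symm]
    · simp [eo_a _ b0, (hmid _ hc).2 b b0 b1]

/-! ### Iterated differences -/

theorem go_mul (two : (2 : F) ≠ 0) {z z' : Fin k → F} (hz : P.IsMid z) (hz' : P.IsMid z') :
    go P two z * go P two z' = go P two (z + z') := root_centre_add P.S two P.eo_iso hz.eo' hz'.eo'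

theorem go_zero (two : (2 : F) ≠ 0) : go P two (0 : Fin k → F) = 1 := by
  rw [go, show alt P.S P.eo 0 = 0 by rw [alt, rk_zero_right, rk_zero_left, sub_zero], expU_zero]

theorem go_pow (two : (2 : F) ≠ 0) {z : Fin k → F} (hz : P.IsMid z) (n : ℕ) :
    go P two z ^ n = go P two ((n : F) • z) := by
  induction n with
  | zero => rw [pow_zero, Nat.cast_zero, zero_smul, go_zero]
  | succ n ih => rw [pow_succ, ih, go_mul two (hz.smul _) hz, Nat.cast_succ, add_smul, one_smul]

/-- Some composite of differences brings a family into the fixed maps without making it scalar. -/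
theorem descend (hP : P.Good) {A : Subring (Module.End F (Matrix (Fin k) (Fin k) F))} (hA : HasOm P A)
    {I : Type*} (f : I → Matrix (Fin k) (Fin k) F) (hne : ∃ i, ¬ Sc (f i)) :
    ∃ Ψ ∈ A, (∀ i, InV P (Ψ (f i))) ∧ ∃ i, ¬ Sc (Ψ (f i)) := by
  classical
  have two := hP.two
  obtain ⟨p, hchar⟩ := CharP.exists F
  have hp : Fact p.Prime := ⟨(CharP.char_is_prime_or_zero F p).resolve_right fun h => by
    subst h; exact CharP.char_ne_zero_of_finite F 0 rfl⟩
  have : Nonempty (Fin k) := ⟨P.i0⟩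
  have : CharP (Module.End F (Matrix (Fin k) (Fin k) F)) p :=
    charP_of_injective_algebraMap (algebraMap F (Module.End F (Matrix (Fin k) (Fin k) F))).injective p
  let Δ : (Fin k → F) → Module.End F (Matrix (Fin k) (Fin k) F) := fun z => cop (go P two z) - 1
  have hΔA : ∀ z, P.IsMid z → Δ z ∈ A := fun z hz => A.sub_mem (hA _ (go_mem two hz)) A.one_mem
  have hΔcomm : ∀ z z', P.IsMid z → P.IsMid z' → Commute (Δ z) (Δ z') := by
    intro z z' hz hz'
    have h1 : Commute (cop (go P two z)) (cop (go P two z')) := by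
      show _ * _ = _ * _
      rw [← cop_mul, ← cop_mul, go_mul two hz hz', go_mul two hz' hz, add_comm]
    exact (h1.sub_left (Commute.one_left _)).sub_right (Commute.one_right _)
  have hΔp : ∀ z, P.IsMid z → Δ z ^ p = 0 := by
    intro z hz
    rw [show Δ z = cop (go P two z) - 1 from rfl, sub_pow_char_of_commute (p := p) (Commute.one_right _), one_pow,
      show cop (go P two z) ^ p = cop (go P two z ^ p) from (map_pow copHom _ _).symm, go_pow two hz,
      CharP.cast_eq_zero F p, zero_smul, go_zero, show cop (1 : GL (Fin k) F) = 1 from map_one copHom, sub_self]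
  have hΔsc : ∀ z (j : ℕ) X, Sc X → Sc ((Δ z ^ j) X) := by
    intro z j
    induction j with
    | zero => intro X hX; simpa using hX
    | succ j ih =>
      intro X ⟨r, hr⟩
      have e : Δ z X = 0 := by simp [Δ, hr, cop_apply_one]
      rw [pow_succ, Module.End.mul_apply, e, map_zero]
      exact Sc.zero
  have key : ∀ S : Finset (Fin k → F), (∀ z ∈ S, P.IsMid z) →
      ∃ Ψ ∈ A, (∃ i, ¬ Sc (Ψ (f i))) ∧ ∀ z ∈ S, ∀ i, Sc (Δ z (Ψ (f i))) := by
    intro S
    induction S using Finset.induction with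
    | empty => exact fun _ => ⟨1, A.one_mem, by simpa using hne, by simp⟩
    | insert z S hzS ih =>
      intro hS
      obtain ⟨Ψ, hΨ, hΨne, hΨS⟩ := ih fun w hw => hS w (Finset.mem_insert_of_mem hw)
      have hz := hS z (Finset.mem_insert_self _ _)
      obtain ⟨j, hj, hj'⟩ : ∃ j : ℕ, (∃ i, ¬ Sc ((Δ z ^ j) (Ψ (f i)))) ∧ ∀ i, Sc ((Δ z ^ (j + 1)) (Ψ (f i))) := by
        by_contra hcon
        have hall : ∀ j : ℕ, ∃ i, ¬ Sc ((Δ z ^ j) (Ψ (f i))) := fun j => by
          induction j with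
          | zero => simpa using hΨne
          | succ j hj =>
            by_contra h'
            push Not at h'
            exact hcon ⟨j, hj, h'⟩
        obtain ⟨i, hi⟩ := hall p
        exact hi (by rw [hΔp z hz]; exact Sc.zero)
      refine ⟨Δ z ^ j * Ψ, A.mul_mem (pow_mem (hΔA z hz) j) hΨ, by simpa using hj, fun w hw i => ?_⟩
      rcases Finset.mem_insert.mp hw with rfl | hw'
      · simpa [pow_succ'] using hj' i
      · have hc := ((hΔcomm w z (hS w hw) hz).pow_right j).eq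
        have h1 : Δ w ((Δ z ^ j) (Ψ (f i))) = (Δ z ^ j) (Δ w (Ψ (f i))) := LinearMap.congr_fun hc _
        rw [Module.End.mul_apply, h1]
        exact hΔsc z j _ (hΨS w hw' i)
  obtain ⟨Ψ, hΨ, hne', hfix⟩ := key (Finset.univ.filter fun z => P.IsMid z) fun z hz => (Finset.mem_filter.mp hz).2
  exact ⟨Ψ, hΨ, fun i => inV_of_fixed hP fun z hz => hfix z (by simp [hz]) i, hne'⟩

/-! ### Second differences -/

variable (P) in
/-- A second difference along the Siegel group. -/
noncomputable def d2 (two : (2 : F) ≠ 0) (u v : Fin k → F) : Module.End F (Matrix (Fin k) (Fin k) F) :=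
  cop (go P two (u + v)) - cop (go P two u) - cop (go P two v) + 1

theorem d2_mem (two : (2 : F) ≠ 0) {A : Subring (Module.End F (Matrix (Fin k) (Fin k) F))} (hA : HasOm P A)
    {u v : Fin k → F} (hu : P.IsMid u) (hv : P.IsMid v) : d2 P two u v ∈ A :=
  A.add_mem (A.sub_mem (A.sub_mem (hA _ (go_mem two (hu.add hv))) (hA _ (go_mem two hu))) (hA _ (go_mem two hv)))
    A.one_mem

theorem d2_apply (two : (2 : F) ≠ 0) (u v : Fin k → F) (X : Matrix (Fin k) (Fin k) F) :
    d2 P two u v X = cop (go P two (u + v)) X - cop (go P two u) X - cop (go P two v) X + X := rfl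

theorem cop_go_one_E (two : (2 : F) ≠ 0) {u : Fin k → F} (hu : P.IsMid u) : cop (go P two u) P.E = P.E := by
  rw [Std.E, cop_rk two (go_mem two hu), go_eo two hu]

theorem cop_go_Q (two : (2 : F) ≠ 0) {u γ : Fin k → F} (hu : P.IsMid u) (hγ : P.IsMid γ) :
    cop (go P two u) (alt P.S P.eo γ) = alt P.S P.eo γ := by
  rw [cop_alt two (go_mem two hu), go_eo two hu, go_mid two hu hγ, alt_add_right, alt_smul_right, alt_self,
    smul_zero, add_zero]

theorem d2_one (two : (2 : F) ≠ 0) (u v : Fin k → F) : d2 P two u v 1 = 0 := by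
  simp [d2_apply, cop_apply_one]

theorem d2_Q (two : (2 : F) ≠ 0) {u v γ : Fin k → F} (hu : P.IsMid u) (hv : P.IsMid v) (hγ : P.IsMid γ) :
    d2 P two u v (alt P.S P.eo γ) = 0 := by
  rw [d2_apply, cop_go_Q two (hu.add hv) hγ, cop_go_Q two hu hγ, cop_go_Q two hv hγ]
  abel

theorem d2_Qw (two : (2 : F) ≠ 0) {v γ : Fin k → F} (hv : P.IsMid v) (hγ : P.IsMid γ) (l : F) :
    d2 P two (l • v) v (alt P.S P.ew γ) =
      l • alt P.S P.eo ((2 * sf P.S γ v) • v - sf P.S v v • γ) := by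
  have hu := hv.smul l
  rw [d2_apply, cop_alt two (go_mem two (hu.add hv)), cop_alt two (go_mem two hu), cop_alt two (go_mem two hv),
    go_ew two (hu.add hv), go_ew two hu, go_ew two hv, go_mid two (hu.add hv) hγ, go_mid two hu hγ,
    go_mid two hv hγ]
  simp only [alt, rk_add_left, rk_add_right, rk_sub_left, rk_sub_right, rk_smul_left, rk_smul_right, sf_add_left,
    sf_add_right, sf_smul_left, sf_smul_right]
  match_scalars <;> field_simp <;> ring

theorem d2_ww (two : (2 : F) ≠ 0) {b : Fin k → F} (hb : P.IsMid b) :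
    d2 P two b b (rk P.S P.ew P.ew) = (2 : F) • rk P.S b b - sf P.S b b • sym P.S P.ew P.eo +
      (3 * sf P.S b b) • sym P.S b P.eo + (7 * (2 : F)⁻¹ * (sf P.S b b * sf P.S b b)) • P.E := by
  rw [d2_apply, cop_rk two (go_mem two (hb.add hb)), cop_rk two (go_mem two hb),
    go_ew two (hb.add hb), go_ew two hb, Std.E]
  simp only [sym, rk_add_left, rk_add_right, rk_sub_left, rk_sub_right, rk_smul_left, rk_smul_right, sf_add_left,
    sf_add_right]
  match_scalars <;> field_simp <;> ring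

/-- The fourth difference of the opposite square. -/
theorem d2_d2_ww (two : (2 : F) ≠ 0) {a b : Fin k → F} (ha : P.IsMid a) (hb : P.IsMid b) (l : F) :
    d2 P two (l • a) a (d2 P two b b (rk P.S P.ew P.ew)) =
      (l * (4 * (sf P.S a b * sf P.S a b) + 2 * (sf P.S a a * sf P.S b b))) • P.E := by
  have hu := ha.smul l
  have hs := go_mem (P := P) two (hu.add ha)
  rw [d2_ww two hb]
  simp only [map_add, map_sub, map_smul]
  rw [d2_apply, d2_apply, d2_apply, d2_apply, cop_rk two hs, cop_rk two (go_mem two hu), cop_rk two (go_mem two ha),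
    cop_sym two hs, cop_sym two (go_mem two hu), cop_sym two (go_mem two ha), cop_sym two hs,
    cop_sym two (go_mem two hu), cop_sym two (go_mem two ha), go_ew two (hu.add ha), go_ew two hu, go_ew two ha,
    go_eo two (hu.add ha), go_eo two hu, go_eo two ha, go_mid two (hu.add ha) hb, go_mid two hu hb,
    go_mid two ha hb, cop_go_one_E two (hu.add ha), cop_go_one_E two hu, cop_go_one_E two ha, Std.E,
    sf_add_right P.S b, sf_smul_right P.S l b, sf_symm P.S b a]
  simp only [sym, rk_add_left, rk_add_right, rk_sub_left, rk_sub_right, rk_smul_left, rk_smul_right, sf_add_left,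
    sf_add_right, sf_smul_left, sf_smul_right]
  match_scalars <;> field_simp <;> ring

theorem d2_d2_Qw (two : (2 : F) ≠ 0) {a b γ : Fin k → F} (ha : P.IsMid a) (hb : P.IsMid b) (hγ : P.IsMid γ)
    (l : F) : d2 P two (l • a) a (d2 P two b b (alt P.S P.ew γ)) = 0 := by
  have h1 := d2_Qw two hb hγ (1 : F)
  rw [one_smul, one_smul] at h1
  rw [h1, sub_eq_add_neg, ← neg_smul]
  exact d2_Q two (ha.smul l) ha ((hb.smul _).add (hγ.smul _))

/-! ### Isolation -/

/-- The square of a root matrix is isolated, with every coefficient. -/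
theorem op_E (hP : P.Good) {A : Subring (Module.End F (Matrix (Fin k) (Fin k) F))} (hA : HasOm P A)
    (h34 : 4 ≤ k ∨ (3 : F) ≠ 0) (r : F) :
    ∃ Ψ ∈ A, ∀ a b : F, ∀ γ, P.IsMid γ → Ψ (a • 1 + b • P.E + alt P.S P.eo γ) = (r * b) • P.E := by
  have two := hP.two
  obtain ⟨a0, a1⟩ := P.i2_ne
  set u : Fin k → F := Pi.single P.i2 1 with hu_def
  have hu : P.IsMid u := Std.isMid_single a0 a1
  have hq : sf P.S u u ≠ 0 := by rw [hu_def, Std.sf_single_mid a0 a1]; exact P.w_ne _
  obtain ⟨v, hv, hK⟩ : ∃ v, P.IsMid v ∧ 4 * (sf P.S u v * sf P.S u v) + 2 * (sf P.S u u * sf P.S v v) ≠ 0 := by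
    by_cases hk : 4 ≤ k
    · obtain ⟨b, hb0, hb1, hba⟩ : ∃ b, b ≠ P.i0 ∧ b ≠ P.i1 ∧ b ≠ P.i2 := by
        refine ⟨⟨3, by omega⟩, ?_, ?_, ?_⟩ <;> simp [Std.i0, Std.i1, Std.i2, Fin.ext_iff]
      refine ⟨Pi.single b 1, Std.isMid_single hb0 hb1, ?_⟩
      rw [hu_def, Std.sf_singles_ne hb0 hb1 hba, Std.sf_single_mid a0 a1, Std.sf_single_mid hb0 hb1]
      simpa [two] using And.intro (P.w_ne P.i2) (P.w_ne b)
    · refine ⟨u, hu, ?_⟩
      rw [show 4 * (sf P.S u u * sf P.S u u) + 2 * (sf P.S u u * sf P.S u u) =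
        3 * 2 * (sf P.S u u * sf P.S u u) by ring]
      exact mul_ne_zero (mul_ne_zero (h34.resolve_left hk) two) (mul_ne_zero hq hq)
  obtain ⟨n, hn, no, nw, nz⟩ := Std.exists_exchange two hu hq
  set K := 4 * (sf P.S u v * sf P.S u v) + 2 * (sf P.S u u * sf P.S v v) with hKdef
  set c := -(sf P.S u u / 2) with hc
  have hc0 : c ≠ 0 := neg_ne_zero.mpr (div_ne_zero hq two)
  set l := r / (c * c * K) with hl
  refine ⟨d2 P two (l • u) u * d2 P two v v * cop n,
    A.mul_mem (A.mul_mem (d2_mem two hA (hu.smul l) hu) (d2_mem two hA hv hv)) (hA n hn), fun a b γ hγ => ?_⟩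
  have eE : cop n P.E = (c * c) • rk P.S P.ew P.ew := by
    rw [Std.E, cop_rk two hn, no, rk_smul_left, rk_smul_right, smul_smul]
  have eQ : cop n (alt P.S P.eo γ) = c • alt P.S P.ew (rf P u γ) := by
    rw [cop_alt two hn, no, nz γ hγ, alt_smul_left]
    rfl
  simp only [Module.End.mul_apply, map_add, map_smul, cop_apply_one, eE, eQ, d2_one, map_zero, smul_zero,
    d2_d2_ww two hu hv, d2_d2_Qw two hu hv (rf_isMid hu hγ), zero_add, add_zero, smul_smul]
  congr 1
  rw [← hKdef, hl]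
  field_simp

/-- A root matrix of a middle vector without square part is moved by two reflections, with every coefficient. -/
theorem op_Q (hP : P.Good) {A : Subring (Module.End F (Matrix (Fin k) (Fin k) F))} (hA : HasOm P A)
    {v z : Fin k → F} (hv : P.IsMid v) (hvv : sf P.S v v ≠ 0) (hz : P.IsMid z) (hzz : sf P.S z z ≠ 0) (r : F) :
    ∃ Ψ ∈ A, ∀ a : F, ∀ γ, P.IsMid γ → Ψ (a • 1 + alt P.S P.eo γ) = r • alt P.S P.eo (rf P v (rf P z γ)) := by
  have two := hP.two
  obtain ⟨n, hn, no, nw, nz⟩ := Std.exists_exchange two hz hzz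
  set c := -(sf P.S z z / 2) with hc
  have hc0 : c ≠ 0 := neg_ne_zero.mpr (div_ne_zero hzz two)
  set l := -r / (c * sf P.S v v) with hl
  refine ⟨d2 P two (l • v) v * cop n, A.mul_mem (d2_mem two hA (hv.smul l) hv) (hA n hn), fun a γ hγ => ?_⟩
  have eQ : cop n (alt P.S P.eo γ) = c • alt P.S P.ew (rf P z γ) := by
    rw [cop_alt two hn, no, nz γ hγ, alt_smul_left]
    rfl
  rw [Module.End.mul_apply, map_add, map_smul, cop_apply_one, eQ, map_add, map_smul, map_smul, d2_one, smul_zero,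
    zero_add, d2_Qw two hv (rf_isMid hz hγ), smul_smul, ← alt_smul_right, ← alt_smul_right]
  congr 1
  rw [hl]
  conv_rhs => rw [rf]
  match_scalars <;> field_simp

/-- The torus. -/
theorem op_torus (two : (2 : F) ≠ 0) {A : Subring (Module.End F (Matrix (Fin k) (Fin k) F))} (hA : HasOm P A)
    {c : F} (hc : c ≠ 0) :
    ∃ Ψ ∈ A, Ψ P.E = (c * c * (c * c)) • P.E ∧ Ψ 1 = 1 ∧
      ∀ γ, P.IsMid γ → Ψ (alt P.S P.eo γ) = (c * c) • alt P.S P.eo γ := by
  obtain ⟨g, hg, go', gz⟩ := Std.exists_scaling (P := P) two hc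
  refine ⟨cop g, hA g hg, ?_, cop_apply_one g, fun γ hγ => ?_⟩
  · rw [Std.E, cop_rk two hg, go', rk_smul_left, rk_smul_right, smul_smul]
  · rw [cop_alt two hg, go', gz γ hγ, alt_smul_left]

/-- The square of a root matrix is isolated. -/
theorem op_E_one (hP : P.Good) {A : Subring (Module.End F (Matrix (Fin k) (Fin k) F))} (hA : HasOm P A) :
    ∃ Ψ ∈ A, ∃ ρ : F, ρ ≠ 0 ∧
      ∀ a b : F, ∀ γ, P.IsMid γ → Ψ (a • 1 + b • P.E + alt P.S P.eo γ) = (ρ * b) • P.E := by
  classical
  have two := hP.two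
  by_cases h34 : 4 ≤ k ∨ (3 : F) ≠ 0
  · obtain ⟨Ψ, hΨ, h⟩ := op_E hP hA h34 1
    exact ⟨Ψ, hΨ, 1, one_ne_zero, h⟩
  push Not at h34
  obtain ⟨hk, h3⟩ := h34
  obtain ⟨m, hm0, hm4⟩ : ∃ m : F, m ≠ 0 ∧ m * m * (m * m) ≠ 1 := by
    by_contra hc
    push Not at hc
    have hk3 : k = 3 := by have := P.hk; omega
    have hsub : (Finset.univ : Finset F) ⊆ insert 0 (Polynomial.nthRoots 4 (1 : F)).toFinset := fun x _ => by
      rcases eq_or_ne x 0 with rfl | h0
      · exact Finset.mem_insert_self _ _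
      · refine Finset.mem_insert_of_mem ?_
        rw [Multiset.mem_toFinset, Polynomial.mem_nthRoots (by norm_num)]
        linear_combination hc x h0
    have h5 := (Finset.card_le_card hsub).trans ((Finset.card_insert_le _ _).trans
      (Nat.succ_le_succ ((Multiset.toFinset_card_le _).trans (Polynomial.card_nthRoots 4 (1 : F)))))
    obtain ⟨p, hchar⟩ := CharP.exists F
    have h3' : ((3 : ℕ) : F) = 0 := by exact_mod_cast h3
    have hdvd : p ∣ 3 := (CharP.cast_eq_zero_iff F p 3).mp h3'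
    obtain ⟨n, hp, hn⟩ := FiniteField.card F p
    obtain rfl : p = 3 := (Nat.prime_dvd_prime_iff_eq hp Nat.prime_three).mp hdvd
    rw [Finset.card_univ, hn] at h5
    refine hP.hex ⟨?_, hk3⟩
    rw [Nat.card_eq_fintype_card, hn]
    have hn1 : (n : ℕ) = 1 := by
      by_contra h1
      have hn0 : 0 < (n : ℕ) := n.pos
      have : 3 ^ 2 ≤ 3 ^ (n : ℕ) := Nat.pow_le_pow_right (by norm_num) (by omega)
      omega
    rw [hn1, pow_one]
  set c1 := m * m - 1 with hc1
  set c2 := 2 * m with hc2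
  set c3 := m * m + 1 with hc3
  have h1 : c1 ≠ 0 := fun h => hm4 (by linear_combination (m * m + 1) * h)
  have h2 : c2 ≠ 0 := mul_ne_zero two hm0
  have h3' : c3 ≠ 0 := fun h => hm4 (by linear_combination (m * m - 1) * h)
  obtain ⟨Φ, hΦ, eΦ, oΦ, qΦ⟩ := op_torus two hA hm0
  obtain ⟨Ψ1, hΨ1, eΨ1, oΨ1, qΨ1⟩ := op_torus two hA h1
  obtain ⟨Ψ2, hΨ2, eΨ2, oΨ2, qΨ2⟩ := op_torus two hA h2
  obtain ⟨Ψ3, hΨ3, eΨ3, oΨ3, qΨ3⟩ := op_torus two hA h3'
  refine ⟨(Ψ3 - Ψ1 - Ψ2) * (Φ - 1), A.mul_mem (A.sub_mem (A.sub_mem hΨ3 hΨ1) hΨ2) (A.sub_mem hΦ A.one_mem),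
    (m * m * (m * m) - 1) * (2 * (c1 * c1) * (c2 * c2)),
    mul_ne_zero (sub_ne_zero.mpr hm4) (mul_ne_zero (mul_ne_zero two (mul_ne_zero h1 h1)) (mul_ne_zero h2 h2)),
    fun a b γ hγ => ?_⟩
  simp only [Module.End.mul_apply, LinearMap.sub_apply, Module.End.one_apply, map_add, map_sub, map_smul, eΦ, oΦ,
    qΦ γ hγ, eΨ1, oΨ1, qΨ1 γ hγ, eΨ2, oΨ2, qΨ2 γ hγ, eΨ3, oΨ3, qΨ3 γ hγ]
  match_scalars <;> (try simp only [hc1, hc2, hc3]) <;> ring

omit [Fintype F] in
/-- In a field of odd order other than nine the fourth powers generate. -/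
theorem subring_eq_top [Fintype F] (two : (2 : F) ≠ 0) (h9 : Nat.card F ≠ 9) (K : Subring F)
    (hK : ∀ x : F, x ≠ 0 → x * x * (x * x) ∈ K) : K = ⊤ := by
  classical
  let K' : Subfield F :=
    { K with
      inv_mem' := fun x (hx : x ∈ K) => by
        show x⁻¹ ∈ K
        rcases eq_or_ne x 0 with rfl | h0
        · rw [_root_.inv_zero]; exact K.zero_mem
        · have e : x⁻¹ = x ^ (Fintype.card F - 2) := by
            refine inv_eq_of_mul_eq_one_right ?_
            rw [← pow_succ', show Fintype.card F - 2 + 1 = Fintype.card F - 1 by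
              have := Fintype.one_lt_card (α := F); omega]
            exact FiniteField.pow_card_sub_one_eq_one x h0
          rw [e]; exact pow_mem hx _ }
  have hq : Fintype.card F ≤ 4 * Fintype.card K' := by
    have h1 : (Finset.univ : Finset F).card ≤ 4 * ((Finset.univ : Finset F).image fun x => x * x * (x * x)).card := by
      refine Finset.card_le_mul_card_image _ _ fun a _ => ?_
      refine (Finset.card_le_card (t := (Polynomial.nthRoots 4 a).toFinset) fun x hx => ?_).trans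
        ((Multiset.toFinset_card_le _).trans (Polynomial.card_nthRoots 4 a))
      rw [Finset.mem_filter] at hx
      rw [Multiset.mem_toFinset, Polynomial.mem_nthRoots (by norm_num)]
      linear_combination hx.2
    rw [← Finset.card_univ]
    refine h1.trans (Nat.mul_le_mul_left 4 ?_)
    rw [Fintype.card_subtype]
    refine Finset.card_le_card fun a ha => ?_
    obtain ⟨x, -, rfl⟩ := Finset.mem_image.mp ha
    simp only [Finset.mem_filter, Finset.mem_univ, true_and]
    show _ ∈ K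
    rcases eq_or_ne x 0 with rfl | h0
    · simp [K.zero_mem]
    · exact hK x h0
  have hpow := Module.card_eq_pow_finrank (K := K') (V := F)
  rcases Nat.lt_or_ge 1 (Module.finrank K' F) with hd | hd
  swap
  · have hd1 : Module.finrank K' F = 1 := le_antisymm hd (Module.finrank_pos)
    rw [hd1, pow_one] at hpow
    refine (Subring.eq_top_iff' K).mpr fun x => ?_
    obtain ⟨y, hy⟩ := ((Fintype.bijective_iff_injective_and_card (fun y : K' => (y : F))).mpr
      ⟨Subtype.val_injective, hpow.symm⟩).2 x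
    rw [← hy]
    exact y.2
  exfalso
  have hodd : Fintype.card F % 2 = 1 := by
    refine FiniteField.odd_card_of_char_ne_two fun h => two ?_
    have := ringChar.charP F
    rw [h] at *
    simpa using CharP.cast_eq_zero F 2
  have hK2 : 2 ≤ Fintype.card K' := Fintype.one_lt_card
  have hsq : Fintype.card K' ^ 2 ≤ Fintype.card F := hpow ▸ Nat.pow_le_pow_right (by omega) hd
  have hK4 : Fintype.card K' ≤ 4 := by nlinarith
  have hodd' : Fintype.card K' % 2 = 1 := by
    by_contra he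
    rw [hpow, Nat.pow_mod, show Fintype.card K' % 2 = 0 by omega, zero_pow (by omega)] at hodd
    simp at hodd
  have hK3 : Fintype.card K' = 3 := by omega
  rw [hK3] at hpow hq
  have hd2 : Module.finrank K' F = 2 := by
    by_contra hne
    have : 3 ^ 3 ≤ 3 ^ Module.finrank K' F := Nat.pow_le_pow_right (by norm_num) (by omega)
    omega
  rw [hd2] at hpow
  exact h9 (by rw [Nat.card_eq_fintype_card, hpow]; norm_num)

/-- The square of a root matrix takes every coefficient. -/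
theorem op_E_line (hP : P.Good) {A : Subring (Module.End F (Matrix (Fin k) (Fin k) F))} (hA : HasOm P A)
    (h9 : ¬ (Nat.card F = 9 ∧ k = 3)) (r : F) : ∃ Ψ ∈ A, Ψ P.E = r • P.E := by
  by_cases hq : Nat.card F = 9
  · have hk : 4 ≤ k := by have := P.hk; by_contra; exact h9 ⟨hq, by omega⟩
    obtain ⟨Ψ, hΨ, h⟩ := op_E hP hA (Or.inl hk) r
    refine ⟨Ψ, hΨ, ?_⟩
    have := h 0 1 0 ⟨rfl, rfl⟩
    simpa [alt, rk_zero_left, rk_zero_right] using this
  let K : Subring F :=
    { carrier := {r | ∃ Ψ ∈ A, Ψ P.E = r • P.E}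
      one_mem' := ⟨1, A.one_mem, by simp⟩
      zero_mem' := ⟨0, A.zero_mem, by simp⟩
      mul_mem' := by
        rintro a b ⟨Ψ, hΨ, e⟩ ⟨Φ, hΦ, e'⟩
        exact ⟨Ψ * Φ, A.mul_mem hΨ hΦ, by rw [Module.End.mul_apply, e', map_smul, e, smul_smul, mul_comm]⟩
      add_mem' := by
        rintro a b ⟨Ψ, hΨ, e⟩ ⟨Φ, hΦ, e'⟩
        exact ⟨Ψ + Φ, A.add_mem hΨ hΦ, by rw [LinearMap.add_apply, e, e', add_smul]⟩
      neg_mem' := by
        rintro a ⟨Ψ, hΨ, e⟩
        exact ⟨-Ψ, A.neg_mem hΨ, by rw [LinearMap.neg_apply, e, neg_smul]⟩ }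
  have := subring_eq_top hP.two hq K fun x hx => by
    obtain ⟨Ψ, hΨ, e, -⟩ := op_torus hP.two hA hx
    exact ⟨Ψ, hΨ, e⟩
  exact (show r ∈ K from this ▸ Subring.mem_top r)

/-- A root matrix takes every coefficient. -/
theorem op_Q_line (hP : P.Good) {A : Subring (Module.End F (Matrix (Fin k) (Fin k) F))} (hA : HasOm P A) (r : F) :
    ∃ Ψ ∈ A, ∀ a : F, ∀ γ, P.IsMid γ → Ψ (a • 1 + alt P.S P.eo γ) = r • alt P.S P.eo γ := by
  obtain ⟨a0, a1⟩ := P.i2_ne
  have hq : sf P.S (Pi.single P.i2 1 : Fin k → F) (Pi.single P.i2 1) ≠ 0 := by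
    rw [Std.sf_single_mid a0 a1]; exact P.w_ne _
  obtain ⟨Ψ, hΨ, h⟩ := op_Q hP hA (Std.isMid_single a0 a1) hq (Std.isMid_single a0 a1) hq r
  exact ⟨Ψ, hΨ, fun a γ hγ => by rw [h a γ hγ, rf_rf hq]⟩

/-- In dimension other than four one coordinate of a root matrix is isolated. -/
theorem op_coord (hP : P.Good) {A : Subring (Module.End F (Matrix (Fin k) (Fin k) F))} (hA : HasOm P A)
    (hk : k ≠ 4) {a : Fin k} (a0 : a ≠ P.i0) (a1 : a ≠ P.i1) :
    ∃ Ψ ∈ A, ∀ r : F, ∀ γ, P.IsMid γ →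
      Ψ (r • 1 + alt P.S P.eo γ) = γ a • alt P.S P.eo (Pi.single a 1) := by
  classical
  have two := hP.two
  have hns : ∀ b, b ≠ P.i0 → b ≠ P.i1 → sf P.S (Pi.single b 1 : Fin k → F) (Pi.single b 1) ≠ 0 :=
    fun b b0 b1 => by rw [Std.sf_single_mid b0 b1]; exact P.w_ne _
  by_cases hk3 : k = 3
  · obtain ⟨Ψ, hΨ, h⟩ := op_Q_line hP hA 1
    refine ⟨Ψ, hΨ, fun r γ hγ => ?_⟩
    rw [h r γ hγ, one_smul, ← alt_smul_right]
    congr 1
    funext b
    rcases eq_or_ne b a with rfl | hba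
    · simp
    rcases eq_or_ne b P.i0 with rfl | b0
    · simp [hγ.1, Pi.single_eq_of_ne hba]
    rcases eq_or_ne b P.i1 with rfl | b1
    · simp [hγ.2, Pi.single_eq_of_ne hba]
    · exfalso
      simp [Std.i0, Std.i1, Fin.ext_iff] at a0 a1 b0 b1 hba
      omega
  have hk5 : 5 ≤ k := by have := P.hk; omega
  obtain ⟨c, -, hc⟩ := Finset.exists_mem_notMem_of_card_lt_card
    (s := ({P.i0, P.i1, a} : Finset (Fin k))) (t := Finset.univ)
    (lt_of_le_of_lt Finset.card_le_three (by simp; omega))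
  simp only [Finset.mem_insert, Finset.mem_singleton, not_or] at hc
  obtain ⟨c0, c1, hca⟩ := hc
  obtain ⟨d, -, hd⟩ := Finset.exists_mem_notMem_of_card_lt_card
    (s := ({P.i0, P.i1, a, c} : Finset (Fin k))) (t := Finset.univ)
    (lt_of_le_of_lt Finset.card_le_four (by simp; omega))
  simp only [Finset.mem_insert, Finset.mem_singleton, not_or] at hd
  obtain ⟨d0, d1, hda, hdc⟩ := hd
  have pr : ∀ b, b ≠ P.i0 → b ≠ P.i1 → b ≠ a →
      ∃ Ψ ∈ A, ∀ r : F, ∀ γ, P.IsMid γ → Ψ (r • 1 + alt P.S P.eo γ) =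
        alt P.S P.eo (γ a • Pi.single a 1 + γ b • Pi.single b 1) := by
    intro b b0 b1 hba
    obtain ⟨Ψ, hΨ, h⟩ := op_Q_line hP hA (2 : F)⁻¹
    obtain ⟨Φ, hΦ, h'⟩ := op_Q hP hA (Std.isMid_single a0 a1) (hns a a0 a1) (Std.isMid_single b0 b1) (hns b b0 b1)
      (2 : F)⁻¹
    refine ⟨Ψ - Φ, A.sub_mem hΨ hΦ, fun r γ hγ => ?_⟩
    rw [LinearMap.sub_apply, h r γ hγ, h' r γ hγ, ← smul_sub, rf_single b0 b1, rf_single a0 a1,
      show (γ - (2 * γ b) • (Pi.single b 1 : Fin k → F)) a = γ a by simp [Pi.single_eq_of_ne (Ne.symm hba)]]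
    simp only [alt, rk_add_left, rk_add_right, rk_sub_left, rk_sub_right, rk_smul_left, rk_smul_right]
    match_scalars <;> field_simp <;> ring
  obtain ⟨Ψ1, hΨ1, h1⟩ := pr c c0 c1 hca
  obtain ⟨Ψ2, hΨ2, h2⟩ := pr d d0 d1 hda
  refine ⟨Ψ2 * Ψ1, A.mul_mem hΨ2 hΨ1, fun r γ hγ => ?_⟩
  have hmid := ((Std.isMid_single (P := P) a0 a1).smul (γ a)).add ((Std.isMid_single (P := P) c0 c1).smul (γ c))
  rw [Module.End.mul_apply, h1 r γ hγ, show alt P.S P.eo (γ a • Pi.single a 1 + γ c • Pi.single c 1) =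
    (0 : F) • 1 + alt P.S P.eo (γ a • Pi.single a 1 + γ c • Pi.single c 1) by simp, h2 0 _ hmid, ← alt_smul_right]
  congr 1
  simp [Pi.single_eq_of_ne (Ne.symm hca), Pi.single_eq_of_ne hda, Pi.single_eq_of_ne hdc]

end Cfsg.Agent.WreathO
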