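import Cfsg.Agent.WreathO.Center

/-!
The radical of a line of the first slot: commutators of two radical elements (helper1).
-/

set_option autoImplicit false
set_option linter.unusedSectionVars false

namespace Cfsg.Agent.WreathO

open Matrix Cfsg.Agent.MaxSub Cfsg.Agent.MaxSub.Asch Cfsg.Agent.FG75.SpinTensor Cfsg.Agent.WreathMax

variable {F : Type*} [Field F] {k t : ℕ}

/-- The middle coordinates. -/
def Std.mids (P : Std k F) : Finset (Fin k) := Finset.univ.filter fun c => c ≠ P.i0 ∧ c ≠ P.i1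

variable {P : Std k F}

theorem Std.mem_mids {c : Fin k} : c ∈ P.mids ↔ c ≠ P.i0 ∧ c ≠ P.i1 := by simp [Std.mids]

theorem Std.J_i0 : P.S.J P.i0 = P.i1 := Equiv.swap_apply_left _ _

theorem Std.J_i1 : P.S.J P.i1 = P.i0 := Equiv.swap_apply_right _ _

theorem Std.w_i0 : P.S.w P.i0 = 1 := P.w0 _ (show (0 : ℕ) < 2 by omega)

theorem Std.w_i1 : P.S.w P.i1 = 1 := P.w0 _ (show (1 : ℕ) < 2 by omega)

theorem Std.sum_split {M : Type*} [AddCommMonoid M] (φ : Fin k → M) :
    ∑ c, φ c = φ P.i0 + φ P.i1 + ∑ c ∈ P.mids, φ c := by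
  have e : (Finset.univ : Finset (Fin k)) = insert P.i0 (insert P.i1 P.mids) := by
    ext c
    by_cases h0 : c = P.i0 <;> by_cases h1 : c = P.i1 <;> simp [Std.mids, h0, h1]
  rw [e, Finset.sum_insert (by simp [Std.mids, P.i0_ne_i1]), Finset.sum_insert (by simp [Std.mids]), add_assoc]

theorem Std.E_eq : P.E = Matrix.single P.i0 P.i1 (1 : F) := by
  ext a b
  rw [E_apply, Matrix.single_apply]
  exact if_congr ⟨fun h => ⟨h.1.symm, h.2.symm⟩, fun h => ⟨h.1.symm, h.2.symm⟩⟩ rfl rfl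

/-- The matrix fixes the first line. -/
def Fixes (P : Std k F) (X : Matrix (Fin (t + 1) → Fin k) (Fin (t + 1) → Fin k) F) : Prop :=
  (∀ a, a ≠ P.i0 → zblk X a P.i0 = 0) ∧ ∀ b, b ≠ P.i1 → zblk X P.i1 b = 0

/-- The matrix lies in the radical of the first line. -/
def Upper (P : Std k F) (X : Matrix (Fin (t + 1) → Fin k) (Fin (t + 1) → Fin k) F) : Prop :=
  ∀ a b, ¬ (a = P.i0 ∧ b ≠ P.i0) → ¬ (b = P.i1 ∧ a ≠ P.i1) → zblk X a b = 0

theorem Fixes.adj {X : Matrix (Fin (t + 1) → Fin k) (Fin (t + 1) → Fin k) F} (h : Fixes P X) :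
    Fixes P (WreathO.adj (powS P.S (t + 1)) X) := by
  refine ⟨fun a ha => ?_, fun b hb => ?_⟩
  · rw [zblk_adj, Std.J_i0, h.2 _ (fun e => ha ?_), adj_zero, smul_zero]
    rw [← P.S.inv a, e, Std.J_i1]
  · rw [zblk_adj, Std.J_i1, h.1 _ (fun e => hb ?_), adj_zero, smul_zero]
    rw [← P.S.inv b, e, Std.J_i0]

theorem fixes_of_comm {X : Matrix (Fin (t + 1) → Fin k) (Fin (t + 1) → Fin k) F} (hX : ∀ Y, X * Y = 0 → Y = 0)
    {r : F} (h : X * kz P.E 1 = r • (kz P.E 1 * X)) : Fixes P X := by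
  have h1 : ∀ a b, (if b = P.i1 then zblk X a P.i0 else 0) = r • (if a = P.i0 then zblk X P.i1 b else 0) := by
    intro a b
    have e := congrArg (fun Y => zblk Y a b) h
    rw [show zblk (r • (kz P.E 1 * X)) a b = r • zblk (kz P.E 1 * X) a b from rfl, zblk_mul, zblk_mul] at e
    simp only [zblk_kz, Std.E_eq, Matrix.single_apply] at e
    rw [Finset.sum_eq_single P.i0 (fun c _ hc => by simp [Ne.symm hc]) (by simp),
      Finset.sum_eq_single P.i1 (fun c _ hc => by simp [Ne.symm hc]) (by simp)] at e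
    convert e using 1
    · by_cases hb : b = P.i1 <;> simp [hb, Ne.symm]
    · by_cases ha : a = P.i0 <;> simp [ha, Ne.symm]
  refine ⟨fun a ha => by simpa [ha] using h1 a P.i1, fun b hb => ?_⟩
  by_contra hne
  have hr : r = 0 := by simpa [hb, hne, eq_comm] using h1 P.i0 b
  rw [hr, zero_smul] at h
  have h2 := congrArg (fun Y => zblk Y P.i0 P.i1) (hX _ h)
  simp only [zblk_kz, Std.E_eq, Matrix.single_apply_same, one_smul] at h2
  refine hne ?_
  rw [← mul_one (zblk X P.i1 b), show (1 : Matrix (Fin t → Fin k) (Fin t → Fin k) F) = 0 from h2, mul_zero]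

namespace Upper

variable {N N' : Matrix (Fin (t + 1) → Fin k) (Fin (t + 1) → Fin k) F}

theorem row_i1 (hN : Upper P N) (b : Fin k) : zblk N P.i1 b = 0 :=
  hN _ b (fun h => P.i0_ne_i1 h.1.symm) fun h => h.2 rfl

theorem col_i0 (hN : Upper P N) (a : Fin k) : zblk N a P.i0 = 0 :=
  hN a _ (fun h => h.2 rfl) fun h => P.i0_ne_i1 h.1

theorem mid_mid (hN : Upper P N) {a b : Fin k} (ha : a ∈ P.mids) (hb : b ∈ P.mids) : zblk N a b = 0 :=
  hN a b (fun h => (Std.mem_mids.mp ha).1 h.1) fun h => (Std.mem_mids.mp hb).2 h.1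

/-- The product of two radical elements lies in the corner. -/
theorem mul_eq (hN : Upper P N) (hN' : Upper P N') :
    N * N' = kz P.E (∑ c ∈ P.mids, zblk N P.i0 c * zblk N' c P.i1) := by
  refine zblk_ext fun a b => ?_
  rw [zblk_mul, zblk_kz, E_apply, Std.sum_split (P := P), col_i0 hN, row_i1 hN', zero_mul, mul_zero, zero_add,
    zero_add]
  by_cases h : a = P.i0 ∧ b = P.i1
  · rw [if_pos h, one_smul, h.1, h.2]
  · rw [if_neg h, zero_smul]
    refine Finset.sum_eq_zero fun c hc => ?_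
    by_cases ha : a = P.i0
    · rw [hN' c b (fun e => (Std.mem_mids.mp hc).1 e.1) (fun e => h ⟨ha, e.1⟩), mul_zero]
    · rw [hN a c (fun e => ha e.1) (fun e => (Std.mem_mids.mp hc).2 e.1), zero_mul]

theorem zero : Upper P (0 : Matrix (Fin (t + 1) → Fin k) (Fin (t + 1) → Fin k) F) := fun _ _ _ _ => rfl

theorem add (hN : Upper P N) (hN' : Upper P N') : Upper P (N + N') := fun a b h1 h2 => by
  rw [zblk_add, hN a b h1 h2, hN' a b h1 h2, add_zero]

theorem neg (hN : Upper P N) : Upper P (-N) := fun a b h1 h2 => by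
  have h := hN a b h1 h2
  ext u v
  simpa [zblk] using congrFun (congrFun h u) v

theorem sub (hN : Upper P N) (hN' : Upper P N') : Upper P (N - N') := by rw [sub_eq_add_neg]; exact hN.add hN'.neg

theorem kzE (Z : Matrix (Fin t → Fin k) (Fin t → Fin k) F) : Upper P (kz P.E Z) := fun a b h1 _ => by
  rw [zblk_kz, E_apply, if_neg (fun h : a = P.i0 ∧ b = P.i1 => h1 ⟨h.1, by rw [h.2]; exact P.i0_ne_i1.symm⟩),
    zero_smul]

theorem mul (hN : Upper P N) (hN' : Upper P N') : Upper P (N * N') := by rw [mul_eq hN hN']; exact kzE _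

theorem mul_mul_eq_zero {N'' : Matrix (Fin (t + 1) → Fin k) (Fin (t + 1) → Fin k) F} (hN : Upper P N)
    (hN' : Upper P N') (hN'' : Upper P N'') : N * N' * N'' = 0 := by
  rw [mul_eq hN hN']
  refine zblk_ext fun a b => ?_
  rw [zblk_mul]
  refine Finset.sum_eq_zero fun c _ => ?_
  rw [zblk_kz, E_apply]
  by_cases hc : c = P.i1
  · rw [hc, row_i1 hN'', mul_zero]
  · rw [if_neg fun e => hc e.2, zero_smul, zero_mul]

theorem kz_E_mul (hN : Upper P N) (Z : Matrix (Fin t → Fin k) (Fin t → Fin k) F) : kz P.E Z * N = 0 := by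
  refine zblk_ext fun a b => ?_
  rw [zblk_mul]
  refine Finset.sum_eq_zero fun c _ => ?_
  rw [zblk_kz, E_apply]
  by_cases hc : c = P.i1
  · rw [hc, row_i1 hN, mul_zero]
  · rw [if_neg fun e => hc e.2, zero_smul, zero_mul]

variable {H : Subgroup (GL (Fin (t + 1) → Fin k) F)}

/-- The commutator of two radical elements gives a centre element. -/
theorem comm {h h' : GL (Fin (t + 1) → Fin k) F} (hh : h ∈ H) (hh' : h' ∈ H) (e : h.val = 1 + N)
    (e' : h'.val = 1 + N') (hN : Upper P N) (hN' : Upper P N') :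
    InC P H (∑ c ∈ P.mids, (zblk N P.i0 c * zblk N' c P.i1 - zblk N' P.i0 c * zblk N c P.i1)) := by
  set C := kz P.E (∑ c ∈ P.mids, (zblk N P.i0 c * zblk N' c P.i1 - zblk N' P.i0 c * zblk N c P.i1)) with hC
  have hNN : N * N' - N' * N = C := by
    rw [mul_eq hN hN', mul_eq hN' hN, hC, Finset.sum_sub_distrib, sub_eq_add_neg (Finset.sum _ _), kz_add_right, kz_neg_right, ← sub_eq_add_neg]
  have e1 : (1 + C) * ((1 + N') * (1 + N)) = (1 + N) * (1 + N') := by
    rw [← mul_assoc, add_mul (1 : Matrix (Fin (t + 1) → Fin k) (Fin (t + 1) → Fin k) F) C, one_mul, mul_add C,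
      mul_one, hC, kz_E_mul hN', add_zero, add_mul, mul_add (kz P.E _), mul_one, kz_E_mul hN, add_zero, ← hC, ← hNN]
    noncomm_ring
  refine ⟨h * h' * (h' * h)⁻¹, mul_mem (mul_mem hh hh') (inv_mem (mul_mem hh' hh)), ?_⟩
  rw [Units.val_mul, Units.val_mul, e, e', ← e1, ← e', ← e, ← Units.val_mul h' h, mul_assoc, Units.mul_inv, mul_one]

variable [Fintype F]

/-- The column of a radical isometry is given by its row. -/
theorem col_eq_O {h : GL (Fin (t + 1) → Fin k) F} (hh : h ∈ O (powS P.S (t + 1))) (e : h.val = 1 + N)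
    (hN : Upper P N) {d : Fin k} (hd : d ∈ P.mids) :
    zblk N d P.i1 = -((P.S.w d)⁻¹ • adj (powS P.S t) (zblk N P.i0 d)) := by
  obtain ⟨hd0, hd1⟩ := Std.mem_mids.mp hd
  have h1 := (mem_O_iff _).mp hh
  rw [e, adj_add, adj_one, add_mul, one_mul, mul_add, mul_one, add_assoc, add_eq_left] at h1
  have h2 := congrArg (fun Y => zblk Y d P.i1) h1
  rw [show zblk (0 : Matrix (Fin (t + 1) → Fin k) (Fin (t + 1) → Fin k) F) d P.i1 = 0 from rfl, zblk_add, zblk_add,
    zblk_adj, Std.J_i1, Std.J_mid hd0 hd1, Std.w_i1, one_div, zblk_mul] at h2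
  rw [Finset.sum_eq_zero (fun c _ => ?_), add_zero] at h2
  · exact eq_neg_of_add_eq_zero_left h2
  · by_cases hc : c = P.i1
    · rw [hc, row_i1 hN, mul_zero]
    · rw [zblk_adj, Std.J_mid hd0 hd1, hN (P.S.J c) d (fun x => hc (by rw [← P.S.inv c, x.1, Std.J_i0]))
        (fun x => hd1 x.1), adj_zero, smul_zero, zero_mul]

theorem col_eq (two : (2 : F) ≠ 0) (hH : H ≤ Om (powS P.S (t + 1))) {h : GL (Fin (t + 1) → Fin k) F} (hh : h ∈ H)
    (e : h.val = 1 + N) (hN : Upper P N) {d : Fin k} (hd : d ∈ P.mids) :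
    zblk N d P.i1 = -((P.S.w d)⁻¹ • adj (powS P.S t) (zblk N P.i0 d)) :=
  col_eq_O (Om_le_O _ two (hH hh)) e hN hd

/-- The commutator in terms of the rows. -/
theorem comm_row (two : (2 : F) ≠ 0) (hH : H ≤ Om (powS P.S (t + 1))) {h h' : GL (Fin (t + 1) → Fin k) F}
    (hh : h ∈ H) (hh' : h' ∈ H) (e : h.val = 1 + N) (e' : h'.val = 1 + N') (hN : Upper P N) (hN' : Upper P N') :
    InC P H (∑ c ∈ P.mids, (P.S.w c)⁻¹ • (zblk N P.i0 c * adj (powS P.S t) (zblk N' P.i0 c) -
      zblk N' P.i0 c * adj (powS P.S t) (zblk N P.i0 c))) := by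
  have := (comm hh hh' e e' hN hN').neg
  rw [← Finset.sum_neg_distrib] at this
  convert this using 2 with c hc
  rw [col_eq two hH hh e hN hc, col_eq two hH hh' e' hN' hc, mul_neg, mul_neg, mul_smul_comm, mul_smul_comm,
    smul_sub]
  abel

end Upper

variable [Fintype F] {H : Subgroup (GL (Fin (t + 1) → Fin k) F)}

/-- The slot element moving the second isotropic vector towards a middle coordinate. -/
theorem middle_element (two : (2 : F) ≠ 0) {d : Fin k} (hd : d ∈ P.mids) (l : F) :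
    ∃ A ∈ Om P.S, ∃ β : F, (A : Matrix (Fin k) (Fin k) F) = 1 + (l * P.S.w d) • Matrix.single P.i0 d 1 -
      l • Matrix.single d P.i1 1 + β • Matrix.single P.i0 P.i1 1 := by
  obtain ⟨hd0, hd1⟩ := Std.mem_mids.mp hd
  set N := alt P.S P.eo (l • (Pi.single d 1 : Fin k → F)) with hNd
  have hN : N * N * N = 0 := alt_cube P.S P.eo_iso ((Std.isMid_single hd0 hd1).smul l).eo'
  have e : N = (l * P.S.w d) • Matrix.single P.i0 d 1 - l • Matrix.single d P.i1 1 := by
    rw [hNd, alt_smul_right, alt, Std.eo, rk_single, rk_single, Std.J_mid hd0 hd1, Std.J_i0, Std.w_i0, one_smul,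
      smul_sub, smul_smul]
  have h2 : N * N = (-(l * P.S.w d) * l) • Matrix.single P.i0 P.i1 1 := by
    rw [e]
    simp [mul_sub, sub_mul, Matrix.smul_mul, Matrix.mul_smul, hd0, hd1, Ne.symm hd0, Ne.symm hd1,
      P.i0_ne_i1, P.i0_ne_i1.symm, mul_comm, mul_left_comm]
  refine ⟨expU two N, expU_mem_Om two hN (adj_alt _ _ _), (2 : F)⁻¹ * (-(l * P.S.w d) * l), ?_⟩
  rw [expU_coe two hN, h2, smul_smul, e]
  abel

/-- The middle blocks of a radical element give centre elements. -/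
theorem Upper.center_smul (two : (2 : F) ≠ 0) (hH : H ≤ Om (powS P.S (t + 1))) (hM : ContainsW P.S H)
    {h : GL (Fin (t + 1) → Fin k) F} (hh : h ∈ H)
    {N : Matrix (Fin (t + 1) → Fin k) (Fin (t + 1) → Fin k) F} (e : h.val = 1 + N) (hN : Upper P N)
    {d : Fin k} (hd : d ∈ P.mids) (l : F) :
    InC P H (l • (zblk N P.i0 d - adj (powS P.S t) (zblk N P.i0 d))) := by
  obtain ⟨hd0, hd1⟩ := Std.mem_mids.mp hd
  obtain ⟨A, hA, β, hAe⟩ := middle_element (P := P) two hd l
  set Q : Matrix (Fin k) (Fin k) F := (l * P.S.w d) • Matrix.single P.i0 d 1 - l • Matrix.single d P.i1 1 +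
    β • Matrix.single P.i0 P.i1 1 with hQ
  have hm : (kzU A (1 : GL (Fin t → Fin k) F)).val = 1 + kz Q 1 := by
    rw [kzU_coe, hAe, Units.val_one, ← kz_one, ← kz_add_left]
    congr 1
    simp only [hQ]
    abel
  have hQU : Upper P (kz Q (1 : Matrix (Fin t → Fin k) (Fin t → Fin k) F)) := by
    intro a b h1 h2
    rw [zblk_kz, show Q a b = 0 by
      simp only [hQ, Matrix.add_apply, Matrix.sub_apply, Matrix.smul_apply, Matrix.single_apply, smul_eq_mul]
      rw [if_neg (fun x => h1 ⟨x.1.symm, by rw [← x.2]; exact hd0⟩),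
        if_neg (fun x => h2 ⟨x.2.symm, by rw [← x.1]; exact hd1⟩),
        if_neg (fun x => h1 ⟨x.1.symm, by rw [← x.2]; exact P.i0_ne_i1.symm⟩)]
      ring, zero_smul]
  have := Upper.comm_row two hH hh (kzU_mem_H two hM hA (one_mem _) (one_mem _)) e hm hN hQU
  rw [Finset.sum_eq_single d] at this
  · convert this using 1
    rw [zblk_kz, show Q P.i0 d = l * P.S.w d by simp [hQ, Matrix.single_apply, hd0, Ne.symm hd1, hd1],
      adj_smul, adj_one, mul_smul_comm, mul_one, smul_mul_assoc, one_mul, ← smul_sub, smul_smul]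
    congr 1
    field_simp [P.S.w_ne d]
  · intro c hc hcd
    rw [zblk_kz, show Q P.i0 c = 0 by
      simp [hQ, Matrix.single_apply, Ne.symm hcd, hd0, (Std.mem_mids.mp hc).2, Ne.symm (Std.mem_mids.mp hc).2],
      zero_smul, adj_zero, mul_zero, zero_mul, sub_zero, smul_zero]
  · exact fun h => absurd hd h

theorem Upper.center (two : (2 : F) ≠ 0) (hH : H ≤ Om (powS P.S (t + 1))) (hM : ContainsW P.S H)
    {h : GL (Fin (t + 1) → Fin k) F} (hh : h ∈ H)
    {N : Matrix (Fin (t + 1) → Fin k) (Fin (t + 1) → Fin k) F} (e : h.val = 1 + N) (hN : Upper P N)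
    {d : Fin k} (hd : d ∈ P.mids) :
    InC P H (zblk N P.i0 d - adj (powS P.S t) (zblk N P.i0 d)) := by
  simpa using Upper.center_smul two hH hM hh e hN hd 1

theorem Upper.center_CY (two : (2 : F) ≠ 0) (hH : H ≤ Om (powS P.S (t + 1))) (hM : ContainsW P.S H)
    {h : GL (Fin (t + 1) → Fin k) F} (hh : h ∈ H)
    {N : Matrix (Fin (t + 1) → Fin k) (Fin (t + 1) → Fin k) F} (e : h.val = 1 + N) (hN : Upper P N)
    {d : Fin k} (hd : d ∈ P.mids) : zblk N P.i0 d - adj (powS P.S t) (zblk N P.i0 d) ∈ CY P H :=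
  Upper.center_smul two hH hM hh e hN hd

end Cfsg.Agent.WreathO
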