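import Cfsg.Agent.WreathO.Radical
import Cfsg.Agent.WreathO.Refl

/-!
The tuples of rows of the radical elements of a line of slots, and their stability (helper48).
-/

set_option autoImplicit false
set_option linter.unusedSectionVars false

namespace Cfsg.Agent.WreathO

open Matrix Cfsg.Agent.MaxSub Cfsg.Agent.MaxSub.Asch Cfsg.Agent.FG75.SpinTensor Cfsg.Agent.WreathMax

variable {F : Type*} [Field F] {k t : ℕ} {P : Std k F}

theorem Upper.neg_add_sq {N : Matrix (Fin (t + 1) → Fin k) (Fin (t + 1) → Fin k) F} (hN : Upper P N) :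
    Upper P (-N + N * N) := by
  intro a b h1 h2
  rw [zblk_add, zblk_neg, hN a b h1 h2, Upper.mul_eq hN hN, zblk_kz, E_apply,
    if_neg fun h => h1 ⟨h.1, by rw [h.2]; exact P.i0_ne_i1.symm⟩]
  simp

theorem Upper.add_mul {N N' : Matrix (Fin (t + 1) → Fin k) (Fin (t + 1) → Fin k) F} (hN : Upper P N)
    (hN' : Upper P N') : Upper P (N + N' + N * N') := by
  intro a b h1 h2
  rw [zblk_add, zblk_add, hN a b h1 h2, hN' a b h1 h2, Upper.mul_eq hN hN', zblk_kz, E_apply,
    if_neg fun h => h1 ⟨h.1, by rw [h.2]; exact P.i0_ne_i1.symm⟩]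
  simp

theorem zblk_kz_E_mid (Z : Matrix (Fin t → Fin k) (Fin t → Fin k) F) {c : Fin k} (hc : c ∈ P.mids) :
    zblk (kz P.E Z) P.i0 c = 0 := by
  rw [zblk_kz, E_apply, if_neg fun h => (Std.mem_mids.mp hc).2 h.2, zero_smul]

variable (P) in
/-- The rows of the radical elements of `H`. -/
def rowTuples (H : Subgroup (GL (Fin (t + 1) → Fin k) F)) :
    AddSubgroup ({c : Fin k // c ∈ P.mids} → Matrix (Fin t → Fin k) (Fin t → Fin k) F) where
  carrier := {X | ∃ h ∈ H, ∃ N, h.val = 1 + N ∧ Upper P N ∧ ∀ c, X c = zblk N P.i0 c.1}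
  zero_mem' := ⟨1, one_mem H, 0, by rw [Units.val_one, add_zero], fun a b _ _ => rfl, fun _ => rfl⟩
  add_mem' := by
    rintro X Y ⟨h, hh, N, e, hN, hX⟩ ⟨h', hh', N', e', hN', hY⟩
    refine ⟨h * h', mul_mem hh hh', N + N' + N * N', ?_, hN.add_mul hN', fun c => ?_⟩
    · rw [Units.val_mul, e, e']; noncomm_ring
    · rw [Pi.add_apply, hX, hY, zblk_add, zblk_add, Upper.mul_eq hN hN', zblk_kz_E_mid _ c.2, add_zero]
  neg_mem' := by
    rintro X ⟨h, hh, N, e, hN, hX⟩
    refine ⟨h⁻¹, inv_mem hh, -N + N * N, left_inv_eq_right_inv (Units.inv_mul h) ?_, hN.neg_add_sq, fun c => ?_⟩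
    · have h3 : N * N * N = 0 := by rw [Upper.mul_eq hN hN, hN.kz_E_mul]
      rw [e]
      simp only [mul_add, _root_.add_mul, mul_neg, one_mul, mul_one, ← mul_assoc, h3]
      abel
    · rw [Pi.neg_apply, hX, zblk_add, zblk_neg, Upper.mul_eq hN hN, zblk_kz_E_mid _ c.2, add_zero]

/-- An isometry fixing the two isotropic vectors keeps the coordinates apart. -/
theorem fix_apply {A : GL (Fin k) F} (hA : A ∈ O P.S) (he : A.val *ᵥ P.eo = P.eo)
    (hw : A.val *ᵥ P.ew = P.ew) :
    (∀ a e, A.val a e ≠ 0 → (a = P.i0 ↔ e = P.i0) ∧ (a = P.i1 ↔ e = P.i1)) ∧ A.val P.i0 P.i0 = 1 := by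
  have c0 : ∀ a, A.val a P.i0 = if a = P.i0 then 1 else 0 := fun a => by
    simpa [Std.eo, Matrix.mulVec_single_one, Pi.single_apply] using congrFun he a
  have c1 : ∀ a, A.val a P.i1 = if a = P.i1 then 1 else 0 := fun a => by
    simpa [Std.ew, Matrix.mulVec_single_one, Pi.single_apply] using congrFun hw a
  have r : ∀ u : Fin k → F, A.val *ᵥ u = u → ∀ v, sf P.S (A.val *ᵥ v) u = sf P.S v u := fun u hu v => by
    conv_lhs => rw [← hu]
    exact mem_isom.mp hA v u
  have r0 : ∀ e, A.val P.i0 e = if e = P.i0 then 1 else 0 := fun e => by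
    have h := r _ hw (Pi.single e 1)
    rw [Std.f_ew, Std.f_ew, Matrix.mulVec_single_one, Matrix.col_apply, Pi.single_apply] at h
    rw [h]; exact if_congr eq_comm rfl rfl
  have r1 : ∀ e, A.val P.i1 e = if e = P.i1 then 1 else 0 := fun e => by
    have h := r _ he (Pi.single e 1)
    rw [Std.f_eo, Std.f_eo, Matrix.mulVec_single_one, Matrix.col_apply, Pi.single_apply] at h
    rw [h]; exact if_congr eq_comm rfl rfl
  refine ⟨fun a e hne => ⟨⟨fun ha => ?_, fun hb => ?_⟩, ⟨fun ha => ?_, fun hb => ?_⟩⟩, by simp [c0]⟩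
  · subst ha; by_contra h; exact hne (by rw [r0, if_neg h])
  · subst hb; by_contra h; exact hne (by rw [c0, if_neg h])
  · subst ha; by_contra h; exact hne (by rw [r1, if_neg h])
  · subst hb; by_contra h; exact hne (by rw [c1, if_neg h])

theorem inv_fix {A : GL (Fin k) F} {u : Fin k → F} (h : A.val *ᵥ u = u) :
    ((A⁻¹ : GL (Fin k) F) : Matrix (Fin k) (Fin k) F) *ᵥ u = u := by
  conv_lhs => rw [← h]
  rw [mulVec_mulVec, Units.inv_mul, one_mulVec]

variable {H : Subgroup (GL (Fin (t + 1) → Fin k) F)}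

/-- The rows of a conjugate of a radical element. -/
theorem rowTuples_conj {A : GL (Fin k) F} (hA : A ∈ O P.S) (he : A.val *ᵥ P.eo = P.eo)
    (hw : A.val *ᵥ P.ew = P.ew) {B : GL (Fin t → Fin k) F} (hu : kzU A B ∈ H)
    {X : {c : Fin k // c ∈ P.mids} → Matrix (Fin t → Fin k) (Fin t → Fin k) F} (hX : X ∈ rowTuples P H) :
    (fun c => ∑ f : {c : Fin k // c ∈ P.mids},
      ((A⁻¹ : GL (Fin k) F) : Matrix (Fin k) (Fin k) F) f.1 c.1 • conjHom B (X f)) ∈ rowTuples P H := by
  classical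
  obtain ⟨h, hh, N, e, hN, hX⟩ := hX
  set A' : Matrix (Fin k) (Fin k) F := (A⁻¹ : GL (Fin k) F).val with hA'
  obtain ⟨hAs, hA00⟩ := fix_apply hA he hw
  obtain ⟨hBs, -⟩ := fix_apply (inv_mem hA) (inv_fix he) (inv_fix hw)
  set N' := (kzU A B).val * N * ((kzU A B)⁻¹).val with hN'
  have hblk : ∀ a b, zblk N' a b = ∑ e, ∑ f, (A.val a e * A' f b) • conjHom B (zblk N e f) := by
    intro a b
    rw [hN', show ((kzU A B)⁻¹).val = kz A' (B⁻¹ : GL (Fin t → Fin k) F).val from rfl, kzU_coe, mul_assoc, zblk_mul]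
    refine Finset.sum_congr rfl fun e _ => ?_
    rw [zblk_mul, Finset.mul_sum]
    refine Finset.sum_congr rfl fun f _ => ?_
    rw [zblk_kz, zblk_kz, conjHom_apply, smul_mul_assoc, mul_smul_comm, mul_smul_comm, smul_smul, mul_assoc]
  refine ⟨kzU A B * h * (kzU A B)⁻¹, mul_mem (mul_mem hu hh) (inv_mem hu), N', ?_, ?_, fun c => ?_⟩
  · rw [Units.val_mul, Units.val_mul, e, conj_one_add]
  · intro a b h1 h2
    rw [hblk]
    refine Finset.sum_eq_zero fun e _ => Finset.sum_eq_zero fun f _ => ?_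
    by_cases hz : A.val a e = 0
    · rw [hz, zero_mul, zero_smul]
    by_cases hz' : A' f b = 0
    · rw [hz', mul_zero, zero_smul]
    obtain ⟨p0, p1⟩ := hAs a e hz
    obtain ⟨q0, q1⟩ := hBs f b hz'
    rw [hN e f (fun x => h1 ⟨p0.mpr x.1, fun y => x.2 (q0.mpr y)⟩)
      (fun x => h2 ⟨q1.mp x.1, fun y => x.2 (p1.mp y)⟩), map_zero, smul_zero]
  · rw [hblk]
    beta_reduce
    obtain ⟨c0, c1⟩ := Std.mem_mids.mp c.2
    rw [Finset.sum_eq_single P.i0 ?_ (by simp)]
    · rw [Std.sum_split (P := P), hA00]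
      have z0 : zblk N P.i0 P.i0 = 0 := hN.col_i0 _
      have z1 : A' P.i1 c.1 = 0 := by
        by_contra hne; exact c1 ((hBs _ _ hne).2.mp rfl)
      rw [z0, z1, map_zero, smul_zero, mul_zero, zero_smul, zero_add, zero_add, ← Finset.sum_coe_sort P.mids]
      exact Finset.sum_congr rfl fun f _ => by rw [one_mul, hX]
    · intro e _ hne
      refine Finset.sum_eq_zero fun f _ => ?_
      by_cases hz : A.val P.i0 e = 0
      · rw [hz, zero_mul, zero_smul]
      · exact absurd ((hAs _ _ hz).1.mp rfl) hne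

theorem factorPerm_conj_slotU (σ : Equiv.Perm (Fin t)) (i : Fin t) (g : GL (Fin k) F) :
    factorPerm σ * slotU i g * (factorPerm σ)⁻¹ = slotU (σ i) g := by
  rw [mul_inv_eq_iff_eq_mul]
  refine Units.ext ?_
  rw [Units.val_mul, Units.val_mul, slotU_coe, slotU_coe, factorPerm_mul_slot]

theorem Std.flip_eq_refl {a : Fin k} (h0 : a ≠ P.i0) (h1 : a ≠ P.i1) :
    P.flip a = refl P.S (Pi.single a 1) := by
  have hw : sf P.S (Pi.single a 1) (Pi.single a 1) = P.w a := Std.sf_single_mid h0 h1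
  refine Units.ext ?_
  rw [refl_coe (by rw [hw]; exact P.w_ne a), hw, rk_single, Std.J_mid h0 h1, smul_smul]
  show Matrix.diagonal _ = _
  ext i j
  rw [Matrix.sub_apply, Matrix.smul_apply, Matrix.single_apply, Matrix.one_apply, Matrix.diagonal_apply,
    show P.S.w a = P.w a from rfl, div_mul_cancel₀ _ (P.w_ne a), smul_eq_mul]
  by_cases hij : i = j
  · subst hij
    by_cases hi : a = i
    · subst hi; simp; ring
    · simp [hi, Ne.symm hi]
  · rw [if_neg hij, if_neg hij, if_neg (fun h => hij (h.1.symm.trans h.2))]; simp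

theorem Std.flip_isometry {a : Fin k} (h0 : a ≠ P.i0) (h1 : a ≠ P.i1) : P.flip a ∈ O P.S := by
  rw [Std.flip_eq_refl h0 h1]
  exact refl_mem_O (by rw [Std.sf_single_mid h0 h1]; exact P.w_ne a)

theorem Std.flip_inv (P : Std k F) (a : Fin k) : (P.flip a)⁻¹ = P.flip a := Units.ext rfl

theorem Std.flip_fix {a b : Fin k} (h : b ≠ a) :
    (P.flip a).val *ᵥ (Pi.single b 1 : Fin k → F) = Pi.single b 1 := by
  funext c
  show (Matrix.diagonal _ *ᵥ _) c = _
  rw [Matrix.mulVec_diagonal]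
  rcases eq_or_ne c b with rfl | hc
  · simp [h]
  · simp [hc]

/-- The reflections of two slots of the same coordinate. -/
theorem flip_kzU_mem_Om (two : (2 : F) ≠ 0) {a : Fin k} (h0 : a ≠ P.i0) (h1 : a ≠ P.i1) (l : Fin t) :
    kzU (P.flip a) (slotU l (P.flip a)) ∈ Om (powS P.S (t + 1)) := by
  have hf := Std.flip_isometry h0 h1
  have h := mem_Om_commutator (powS P.S (t + 1)) two (slotU_mem_O P.S hf (0 : Fin (t + 1)))
    (factorPerm_mem_O P.S (Equiv.swap (0 : Fin (t + 1)) l.succ))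
  rwa [slotU_inv, Std.flip_inv, mul_assoc (slotU (0 : Fin (t + 1)) (P.flip a)), mul_assoc (slotU (0 : Fin (t + 1)) (P.flip a)),
    factorPerm_conj_slotU, Equiv.swap_apply_left,
    show slotU (0 : Fin (t + 1)) (P.flip a) * slotU l.succ (P.flip a) = kzU (P.flip a) (slotU l (P.flip a)) from
      Units.ext (by rw [Units.val_mul, slotU_coe, slotU_coe, kzU_coe, slotU_coe, slot_zero_eq_kz, slot_succ_eq_kz,
        kz_mul, mul_one, one_mul])] at h

variable (P) in
/-- The sign of a reflection at a coordinate. -/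
def flipSign (a : Fin k) (c : {c : Fin k // c ∈ P.mids}) : F := if c.1 = a then -1 else 1

variable [Fintype F]

/-- Conjugation by the other slots. -/
theorem rowTuples_rest (two : (2 : F) ≠ 0) (hM : ContainsW P.S H) {B : GL (Fin t → Fin k) F}
    (hB : B ∈ Om (powS P.S t)) (hBW : B ∈ Geo.tensorWreathStandard k t F)
    {X : {c : Fin k // c ∈ P.mids} → Matrix (Fin t → Fin k) (Fin t → Fin k) F} (hX : X ∈ rowTuples P H) :
    (fun c => conjHom B (X c)) ∈ rowTuples P H := by
  classical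
  have h := rowTuples_conj (A := 1) (one_mem _) (by simp) (by simp) (kzU_mem_H two hM (one_mem _) hB hBW) hX
  convert h using 2 with c
  rw [Finset.sum_eq_single c]
  · simp
  · intro f _ hf
    rw [inv_one, Units.val_one, Matrix.one_apply_ne (fun e => hf (Subtype.ext e)), zero_smul]
  · simp

/-- The rows are stable under the groups of the slots. -/
theorem rowTuples_stable (two : (2 : F) ≠ 0) (hM : ContainsW P.S H) :
    SlotStable P (rowTuples P H) (flipSign P) where
  conj X hX l g hg := rowTuples_rest two hM (slotU_mem_Om two hg l) (slotU_mem l g) hX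
  refl _ _ X hX l a h0 h1 := by
    classical
    have hu : kzU (P.flip a) (slotU l (P.flip a)) ∈ H :=
      hM _ (kzU_mem (P.flip a) (slotU_mem l (P.flip a))) (flip_kzU_mem_Om two h0 h1 l)
    have h := rowTuples_conj (Std.flip_isometry h0 h1) (Std.flip_fix (Ne.symm h0)) (Std.flip_fix (Ne.symm h1)) hu hX
    convert h using 2 with c
    rw [Finset.sum_eq_single c]
    · rw [Std.flip_inv]
      show _ = (Matrix.diagonal _ c.1 c.1) • _
      rw [Matrix.diagonal_apply_eq]
      rfl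
    · intro f _ hf
      rw [Std.flip_inv]
      show (Matrix.diagonal _ f.1 c.1) • _ = 0
      rw [Matrix.diagonal_apply_ne _ (fun e => hf (Subtype.ext e)), zero_smul]
    · simp

/-- With no centre the rows are symmetric and commute in the sum. -/
theorem rowTuples_sym (two : (2 : F) ≠ 0) (hH : H ≤ Om (powS P.S (t + 1))) (hM : ContainsW P.S H)
    (hns : ∀ Z, InC P H Z → Z = 0)
    {X : {c : Fin k // c ∈ P.mids} → Matrix (Fin t → Fin k) (Fin t → Fin k) F} (hX : X ∈ rowTuples P H)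
    (c : {c : Fin k // c ∈ P.mids}) : adj (powS P.S t) (X c) = X c := by
  obtain ⟨h, hh, N, e, hN, hX⟩ := hX
  rw [hX]
  exact (sub_eq_zero.mp (hns _ (Upper.center two hH hM hh e hN c.2))).symm

theorem rowTuples_bracket (two : (2 : F) ≠ 0) (hH : H ≤ Om (powS P.S (t + 1))) (hM : ContainsW P.S H)
    (hns : ∀ Z, InC P H Z → Z = 0)
    {X Y : {c : Fin k // c ∈ P.mids} → Matrix (Fin t → Fin k) (Fin t → Fin k) F} (hX : X ∈ rowTuples P H)
    (hY : Y ∈ rowTuples P H) : ∑ c, (P.S.w c.1)⁻¹ • (X c * Y c - Y c * X c) = 0 := by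
  have sX := rowTuples_sym two hH hM hns hX
  have sY := rowTuples_sym two hH hM hns hY
  obtain ⟨h, hh, N, e, hN, hX⟩ := hX
  obtain ⟨h', hh', N', e', hN', hY⟩ := hY
  have h0 := hns _ (Upper.comm_row two hH hh hh' e e' hN hN')
  rw [← Finset.sum_coe_sort P.mids] at h0
  refine Eq.trans (Finset.sum_congr rfl fun c _ => ?_) h0
  rw [← hX, ← hY, sX, sY]

end Cfsg.Agent.WreathO
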