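import Cfsg.Agent.WreathO.SeedSlot
import Cfsg.Agent.WreathO.Closure
import Cfsg.Agent.WreathO.Radical

/-!
A nonzero element of the centre of the radical of a line of slots gives a pure seed; with one further slot it gives
all skew maps (helper76).
-/

set_option autoImplicit false
set_option linter.unusedSectionVars false
set_option linter.unusedSimpArgs false

namespace Cfsg.Agent.WreathO

open Matrix Cfsg.Agent.MaxSub Cfsg.Agent.MaxSub.Asch Cfsg.Agent.FG75.SpinTensor Cfsg.Agent.WreathMax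

variable {F : Type*} [Field F] {k t : ℕ} {P : Std k F}
variable {H : Subgroup (GL (Fin (t + 1) → Fin k) F)}

theorem slot_mul_tens_smul (l : Fin t) (c : F) (b : Fin t → Matrix (Fin k) (Fin k) F)
    (X : Matrix (Fin k) (Fin k) F) :
    tens (Function.update b l (c • X)) = c • tens (Function.update b l X) := by
  have h := slot_mul_tens l (c • (1 : Matrix (Fin k) (Fin k) F)) (Function.update b l X)
  rw [Function.update_self, Function.update_idem, smul_one_mul, slot_smul_one, Matrix.smul_mul, one_mul] at h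
  exact h.symm

theorem conjHom_slotU_tens_seed (l : Fin t) (g : GL (Fin k) F) (Y : Fin t → Matrix (Fin k) (Fin k) F) :
    conjHom (slotU l g) (tens Y) = tens (Function.update Y l
      ((g : Matrix (Fin k) (Fin k) F) * Y l * ((g⁻¹ : GL (Fin k) F) : Matrix (Fin k) (Fin k) F))) := by
  rw [conjHom_apply, slotU_inv, slotU_coe, slotU_coe, slot_mul_tens, tens_mul_slot, Function.update_self,
    Function.update_idem]

theorem conjHom_factorPerm_tens (σ : Equiv.Perm (Fin t)) (Y : Fin t → Matrix (Fin k) (Fin k) F) :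
    conjHom (factorPerm σ : GL (Fin t → Fin k) F) (tens Y) = tens fun i => Y (σ.symm i) := by
  rw [← one_mul (factorPerm σ), ← tensGL_one, conjHom_wreath_tens]
  simp

variable (H) in
/-- `1 + c Y` lies in `H`, for a pure tensor `Y` on all the slots. -/
def InT (c : F) (Y : Fin (t + 1) → Matrix (Fin k) (Fin k) F) : Prop := ∃ g ∈ H, g.val = 1 + c • tens Y

theorem InT.conj {c : F} {Y : Fin (t + 1) → Matrix (Fin k) (Fin k) F} (h : InT H c Y)
    {x : GL (Fin (t + 1) → Fin k) F} (hx : x ∈ H) {Y' : Fin (t + 1) → Matrix (Fin k) (Fin k) F}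
    (e : conjHom x (tens Y) = tens Y') : InT H c Y' := by
  obtain ⟨g, hg, hv⟩ := h
  refine ⟨x * g * x⁻¹, mul_mem (mul_mem hx hg) (inv_mem hx), ?_⟩
  rw [Units.val_mul, Units.val_mul, hv, conj_one_add, ← conjHom_apply, map_smul, e]

theorem InT.inK {c : F} {Y : Fin (t + 1) → Matrix (Fin k) (Fin k) F} (h : InT H c Y) :
    InK H (Y 0) (c • tens fun j : Fin t => Y j.succ) := by
  obtain ⟨g, hg, hv⟩ := h
  exact ⟨g, hg, by rw [hv, tens_eq_kz, kz_smul_right]⟩

theorem InT.of_CY {c : F} {X : Fin t → Matrix (Fin k) (Fin k) F} (h : tens X ∈ CY P H) :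
    InT H c (Fin.cons P.E X) := by
  obtain ⟨g, hg, hv⟩ := h c
  refine ⟨g, hg, ?_⟩
  rw [hv, tens_eq_kz, kz_smul_right]
  simp

variable [Fintype F]

/-- Two centre elements placed against each other: the anticommutator. -/
theorem InK.anticomm (two : (2 : F) ≠ 0) (hH : H ≤ Om (powS P.S (t + 1))) (hM : ContainsW P.S H)
    {A B : Matrix (Fin t → Fin k) (Fin t → Fin k) F} {z : Fin k → F} (hz : P.IsMid z) {d : Fin k}
    (hd : d ∈ P.mids) (hzd : z d ≠ 0) (hA : InC P H A) (hB : InK H (alt P.S P.ew z) B) (hBB : B * B = 0)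
    (hBAB : B * A * B = 0) : A * B + B * A ∈ CY P H := by
  obtain ⟨hd0, hd1⟩ := Std.mem_mids.mp hd
  obtain ⟨g1, hg1, e1⟩ := hA
  obtain ⟨g2, hg2, e2⟩ := hB
  set a := kz P.E A with ha
  set b := kz (alt P.S P.ew z) B with hb
  have haa : a * a = 0 := by rw [ha, kz_mul, E_sq, kz_zero_left]
  have hbb : b * b = 0 := by rw [hb, kz_mul, hBB, kz_zero_right]
  have hQe : alt P.S P.ew z *ᵥ P.eo = -z := by
    rw [alt_mulVec, hz.eo', P.eo_ew]; simp
  have hEQ : P.E * alt P.S P.ew z = rk P.S P.eo z := by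
    rw [Std.E, rk_mul_left, adj_alt, neg_mulVec, hQe, neg_neg]
  have hQE : alt P.S P.ew z * P.E = -rk P.S z P.eo := by
    rw [Std.E, mul_rk, hQe, rk_neg_left]
  have haba : a * b * a = 0 := by
    rw [ha, hb, kz_mul, kz_mul, hEQ, Std.E, rk_mul, hz.eo', zero_smul, kz_zero_left]
  have hbab : b * a * b = 0 := by rw [ha, hb, kz_mul, kz_mul, hBAB, kz_zero_right]
  have i1 : (g1⁻¹ : GL (Fin (t + 1) → Fin k) F).val = 1 - a :=
    left_inv_eq_right_inv (Units.inv_mul g1) (by rw [e1]; simp [mul_sub, add_mul, haa])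
  have i2 : (g2⁻¹ : GL (Fin (t + 1) → Fin k) F).val = 1 - b :=
    left_inv_eq_right_inv (Units.inv_mul g2) (by rw [e2]; simp [mul_sub, add_mul, hbb])
  -- the second factor is symmetric
  have hadjB : adj (powS P.S t) B = B := by
    have h1 := inv_eq_adj _ (Om_le_O _ two (hH hg2))
    rw [i2, e2, adj_add, adj_one, sub_eq_add_neg, add_right_inj, hb, adj_kz, adj_alt, ← neg_one_smul F (alt P.S P.ew z),
      kz_smul_left, neg_one_smul, neg_inj] at h1
    have h2 := congrArg (fun Y => zblk Y P.i1 d) h1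
    simp only [zblk_kz] at h2
    have hne : alt P.S P.ew z P.i1 d ≠ 0 := by
      have h3 := congrFun (alt_mulVec P.S P.ew z (Pi.single d 1)) P.i1
      rw [Matrix.mulVec_single_one, (Std.isMid_single hd0 hd1).ew, sf_single, Std.J_mid hd0 hd1] at h3
      have h4 : alt P.S P.ew z P.i1 d = P.S.w d * z d := by
        refine (show alt P.S P.ew z P.i1 d = _ from h3).trans ?_
        simp [Std.ew]
      rw [h4]
      exact mul_ne_zero (P.S.w_ne d) hzd
    exact (smul_right_injective _ hne h2).symm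
  set N := kz (rk P.S P.eo z) (A * B) + kz (rk P.S z P.eo) (B * A) with hN
  have hNeq : a * b - b * a = N := by
    rw [ha, hb, kz_mul, kz_mul, hEQ, hQE, hN, ← neg_one_smul F (rk P.S z P.eo), kz_smul_left, neg_one_smul,
      sub_neg_eq_add]
  have hval : (g1 * g2 * g1⁻¹ * g2⁻¹).val = 1 + N := by
    rw [Units.val_mul, Units.val_mul, Units.val_mul, i1, i2, e1, e2, ← hNeq]
    simp only [mul_add, add_mul, mul_sub, sub_mul, mul_one, one_mul, haa, hbb, haba, hbab, ← mul_assoc,
      Matrix.zero_mul, sub_zero, add_zero, zero_add]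
    simp only [mul_assoc a b b, hbb, mul_zero]
    abel
  have hU : Upper P N := by
    intro x y h1 h2
    rw [hN, zblk_add, zblk_kz, zblk_kz]
    have e1' : rk P.S P.eo z x y = 0 := by
      rw [rk, vecMulVec_apply]
      rcases eq_or_ne x P.i0 with rfl | hx
      · have hy : y = P.i0 := by_contra fun hy => h1 ⟨rfl, hy⟩
        simp [hy, cv, Std.J_i0, hz.2]
      · simp [Std.eo, hx]
    have e2' : rk P.S z P.eo x y = 0 := by
      rw [rk, vecMulVec_apply]
      rcases eq_or_ne y P.i1 with rfl | hy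
      · have hx : x = P.i1 := by_contra fun hx => h2 ⟨rfl, hx⟩
        simp [hx, hz.2]
      · have hJ : P.S.J y ≠ P.i0 := fun e => hy (by rw [← P.S.inv y, e, Std.J_i0])
        simp [cv, Std.eo, hJ]
    rw [e1', e2', zero_smul, zero_smul, add_zero]
  have hmem := mul_mem (mul_mem (mul_mem hg1 hg2) (inv_mem hg1)) (inv_mem hg2)
  have h := Upper.center_CY two hH hM hmem hval hU hd
  have hz1 : zblk N P.i0 d = (P.w d * z d) • (A * B) := by
    rw [hN, zblk_add, zblk_kz, zblk_kz]
    have e1' : rk P.S P.eo z P.i0 d = P.w d * z d := by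
      simp [rk, vecMulVec_apply, cv, Std.eo, Std.J_mid hd0 hd1, show P.S.w d = P.w d from rfl]
    have e2' : rk P.S z P.eo P.i0 d = 0 := by simp [rk, vecMulVec_apply, hz.1]
    rw [e1', e2', zero_smul, add_zero]
  have hAsk : adj (powS P.S t) A = -A := InC.skew two hH ⟨g1, hg1, e1⟩
  rw [hz1, adj_smul, adj_mul, hadjB, hAsk, mul_neg, ← smul_sub, sub_neg_eq_add] at h
  have h' := (CY P H).smul_mem (P.w d * z d)⁻¹ h
  rwa [smul_smul, inv_mul_cancel₀ (mul_ne_zero (P.w_ne d) hzd), one_smul] at h'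

/-- The centre as a stable family. -/
theorem centreTuples_stable (two : (2 : F) ≠ 0) (hM : ContainsW P.S H) :
    SlotStable P (centreTuples P H) (fun _ _ => (1 : F)) := by
  refine ⟨fun X hX l g hg => InC.conj two hM (slotU_mem_Om two hg l) (slotU_mem l g) hX, ?_⟩
  intro _ _ X hX l a ha0 ha1
  show InC P H ((1 : F) • conjHom (slotU l (P.flip a)) (X ()))
  rw [one_smul]
  have hf2 : (P.flip a : GL (Fin k) F) * P.flip a = 1 := Units.ext (P.flip a).val_inv
  have hfO : P.flip a ∈ O P.S := by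
    rw [mem_O_iff]
    show adj P.S (Matrix.diagonal fun b => if b = a then (-1 : F) else 1) *
      (Matrix.diagonal fun b => if b = a then (-1 : F) else 1) = 1
    have e : adj P.S (Matrix.diagonal fun b => if b = a then (-1 : F) else 1) =
        Matrix.diagonal fun b => if b = a then (-1 : F) else 1 := by
      ext x y
      simp only [adj, Matrix.of_apply, Matrix.diagonal_apply]
      by_cases hxy : x = y
      · subst hxy
        rw [if_pos rfl, if_pos rfl, div_self (P.S.w_ne x), one_mul]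
        have hJ : P.S.J x = a ↔ x = a :=
          ⟨fun e => by rw [← P.S.inv x, e, Std.J_mid ha0 ha1], fun e => by rw [e, Std.J_mid ha0 ha1]⟩
        simp [hJ]
      · rw [if_neg (fun e => hxy (P.S.J.injective e).symm), if_neg hxy, mul_zero]
    rw [e]
    exact (P.flip a).val_inv
  have hfE : (P.flip a : GL (Fin k) F).val * P.E * ((P.flip a)⁻¹ : GL (Fin k) F).val = P.E := by
    rw [Std.E, WreathO.conj_rk P.S hfO]
    have : (P.flip a : GL (Fin k) F).val *ᵥ P.eo = P.eo := by
      funext x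
      show ((Matrix.diagonal fun b => if b = a then (-1 : F) else 1) *ᵥ P.eo) x = _
      rw [Matrix.mulVec_diagonal]
      by_cases hx : x = a
      · subst hx; simp [Std.eo, ha0]
      · simp [hx]
    rw [this]
  set σ : Equiv.Perm (Fin (t + 1)) := Equiv.swap 0 l.succ
  set f0 : GL (Fin (t + 1) → Fin k) F := slotU 0 (P.flip a)
  have hcomm : factorPerm σ * f0 * (factorPerm σ)⁻¹ * f0⁻¹ = kzU (P.flip a) (slotU l (P.flip a)) := by
    have e1 : factorPerm σ * f0 * (factorPerm σ)⁻¹ = slotU l.succ (P.flip a) := by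
      refine Units.ext ?_
      rw [Units.val_mul, Units.val_mul, slotU_coe, slotU_coe, factorPerm_mul_slot, mul_assoc, Units.mul_inv, mul_one]
      simp [σ]
    rw [e1, show f0⁻¹ = f0 from (slotU_inv _ _).trans (by rw [inv_eq_of_mul_eq_one_right hf2])]
    refine Units.ext ?_
    rw [Units.val_mul, slotU_coe, slotU_coe, kzU_coe, slotU_coe, slot_succ_eq_kz, slot_zero_eq_kz, kz_mul,
      one_mul, mul_one]
  have hx : kzU (P.flip a) (slotU l (P.flip a)) ∈ H := by
    rw [← hcomm]
    refine hM _ (mul_mem (mul_mem (mul_mem (factorPerm_mem σ) (slotU_mem _ _)) (inv_mem (factorPerm_mem σ)))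
      (inv_mem (slotU_mem _ _))) ?_
    exact mem_Om_commutator _ two (factorPerm_mem_O P.S σ) (slotU_mem_O P.S hfO 0)
  obtain ⟨g, hg, e⟩ := hX
  refine ⟨kzU (P.flip a) (slotU l (P.flip a)) * g * (kzU (P.flip a) (slotU l (P.flip a)))⁻¹,
    mul_mem (mul_mem hx hg) (inv_mem hx), ?_⟩
  rw [Units.val_mul, Units.val_mul, e, conj_one_add]
  congr 1
  show kz _ _ * kz _ _ * kz _ _ = _
  rw [kz_mul, kz_mul, hfE, ← conjHom_apply]

/-- A pure element without a square gives a pure seed. -/
theorem exists_seed_of_pure (hP : P.Good) (ht : 2 ≤ t) (hH : H ≤ Om (powS P.S (t + 1))) (hM : ContainsW P.S H)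
    {m : Fin t → Fin k} {T : Fin t → Ty} (hm : ∀ l, m l ≠ P.i0 ∧ m l ≠ P.i1) (hne : ∃ l, T l ≠ Ty.one)
    (h : tens (fun l => P.entry (m l) (T l)) ∈ CY P H) :
    ∃ (m' : Fin t → Fin k) (T' : Fin t → Ty), (∀ l, m' l ≠ P.i0 ∧ m' l ≠ P.i1) ∧ (∃ l, T' l = Ty.E) ∧
      tens (fun l => P.entry (m' l) (T' l)) ∈ CY P H := by
  classical
  have two := hP.two
  by_cases hE : ∃ l, T l = Ty.E
  · exact ⟨m, T, hm, hE, h⟩
  push Not at hE
  set X : Fin t → Matrix (Fin k) (Fin k) F := fun l => P.entry (m l) (T l) with hX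
  obtain ⟨l, hl⟩ := hne
  have hlQ : T l = Ty.Q := by
    rcases hT : T l with _ | _ | _
    · exact absurd hT hl
    · exact absurd hT (hE l)
    · rfl
  obtain ⟨μ, hμl, hμ⟩ : ∃ μ, μ ≠ l ∧ (T μ = Ty.one ∨ ∀ i, T i = Ty.Q) := by
    by_cases hone : ∃ i, T i = Ty.one
    · obtain ⟨i, hi⟩ := hone
      exact ⟨i, fun e => hl (e ▸ hi), Or.inl hi⟩
    · haveI : Nontrivial (Fin t) := Fin.nontrivial_iff_two_le.mpr ht
      obtain ⟨i, hi⟩ := exists_ne l
      refine ⟨i, hi, Or.inr fun j => ?_⟩
      rcases hT : T j with _ | _ | _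
      · exact absurd ⟨j, hT⟩ hone
      · exact absurd hT (hE j)
      · rfl
  -- the permutation of the slots
  set σ : Equiv.Perm (Fin (t + 1)) := Equiv.swap 0 μ.succ * Equiv.swap l.succ μ.succ with hσ
  have h0m : (0 : Fin (t + 1)) ≠ μ.succ := (Fin.succ_ne_zero μ).symm
  have h0l : (0 : Fin (t + 1)) ≠ l.succ := (Fin.succ_ne_zero l).symm
  have hlm : l.succ ≠ μ.succ := fun e => hμl (Fin.succ_injective _ e).symm
  have hσ0 : σ 0 = μ.succ := by
    rw [hσ, Equiv.Perm.mul_apply, Equiv.swap_apply_of_ne_of_ne h0l h0m, Equiv.swap_apply_left]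
  have hσl : σ l.succ = 0 := by
    rw [hσ, Equiv.Perm.mul_apply, Equiv.swap_apply_left, Equiv.swap_apply_right]
  have hσm : σ μ.succ = l.succ := by
    rw [hσ, Equiv.Perm.mul_apply, Equiv.swap_apply_right, Equiv.swap_apply_of_ne_of_ne h0l.symm hlm]
  have hσo : ∀ i : Fin t, i ≠ l → i ≠ μ → σ i.succ = i.succ := fun i h1 h2 => by
    rw [hσ, Equiv.Perm.mul_apply, Equiv.swap_apply_of_ne_of_ne (fun e => h1 (Fin.succ_injective _ e))
      (fun e => h2 (Fin.succ_injective _ e)), Equiv.swap_apply_of_ne_of_ne (Fin.succ_ne_zero i)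
      (fun e => h2 (Fin.succ_injective _ e))]
  have hσ3 : σ * σ * σ = 1 := by
    refine Equiv.ext fun x => ?_
    simp only [Equiv.Perm.mul_apply, Equiv.Perm.one_apply]
    induction x using Fin.cases with
    | zero => rw [hσ0, hσm, hσl]
    | succ i =>
      rcases eq_or_ne i l with rfl | h1
      · rw [hσl, hσ0, hσm]
      rcases eq_or_ne i μ with rfl | h2
      · rw [hσm, hσl, hσ0]
      rw [hσo i h1 h2, hσo i h1 h2, hσo i h1 h2]
  have hσH : (factorPerm σ : GL (Fin (t + 1) → Fin k) F) ∈ H :=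
    hM _ (factorPerm_mem σ) (cycle_mem_Om two hσ3)
  have hslotH : ∀ (i : Fin (t + 1)) (g : GL (Fin k) F), g ∈ Om P.S → slotU i g ∈ H := fun i g hg =>
    hM _ (slotU_mem i g) (slotU_mem_Om two hg i)
  -- the exchange of the first slot
  obtain ⟨hl0, hl1⟩ := hm l
  set el : Fin k → F := Pi.single (m l) 1 with hel
  have hlm' : P.IsMid el := Std.isMid_single hl0 hl1
  have hll : sf P.S el el ≠ 0 := by rw [hel, Std.sf_single_mid hl0 hl1]; exact P.w_ne _
  obtain ⟨g0, hg0, g0o, -, g0z⟩ := Std.exists_exchange two hlm' hll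
  have hQ0 : (g0 : Matrix (Fin k) (Fin k) F) * X l * ((g0⁻¹ : GL (Fin k) F) : Matrix (Fin k) (Fin k) F) =
      (sf P.S el el / 2) • alt P.S P.ew el := by
    rw [show X l = alt P.S P.eo el by simp only [hX, hlQ]; rfl, Std.conj_alt_Om two hg0, g0o, g0z el hlm',
      show 2 * sf P.S el el / sf P.S el el = 2 by field_simp, show el - (2 : F) • el = (-1 : F) • el by module,
      alt_smul_left, alt_smul_right, smul_smul]
    congr 1
    ring
  -- the second factor
  have hB : ∀ (gm gl : GL (Fin k) F), gm ∈ Om P.S → gl ∈ Om P.S → ∀ B₀ : Fin t → Matrix (Fin k) (Fin k) F,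
      B₀ μ = (gm : Matrix (Fin k) (Fin k) F) * P.E * ((gm⁻¹ : GL (Fin k) F) : Matrix (Fin k) (Fin k) F) →
      B₀ l = (gl : Matrix (Fin k) (Fin k) F) * X μ * ((gl⁻¹ : GL (Fin k) F) : Matrix (Fin k) (Fin k) F) →
      (∀ i, i ≠ l → i ≠ μ → B₀ i = X i) → B₀ l * X l * B₀ l = 0 ∨ B₀ μ * X μ * B₀ μ = 0 →
      tens (fun i => X i * B₀ i) + tens (fun i => B₀ i * X i) ∈ CY P H := by
    intro gm gl hgm hgl B₀ hBm hBl hBo hsand
    have hBB : tens B₀ * tens B₀ = 0 := by
      rw [tens_mul]
      refine tens_eq_zero (l := μ) ?_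
      show B₀ μ * B₀ μ = 0
      rw [hBm, ← conjHom_apply, ← map_mul, E_sq, map_zero]
    have hBAB : tens B₀ * tens X * tens B₀ = 0 := by
      rw [tens_mul, tens_mul]
      rcases hsand with h' | h'
      · exact tens_eq_zero (l := l) h'
      · exact tens_eq_zero (l := μ) h'
    set c : F := (sf P.S el el / 2)⁻¹ with hc
    have h1 : InT H c (fun j => (Fin.cons P.E X : Fin (t + 1) → _) (σ.symm j)) :=
      (InT.of_CY h).conj hσH (conjHom_factorPerm_tens _ _)
    have h2 := h1.conj (hslotH 0 g0 hg0) (conjHom_slotU_tens_seed _ _ _)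
    have h3 := h2.conj (hslotH μ.succ gm hgm) (conjHom_slotU_tens_seed _ _ _)
    have h4 := h3.conj (hslotH l.succ gl hgl) (conjHom_slotU_tens_seed _ _ _)
    have h5 := h4.inK
    have s0 : σ.symm 0 = l.succ := Equiv.symm_apply_eq _ |>.mpr hσl.symm
    have sm : σ.symm μ.succ = 0 := Equiv.symm_apply_eq _ |>.mpr hσ0.symm
    have sl : σ.symm l.succ = μ.succ := Equiv.symm_apply_eq _ |>.mpr hσm.symm
    have so : ∀ i : Fin t, i ≠ l → i ≠ μ → σ.symm i.succ = i.succ := fun i a b =>
      Equiv.symm_apply_eq _ |>.mpr (hσo i a b).symm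
    have hBB₀ : InK H (alt P.S P.ew el) (tens B₀) := by
      obtain ⟨g, hg, e⟩ := h5
      refine ⟨g, hg, e.trans ?_⟩
      rw [Function.update_of_ne h0l, Function.update_of_ne h0m, Function.update_self, s0, Fin.cons_succ, hQ0,
        kz_smul_left, kz_smul_right, smul_smul, hc, mul_inv_cancel₀ (div_ne_zero hll two), one_smul]
      congr 2
      congr 1
      funext i
      rcases eq_or_ne i l with rfl | h1
      · rw [Function.update_self, Function.update_of_ne hlm, Function.update_of_ne (Fin.succ_ne_zero i), sl,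
          Fin.cons_succ, hBl]
      rw [Function.update_of_ne (fun e => h1 (Fin.succ_injective _ e))]
      rcases eq_or_ne i μ with rfl | h2
      · rw [Function.update_self, Function.update_of_ne (Fin.succ_ne_zero i), sm, Fin.cons_zero, hBm]
      rw [Function.update_of_ne (fun e => h2 (Fin.succ_injective _ e)),
        Function.update_of_ne (Fin.succ_ne_zero i), so i h1 h2, Fin.cons_succ, hBo i h1 h2]
    have := InK.anticomm two hH hM hlm' (Std.mem_mids.mpr (hm l)) (by simp [hel]) (CY.inC h) hBB₀ hBB hBAB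
    rwa [tens_mul, tens_mul] at this
  -- squares of the entries
  let r : Fin t → F := fun i =>
    if i = l then 1 else if i = μ then 1 else if T i = Ty.Q then -P.w (m i) else 1
  have hsqQ : ∀ i, P.entry (m i) Ty.Q * P.entry (m i) Ty.Q = (-P.w (m i)) • P.E := fun i => by
    show alt P.S P.eo _ * alt P.S P.eo _ = _
    rw [Std.mul_alt_mid (Std.isMid_single (hm i).1 (hm i).2) (Std.isMid_single (hm i).1 (hm i).2),
      Std.sf_single_mid (hm i).1 (hm i).2]
  have hr : ∀ i, r i ≠ 0 := fun i => by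
    simp only [r]; split_ifs <;> simp [P.w_ne]
  rcases hμ with hμ1 | hall
  · -- a slot outside the support
    let B₀ : Fin t → Matrix (Fin k) (Fin k) F := fun i => if i = l then 1 else if i = μ then P.E else X i
    have h1 := hB 1 1 (one_mem _) (one_mem _) B₀ (by simp [B₀, hμl]) (by simp [B₀, hX, hμ1, Std.entry])
      (fun i a b => by simp [B₀, a, b]) (Or.inr (by simp [B₀, hμl, hX, hμ1, Std.entry, E_sq]))
    refine ⟨m, fun i => if i = l then Ty.Q else if i = μ then Ty.E else if T i = Ty.Q then Ty.E else Ty.one, hm,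
      ⟨μ, by simp [hμl]⟩, ?_⟩
    set G : Fin t → Matrix (Fin k) (Fin k) F := fun i =>
      P.entry (m i) (if i = l then Ty.Q else if i = μ then Ty.E else if T i = Ty.Q then Ty.E else Ty.one) with hG
    have e1 : ∀ i, X i * B₀ i = r i • G i ∧ B₀ i * X i = r i • G i := by
      intro i
      simp only [B₀, r, hG, hX]
      rcases eq_or_ne i l with rfl | a
      · simp [hlQ, Std.entry]
      rcases eq_or_ne i μ with rfl | b
      · simp [a, hμ1, Std.entry]
      simp only [if_neg a, if_neg b]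
      rcases hT : T i with _ | _ | _
      · simp [Std.entry]
      · exact absurd hT (hE i)
      · simp only [if_true, and_self]
        exact hsqQ i
    rw [show (fun i => X i * B₀ i) = fun i => r i • G i from funext fun i => (e1 i).1,
      show (fun i => B₀ i * X i) = fun i => r i • G i from funext fun i => (e1 i).2, tens_smul, ← two_smul F,
      smul_smul] at h1
    have h2 := (CY P H).smul_mem (2 * ∏ i, r i)⁻¹ h1
    rwa [smul_smul, inv_mul_cancel₀ (mul_ne_zero two (Finset.prod_ne_zero_iff.mpr fun i _ => hr i)), one_smul] at h2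
  -- all slots carry roots
  obtain ⟨hm0, hm1⟩ := hm μ
  set em : Fin k → F := Pi.single (m μ) 1 with hem
  have hmm' : P.IsMid em := Std.isMid_single hm0 hm1
  have hmm : sf P.S em em ≠ 0 := by rw [hem, Std.sf_single_mid hm0 hm1]; exact P.w_ne _
  obtain ⟨gm, hgm, gmo, gmw, gmz⟩ := Std.exists_exchange two hmm' hmm
  -- an element making the slot l meet
  obtain ⟨gl, hgl, ρ, z', hρ, hz', hlz, hgle⟩ : ∃ gl ∈ Om P.S, ∃ (ρ : F) (z' : Fin k → F), ρ ≠ 0 ∧ P.IsMid z' ∧
      sf P.S el z' ≠ 0 ∧ (gl : Matrix (Fin k) (Fin k) F) * alt P.S P.eo em *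
        ((gl⁻¹ : GL (Fin k) F) : Matrix (Fin k) (Fin k) F) = ρ • alt P.S P.eo z' := by
    rcases eq_or_ne (m l) (m μ) with e | hab
    · refine ⟨1, one_mem _, 1, el, one_ne_zero, hlm', hll, ?_⟩
      rw [Units.val_one, inv_one, Units.val_one, one_mul, mul_one, one_smul, hem, hel, e]
    obtain ⟨v, hv, hvv, hva, hvb⟩ : ∃ v, P.IsMid v ∧ sf P.S v v ≠ 0 ∧ v (m l) ≠ 0 ∧ v (m μ) ≠ 0 := by
      by_contra hno
      push Not at hno
      have := Std.single_mem hP (LinearMap.ker (LinearMap.proj (R := F) (φ := fun _ : Fin k => F) (m l))) hm0 hm1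
        (fun v hv hvv hvb => by
          by_contra hne
          exact hvb (hno v hv hvv hne)) hl0 hl1
      simp at this
    obtain ⟨gl, hgl, glo, glz⟩ := Std.exists_rotation two hv hvv hmm' hmm
    have hfm : sf P.S em v = P.w (m μ) * v (m μ) := by rw [sf_symm, hem, Std.sf_single_mid_right _ hm0 hm1]
    have hfl : sf P.S el v = P.w (m l) * v (m l) := by rw [sf_symm, hel, Std.sf_single_mid_right _ hl0 hl1]
    refine ⟨gl, hgl, sf P.S em em / sf P.S v v, -em + (2 * sf P.S em v / sf P.S v v) • v, div_ne_zero hmm hvv,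
      (IsMid.neg' hmm').add (hv.smul _), ?_, ?_⟩
    · rw [sf_add_right, sf_smul_right, sf_neg_right, hem, hel, Std.sf_singles_ne hm0 hm1 hab.symm, ← hel, ← hem,
        hfl, hfm, neg_zero, zero_add]
      exact mul_ne_zero (div_ne_zero (mul_ne_zero two (mul_ne_zero (P.w_ne _) hvb)) hvv)
        (mul_ne_zero (P.w_ne _) hva)
    · rw [Std.conj_alt_Om two hgl, glo, glz em hmm', alt_smul_left]
      congr 2
      rw [show 2 * sf P.S em em / sf P.S em em = 2 by field_simp, show em - (2 : F) • em = -em by module,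
        sf_neg_left]
      module
  let B₀ : Fin t → Matrix (Fin k) (Fin k) F := fun i =>
    if i = l then ρ • alt P.S P.eo z'
    else if i = μ then (gm : Matrix (Fin k) (Fin k) F) * P.E * ((gm⁻¹ : GL (Fin k) F) : Matrix (Fin k) (Fin k) F)
    else X i
  have hXQ : ∀ i, X i = alt P.S P.eo (Pi.single (m i) 1) := fun i => by simp only [hX, hall i]; rfl
  have h1 := hB gm gl hgm hgl B₀ (by simp [B₀, hμl]) (by simp only [B₀, if_true, hXQ μ, ← hem, hgle])
    (fun i a b => by simp [B₀, a, b]) (Or.inl (by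
      simp only [B₀, if_true, hXQ l, ← hel, Matrix.smul_mul, Matrix.mul_smul]
      rw [Std.mul_alt_mid hz' hlm', Matrix.smul_mul, Std.E_mul_alt hz', smul_zero, smul_zero, smul_zero]))
  set s : Fin t → F := fun i =>
    if i = l then -(ρ * sf P.S el z') else if i = μ then (sf P.S em em / 2) * (sf P.S em em / 2) else -P.w (m i)
    with hs
  set G₁ : Fin t → Matrix (Fin k) (Fin k) F := fun i =>
    if i = μ then rk P.S P.ew em else P.E with hG₁
  set G₂ : Fin t → Matrix (Fin k) (Fin k) F := fun i =>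
    if i = μ then -rk P.S em P.ew else P.E with hG₂
  have hEw : (gm : Matrix (Fin k) (Fin k) F) * P.E * ((gm⁻¹ : GL (Fin k) F) : Matrix (Fin k) (Fin k) F) =
      ((sf P.S em em / 2) * (sf P.S em em / 2)) • rk P.S P.ew P.ew := by
    rw [Std.E, WreathO.conj_rk P.S (Om_le_O P.S two hgm), gmo, rk_smul_left, rk_smul_right, smul_smul]
    congr 1
    ring
  have hQw : alt P.S P.eo em *ᵥ P.ew = -em := by rw [alt_mulVec, hmm'.ew', P.ew_eo]; simp
  have e2 : ∀ i, X i * B₀ i = s i • G₂ i ∧ B₀ i * X i = s i • G₁ i := by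
    intro i
    simp only [B₀, hs, hG₁, hG₂]
    rcases eq_or_ne i l with rfl | a
    · simp only [if_true, if_neg (Ne.symm hμl), hXQ i, ← hel, Matrix.mul_smul, Matrix.smul_mul]
      rw [Std.mul_alt_mid hlm' hz', Std.mul_alt_mid hz' hlm', sf_symm P.S z' el, smul_smul]
      exact ⟨by congr 1; ring, by congr 1; ring⟩
    rcases eq_or_ne i μ with rfl | b
    · simp only [if_true, if_neg a, hXQ i, ← hem, hEw, Matrix.mul_smul, Matrix.smul_mul]
      rw [mul_rk, hQw, rk_neg_left, rk_mul_left, adj_alt, neg_mulVec, hQw, neg_neg]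
      exact ⟨rfl, rfl⟩
    simp only [if_neg a, if_neg b, hX, hall i]
    exact ⟨hsqQ i, hsqQ i⟩
  rw [show (fun i => X i * B₀ i) = fun i => s i • G₂ i from funext fun i => (e2 i).1,
    show (fun i => B₀ i * X i) = fun i => s i • G₁ i from funext fun i => (e2 i).2, tens_smul, tens_smul,
    ← smul_add] at h1
  have hs0 : (∏ i, s i) ≠ 0 := Finset.prod_ne_zero_iff.mpr fun i _ => by
    simp only [hs]
    split_ifs
    · exact neg_ne_zero.mpr (mul_ne_zero hρ hlz)
    · exact mul_ne_zero (div_ne_zero hmm two) (div_ne_zero hmm two)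
    · exact neg_ne_zero.mpr (P.w_ne _)
  have h2 := (CY P H).smul_mem (∏ i, s i)⁻¹ h1
  rw [smul_smul, inv_mul_cancel₀ hs0, one_smul,
    show G₂ = Function.update (fun _ => P.E) μ (-rk P.S em P.ew) from funext fun i => by
      simp only [hG₂, Function.update_apply],
    show G₁ = Function.update (fun _ => P.E) μ (rk P.S P.ew em) from funext fun i => by
      simp only [hG₁, Function.update_apply],
    ← tens_update_add, show -rk P.S em P.ew + rk P.S P.ew em = alt P.S P.ew em by rw [alt]; abel] at h2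
  -- back to the first isotropic vector
  have h3 := CY.conj two hM (slotU_mem_Om two hgm μ) (slotU_mem μ gm) h2
  rw [conjHom_slotU_tens_seed, Function.update_self, Function.update_idem, Std.conj_alt_Om two hgm, gmw, gmz em hmm',
    show 2 * sf P.S em em / sf P.S em em = 2 by field_simp, show em - (2 : F) • em = (-1 : F) • em by module,
    alt_smul_left, alt_smul_right, smul_smul, slot_mul_tens_smul] at h3
  refine ⟨m, fun i => if i = μ then Ty.Q else Ty.E, hm, ⟨l, by simp [Ne.symm hμl]⟩, ?_⟩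
  have hne' : -(2 / sf P.S em em) * -1 ≠ 0 := mul_ne_zero (neg_ne_zero.mpr (div_ne_zero two hmm)) (by simp)
  have h4 := (CY P H).smul_mem (-(2 / sf P.S em em) * -1)⁻¹ h3
  rw [smul_smul, inv_mul_cancel₀ hne', one_smul] at h4
  convert h4 using 3 with i
  rcases eq_or_ne i μ with rfl | b
  · simp [Std.entry, hem]
  · simp [Std.entry, b]

/-- A nonzero centre element with one further slot gives all skew maps. -/
theorem InC.all_one (hP : P.Good) {H : Subgroup (GL (Fin 2 → Fin k) F)} (hH : H ≤ Om (powS P.S 2))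
    (hM : ContainsW P.S H) {Z₀ : Matrix (Fin 1 → Fin k) (Fin 1 → Fin k) F} (h : InC P H Z₀) (hne : Z₀ ≠ 0) :
    ∀ Z, adj (powS P.S 1) Z = -Z → InC P H Z := by
  have hk0 : 0 < k := by have := P.hk; omega
  have e : ∀ Z : Matrix (Fin 1 → Fin k) (Fin 1 → Fin k) F,
      slot (0 : Fin 1) (Matrix.of fun a b => Z (fun _ => a) (fun _ => b)) = Z := by
    intro Z
    ext x y
    rw [slot, tens_apply, Fin.prod_univ_one, Function.update_self, Matrix.of_apply,
      show (fun _ : Fin 1 => x 0) = x from funext fun i => by rw [Subsingleton.elim i 0],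
      show (fun _ : Fin 1 => y 0) = y from funext fun i => by rw [Subsingleton.elim i 0]]
  let R : AddSubgroup (Matrix (Fin k) (Fin k) F) :=
    { carrier := {A | InC P H (slot (0 : Fin 1) A)}
      zero_mem' := by show InC P H _; rw [slot_zero']; exact InC.zero
      add_mem' := fun {A B} (hA : InC P H _) (hB : InC P H _) => by
        show InC P H _; rw [slot_add']; exact hA.add hB
      neg_mem' := fun {A} (hA : InC P H _) => by
        show InC P H _
        rw [← neg_one_smul F A, slot_smul', neg_one_smul]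
        exact hA.neg }
  have hskew : ∀ A : Matrix (Fin k) (Fin k) F, adj (powS P.S 1) (slot 0 A) = -slot 0 A → adj P.S A = -A := by
    intro A hA
    rw [adj_slot, ← neg_one_smul F (slot 0 A), ← slot_smul', neg_one_smul] at hA
    exact slot_injective hk0 0 hA
  intro Z hZ
  rw [← e Z] at hZ ⊢
  exact Std.skew_all (R := R) hP (fun g hg A hA => by
      show InC P H _
      have h1 := InC.conj hP.two hM (slotU_mem_Om hP.two hg 0) (slotU_mem 0 g) hA
      rwa [conj_slot] at h1)
    (fun A hA => hskew A (InC.skew hP.two hH hA))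
    (A₀ := Matrix.of fun a b => Z₀ (fun _ => a) (fun _ => b)) (by show InC P H _; rwa [e])
    (fun e0 => hne (by rw [← e Z₀, e0, slot_zero'])) (hskew _ hZ)

end Cfsg.Agent.WreathO
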