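import Cfsg.Agent.WreathO.Center

/-!
Invariant spaces of maps of one slot: the orbit of the square of a root matrix, the orbit of a root matrix,
and the products of two members of either space (helper42).
-/

set_option autoImplicit false
set_option linter.unusedSectionVars false
set_option linter.unusedSimpArgs false

namespace Cfsg.Agent.WreathO

open Matrix Cfsg.Agent.MaxSub Cfsg.Agent.MaxSub.Asch

variable {F : Type*} [Field F] [Fintype F] {k : ℕ} {P : Std k F}

/-- Stable under conjugation by the commutator subgroup of the slot. -/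
def OmStable (P : Std k F) (R : Submodule F (Matrix (Fin k) (Fin k) F)) : Prop :=
  ∀ g ∈ Om P.S, ∀ X ∈ R, (g : Matrix (Fin k) (Fin k) F) * X * ((g⁻¹ : GL (Fin k) F) : Matrix (Fin k) (Fin k) F) ∈ R

/-- Lies in every stable space containing a given map. -/
def Gen (P : Std k F) (e X : Matrix (Fin k) (Fin k) F) : Prop :=
  ∀ R : Submodule F (Matrix (Fin k) (Fin k) F), OmStable P R → e ∈ R → X ∈ R

theorem Gen.refl (e : Matrix (Fin k) (Fin k) F) : Gen P e e := fun _ _ h => h

/-- A Siegel transformation moves vectors as expected. -/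
theorem siegel_mulVec (two : (2 : F) ≠ 0) {x u : Fin k → F} (hx : sf P.S x x = 0) (hxu : sf P.S x u = 0)
    (z : Fin k → F) :
    (expU two (alt P.S x u)).val *ᵥ z =
      z + (sf P.S z u • x - sf P.S z x • u) - ((2 : F)⁻¹ * (sf P.S u u * sf P.S z x)) • x := by
  rw [expU_coe two (alt_cube P.S hx hxu), add_mulVec, add_mulVec, one_mulVec, alt_mulVec, smul_mulVec,
    alt_sq P.S hx hxu, smul_mulVec, rk_mulVec]
  module

theorem sym_swap (x y : Fin k → F) : sym P.S y x = sym P.S x y := add_comm _ _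

theorem conj_sym {g : GL (Fin k) F} (hg : g ∈ O P.S) (x y : Fin k → F) :
    (g : Matrix (Fin k) (Fin k) F) * sym P.S x y * ((g⁻¹ : GL (Fin k) F) : Matrix (Fin k) (Fin k) F) =
      sym P.S ((g : Matrix (Fin k) (Fin k) F) *ᵥ x) ((g : Matrix (Fin k) (Fin k) F) *ᵥ y) := by
  rw [sym, sym, mul_add, add_mul, conj_rk P.S hg, conj_rk P.S hg]

variable (P) in
/-- The Siegel transformation of the second isotropic vector and a middle vector. -/
noncomputable def gw (two : (2 : F) ≠ 0) (u : Fin k → F) : GL (Fin k) F := expU two (alt P.S P.ew u)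

variable (P) in
/-- The Siegel transformation of the first isotropic vector and a middle vector. -/
noncomputable def go (two : (2 : F) ≠ 0) (u : Fin k → F) : GL (Fin k) F := expU two (alt P.S P.eo u)

theorem gw_mem (two : (2 : F) ≠ 0) {u : Fin k → F} (hu : P.IsMid u) : gw P two u ∈ Om P.S :=
  expU_mem_Om two (alt_cube P.S P.ew_iso hu.ew') (adj_alt _ _ _)

theorem go_mem (two : (2 : F) ≠ 0) {u : Fin k → F} (hu : P.IsMid u) : go P two u ∈ Om P.S :=
  expU_mem_Om two (alt_cube P.S P.eo_iso hu.eo') (adj_alt _ _ _)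

theorem gw_eo (two : (2 : F) ≠ 0) {u : Fin k → F} (hu : P.IsMid u) :
    (gw P two u).val *ᵥ P.eo = P.eo - u - ((2 : F)⁻¹ * sf P.S u u) • P.ew := by
  rw [gw, siegel_mulVec two P.ew_iso hu.ew', hu.eo', P.eo_ew]
  module

theorem gw_ew (two : (2 : F) ≠ 0) {u : Fin k → F} (hu : P.IsMid u) : (gw P two u).val *ᵥ P.ew = P.ew := by
  rw [gw, siegel_mulVec two P.ew_iso hu.ew', hu.ew', P.ew_iso]
  module

theorem gw_mid (two : (2 : F) ≠ 0) {u z : Fin k → F} (hu : P.IsMid u) (hz : P.IsMid z) :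
    (gw P two u).val *ᵥ z = z + sf P.S z u • P.ew := by
  rw [gw, siegel_mulVec two P.ew_iso hu.ew', hz.ew]
  module

theorem go_ew (two : (2 : F) ≠ 0) {u : Fin k → F} (hu : P.IsMid u) :
    (go P two u).val *ᵥ P.ew = P.ew - u - ((2 : F)⁻¹ * sf P.S u u) • P.eo := by
  rw [go, siegel_mulVec two P.eo_iso hu.eo', hu.ew', P.ew_eo]
  module

theorem go_eo (two : (2 : F) ≠ 0) {u : Fin k → F} (hu : P.IsMid u) : (go P two u).val *ᵥ P.eo = P.eo := by
  rw [go, siegel_mulVec two P.eo_iso hu.eo', hu.eo', P.eo_iso]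
  module

theorem go_mid (two : (2 : F) ≠ 0) {u z : Fin k → F} (hu : P.IsMid u) (hz : P.IsMid z) :
    (go P two u).val *ᵥ z = z + sf P.S z u • P.eo := by
  rw [go, siegel_mulVec two P.eo_iso hu.eo', hz.eo]
  module

theorem IsMid.neg' {z : Fin k → F} (h : P.IsMid z) : P.IsMid (-z) := ⟨by simp [h.1], by simp [h.2]⟩

/-- Traceless symmetric maps from the orbit of the square of a root matrix. -/
theorem stable_E (hP : P.Good) {R : Submodule F (Matrix (Fin k) (Fin k) F)} (hR : OmStable P R) (hE : P.E ∈ R)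
    {a : Fin k} (ha0 : a ≠ P.i0) (ha1 : a ≠ P.i1) :
    sym P.S P.eo (Pi.single a 1) ∈ R ∧ sym P.S P.ew (Pi.single a 1) ∈ R ∧ rk P.S P.ew P.ew ∈ R := by
  classical
  have two := hP.two
  let β : (Fin k → F) → F := fun v => (2 : F)⁻¹ * sf P.S v v
  have hX : ∀ v, P.IsMid v → rk P.S P.eo P.eo - sym P.S P.eo v + rk P.S v v - β v • sym P.S P.eo P.ew +
      β v • sym P.S v P.ew + (β v * β v) • rk P.S P.ew P.ew ∈ R := by
    intro v hv
    have h1 := hR _ (gw_mem two hv) _ hE
    rw [Std.E, conj_rk P.S (Om_le_O _ two (gw_mem two hv)), gw_eo two hv] at h1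
    convert h1 using 1
    simp only [β, sym, rk_sub_left, rk_sub_right, rk_smul_left, rk_smul_right]
    module
  have hneg : ∀ v, β (-v) = β v := fun v => by simp [β, sf_neg_left, sf_neg_right]
  have hO : ∀ v, P.IsMid v → sym P.S P.eo v - β v • sym P.S v P.ew ∈ R := by
    intro v hv
    have h1 := R.smul_mem (2 : F)⁻¹ (R.sub_mem (hX _ (IsMid.neg' hv)) (hX v hv))
    convert h1 using 1
    rw [hneg]
    simp only [sym, rk_neg_left, rk_neg_right]
    have e : (2 : F)⁻¹ * 2 = 1 := inv_mul_cancel₀ two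
    linear_combination (norm := module) -(congrArg (fun r : F =>
      r • (rk P.S P.eo v + rk P.S v P.eo - β v • (rk P.S v P.ew + rk P.S P.ew v))) e)
  set u : Fin k → F := Pi.single a 1 with hu_def
  have hu : P.IsMid u := Std.isMid_single ha0 ha1
  have hq : sf P.S u u ≠ 0 := by rw [hu_def, Std.sf_single_mid ha0 ha1]; exact P.w_ne a
  have hβ : β u ≠ 0 := mul_ne_zero (inv_ne_zero two) hq
  have hsw : sym P.S u P.ew ∈ R := by
    by_cases hk : k = 3
    · obtain ⟨c, hc0, hc1⟩ : ∃ c : F, c ≠ 0 ∧ c * c ≠ 1 := by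
        by_contra hc
        push Not at hc
        refine hP.hex ⟨?_, hk⟩
        rw [Nat.card_eq_fintype_card]
        have hm1 : (1 : F) ≠ -1 := fun h => two (by linear_combination h)
        have huniv : (Finset.univ : Finset F) = {0, 1, -1} := by
          ext c
          simp only [Finset.mem_univ, Finset.mem_insert, Finset.mem_singleton, true_iff]
          by_cases h0 : c = 0
          · exact Or.inl h0
          · exact Or.inr (mul_self_eq_one_iff.mp (hc c h0))
        rw [← Finset.card_univ, huniv, Finset.card_insert_of_notMem (by simp [two]),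
          Finset.card_pair hm1]
      have h1 := R.sub_mem (R.smul_mem c (hO u hu)) (hO _ (hu.smul c))
      have e : c • (sym P.S P.eo u - β u • sym P.S u P.ew) - (sym P.S P.eo (c • u) - β (c • u) • sym P.S (c • u) P.ew)
          = ((c * c * c - c) * β u) • sym P.S u P.ew := by
        simp only [β, sym, rk_smul_left, rk_smul_right, sf_smul_left, sf_smul_right]
        module
      rw [e] at h1
      refine (R.smul_mem_iff (mul_ne_zero ?_ hβ)).mp h1
      intro h0
      exact hc1 (mul_left_cancel₀ hc0 (by linear_combination h0))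
    · obtain ⟨b, hb0, hb1, hba⟩ : ∃ b, b ≠ P.i0 ∧ b ≠ P.i1 ∧ b ≠ a := by
        have hcard : ({P.i0, P.i1, a} : Finset (Fin k)).card < Fintype.card (Fin k) := by
          refine lt_of_le_of_lt (Finset.card_le_three) ?_
          have := P.hk
          simp only [Fintype.card_fin]
          omega
        obtain ⟨b, -, hb⟩ := Finset.exists_mem_notMem_of_card_lt_card
          (s := ({P.i0, P.i1, a} : Finset (Fin k))) (t := Finset.univ) hcard
        simp only [Finset.mem_insert, Finset.mem_singleton, not_or] at hb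
        exact ⟨b, hb.1, hb.2.1, hb.2.2⟩
      set v : Fin k → F := Pi.single b 1 with hv_def
      have hv : P.IsMid v := Std.isMid_single hb0 hb1
      have huv : sf P.S u v = 0 := by
        rw [hu_def, hv_def, sf_single, Std.J_mid ha0 ha1, Pi.single_eq_of_ne (Ne.symm hba), mul_zero]
      have hvu : sf P.S v u = 0 := by rw [sf_symm, huv]
      have hv0 : β v ≠ 0 := mul_ne_zero (inv_ne_zero two) (by rw [hv_def, Std.sf_single_mid hb0 hb1]; exact P.w_ne b)
      have h1 := R.sub_mem (R.add_mem (hO _ (hu.add hv)) (hO _ (hu.add (IsMid.neg' hv)))) (R.smul_mem (2 : F) (hO u hu))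
      have e : sym P.S P.eo (u + v) - β (u + v) • sym P.S (u + v) P.ew +
          (sym P.S P.eo (u + -v) - β (u + -v) • sym P.S (u + -v) P.ew) -
          (2 : F) • (sym P.S P.eo u - β u • sym P.S u P.ew) = (-(2 * β v)) • sym P.S u P.ew := by
        simp only [β, sym, rk_add_left, rk_add_right, rk_neg_left, rk_neg_right, sf_add_left, sf_add_right,
          sf_neg_left, sf_neg_right, huv, hvu]
        module
      rw [e] at h1
      exact (R.smul_mem_iff (neg_ne_zero.mpr (mul_ne_zero two hv0))).mp h1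
  have hso : sym P.S P.eo u ∈ R := by
    have := R.add_mem (hO u hu) (R.smul_mem (β u) hsw)
    rwa [sub_add_cancel] at this
  refine ⟨hso, by rw [sym_swap]; exact hsw, ?_⟩
  have h2 := hR _ (go_mem two hu) _ hsw
  rw [conj_sym (Om_le_O _ two (go_mem two hu)), go_mid two hu hu, go_ew two hu] at h2
  have h3 := R.add_mem (R.add_mem (hX u hu) (hX _ (IsMid.neg' hu)))
    (R.sub_mem h2 (R.sub_mem hsw (R.smul_mem (β u + sf P.S u u) hso)))
  have h4 := R.add_mem h3 (R.smul_mem (2 * β u * sf P.S u u - 2) hE)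
  have e : rk P.S P.eo P.eo - sym P.S P.eo u + rk P.S u u - β u • sym P.S P.eo P.ew +
        β u • sym P.S u P.ew + (β u * β u) • rk P.S P.ew P.ew +
      (rk P.S P.eo P.eo - sym P.S P.eo (-u) + rk P.S (-u) (-u) - β (-u) • sym P.S P.eo P.ew +
        β (-u) • sym P.S (-u) P.ew + (β (-u) * β (-u)) • rk P.S P.ew P.ew) +
      (sym P.S (u + sf P.S u u • P.eo) (P.ew - u - ((2 : F)⁻¹ * sf P.S u u) • P.eo) -
        (sym P.S u P.ew - (β u + sf P.S u u) • sym P.S P.eo u)) +
      (2 * β u * sf P.S u u - 2) • P.E = (2 * (β u * β u)) • rk P.S P.ew P.ew := by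
    have e2 : (2 : F) * (2 : F)⁻¹ = 1 := mul_inv_cancel₀ two
    rw [hneg, Std.E]
    simp only [β, sym, rk_neg_left, rk_neg_right, rk_add_left, rk_add_right, rk_sub_left, rk_sub_right,
      rk_smul_left, rk_smul_right]
    linear_combination (norm := module)
      -(congrArg (fun r : F => (r * sf P.S u u) • (rk P.S P.eo P.ew + rk P.S P.ew P.eo)) e2)
  rw [e] at h4
  exact (R.smul_mem_iff (mul_ne_zero two (mul_ne_zero hβ hβ))).mp h4

/-- Skew maps from the orbit of a root matrix. -/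
theorem stable_Q (hP : P.Good) {R : Submodule F (Matrix (Fin k) (Fin k) F)} (hR : OmStable P R)
    {m : Fin k} (hm0 : m ≠ P.i0) (hm1 : m ≠ P.i1) (hQ : alt P.S P.eo (Pi.single m 1) ∈ R)
    {a : Fin k} (ha0 : a ≠ P.i0) (ha1 : a ≠ P.i1) :
    alt P.S P.eo P.ew ∈ R ∧ alt P.S P.eo (Pi.single a 1) ∈ R ∧ alt P.S P.ew (Pi.single a 1) ∈ R := by
  have two := hP.two
  have hH : alt P.S P.eo P.ew ∈ R := by
    set u : Fin k → F := Pi.single m 1 with hu_def
    have hu : P.IsMid u := Std.isMid_single hm0 hm1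
    have hq : sf P.S u u ≠ 0 := by rw [hu_def, Std.sf_single_mid hm0 hm1]; exact P.w_ne m
    have h1 := hR _ (gw_mem two hu) _ hQ
    have h2 := hR _ (gw_mem two (IsMid.neg' hu)) _ hQ
    rw [conj_alt P.S (Om_le_O _ two (gw_mem two hu)), gw_eo two hu, gw_mid two hu hu] at h1
    rw [conj_alt P.S (Om_le_O _ two (gw_mem two (IsMid.neg' hu))), gw_eo two (IsMid.neg' hu),
      gw_mid two (IsMid.neg' hu) hu] at h2
    have h3 := R.sub_mem h1 h2
    have e : alt P.S (P.eo - u - ((2 : F)⁻¹ * sf P.S u u) • P.ew) (u + sf P.S u u • P.ew) -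
        alt P.S (P.eo - -u - ((2 : F)⁻¹ * sf P.S (-u) (-u)) • P.ew) (u + sf P.S u (-u) • P.ew) =
        (2 * sf P.S u u) • alt P.S P.eo P.ew := by
      simp only [alt, sf_neg_left, sf_neg_right, neg_neg, rk_neg_left, rk_neg_right, rk_add_left, rk_add_right,
        rk_sub_left, rk_sub_right, rk_smul_left, rk_smul_right]
      module
    rw [e] at h3
    exact (R.smul_mem_iff (mul_ne_zero two hq)).mp h3
  set v : Fin k → F := Pi.single a 1
  have hv : P.IsMid v := Std.isMid_single ha0 ha1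
  have h1 := hR _ (gw_mem two hv) _ hH
  rw [conj_alt P.S (Om_le_O _ two (gw_mem two hv)), gw_eo two hv, gw_ew two hv] at h1
  have h2 := hR _ (go_mem two hv) _ hH
  rw [conj_alt P.S (Om_le_O _ two (go_mem two hv)), go_eo two hv, go_ew two hv] at h2
  refine ⟨hH, ?_, ?_⟩
  · convert R.sub_mem hH h2 using 1
    simp only [alt, rk_sub_left, rk_sub_right, rk_smul_left, rk_smul_right]
    module
  · convert R.sub_mem h1 hH using 1
    simp only [alt, rk_sub_left, rk_sub_right, rk_smul_left, rk_smul_right]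
    module

/-- A space containing the rank one maps of coordinates is everything. -/
theorem eq_top_of_rk {R : Submodule F (Matrix (Fin k) (Fin k) F)}
    (h : ∀ a b : Fin k, rk P.S (Pi.single a 1) (Pi.single b 1) ∈ R) : R = ⊤ := by
  refine eq_top_iff.mpr fun M _ => ?_
  rw [Matrix.matrix_eq_sum_single M]
  refine R.sum_mem fun a _ => R.sum_mem fun b _ => ?_
  have h1 := R.smul_mem (M a b * (P.S.w b)⁻¹) (h a (P.S.J b))
  rwa [mul_smul, ← single_eq_rk, Matrix.smul_single, smul_eq_mul, mul_one] at h1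

/-- All coordinate rank one maps from those of the three kinds. -/
theorem eq_top_of_kinds {R : Submodule F (Matrix (Fin k) (Fin k) F)}
    (hoo : rk P.S P.eo P.eo ∈ R) (how : rk P.S P.eo P.ew ∈ R) (hwo : rk P.S P.ew P.eo ∈ R)
    (hww : rk P.S P.ew P.ew ∈ R)
    (hmid : ∀ a, a ≠ P.i0 → a ≠ P.i1 →
      rk P.S P.eo (Pi.single a 1) ∈ R ∧ rk P.S P.ew (Pi.single a 1) ∈ R ∧
      rk P.S (Pi.single a 1) P.eo ∈ R ∧ rk P.S (Pi.single a 1) P.ew ∈ R)
    (hmm : ∀ a, a ≠ P.i0 → a ≠ P.i1 → ∀ b, b ≠ P.i0 → b ≠ P.i1 →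
      rk P.S (Pi.single a 1) (Pi.single b 1) ∈ R) : R = ⊤ := by
  refine eq_top_of_rk (P := P) fun a b => ?_
  by_cases a0 : a = P.i0
  · subst a0
    by_cases b0 : b = P.i0
    · subst b0; exact hoo
    by_cases b1 : b = P.i1
    · subst b1; exact how
    exact (hmid b b0 b1).1
  by_cases a1 : a = P.i1
  · subst a1
    by_cases b0 : b = P.i0
    · subst b0; exact hwo
    by_cases b1 : b = P.i1
    · subst b1; exact hww
    exact (hmid b b0 b1).2.1
  by_cases b0 : b = P.i0
  · subst b0; exact (hmid a a0 a1).2.2.1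
  by_cases b1 : b = P.i1
  · subst b1; exact (hmid a a0 a1).2.2.2
  exact hmm a a0 a1 b b0 b1

/-- Products of traceless symmetric maps give everything. -/
theorem prd_E (hP : P.Good) {R : Submodule F (Matrix (Fin k) (Fin k) F)}
    (h : ∀ X Y, Gen P P.E X → Gen P P.E Y → X * Y ∈ R) : R = ⊤ := by
  have goo : Gen P P.E (rk P.S P.eo P.eo) := Gen.refl _
  have gww : Gen P P.E (rk P.S P.ew P.ew) := fun R hR hE => (stable_E hP hR hE P.i2_ne.1 P.i2_ne.2).2.2
  have gso : ∀ a, a ≠ P.i0 → a ≠ P.i1 → Gen P P.E (sym P.S P.eo (Pi.single a 1)) := fun a a0 a1 R hR hE =>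
    (stable_E hP hR hE a0 a1).1
  have gsw : ∀ a, a ≠ P.i0 → a ≠ P.i1 → Gen P P.E (sym P.S P.ew (Pi.single a 1)) := fun a a0 a1 R hR hE =>
    (stable_E hP hR hE a0 a1).2.1
  have hww : rk P.S P.ew P.ew ∈ R ∧ rk P.S P.eo P.eo ∈ R := by
    obtain ⟨a0, a1⟩ := P.i2_ne
    set a : Fin k → F := Pi.single P.i2 1 with ha_def
    have ha : P.IsMid a := Std.isMid_single a0 a1
    have hq : sf P.S a a ≠ 0 := by rw [ha_def, Std.sf_single_mid a0 a1]; exact P.w_ne _
    have h1 := h _ _ (gsw _ a0 a1) (gsw _ a0 a1)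
    have h2 := h _ _ (gso _ a0 a1) (gso _ a0 a1)
    simp only [sym, add_mul, mul_add, rk_mul, ha.eo, ha.eo', ha.ew, ha.ew', P.eo_iso, P.ew_iso, zero_smul,
      zero_add, add_zero, ← ha_def] at h1 h2
    exact ⟨(R.smul_mem_iff hq).mp h1, (R.smul_mem_iff hq).mp h2⟩
  refine eq_top_of_kinds (P := P) hww.2 ?_ ?_ hww.1 ?_ ?_
  · have h1 := h _ _ goo gww
    rwa [rk_mul, P.ew_eo, one_smul] at h1
  · have h1 := h _ _ gww goo
    rwa [rk_mul, P.eo_ew, one_smul] at h1
  · intro a a0 a1
    set u : Fin k → F := Pi.single a 1 with hu_def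
    have hu : P.IsMid u := Std.isMid_single a0 a1
    have e1 := h _ _ goo (gsw a a0 a1)
    have e2 := h _ _ gww (gso a a0 a1)
    have e3 := h _ _ (gsw a a0 a1) goo
    have e4 := h _ _ (gso a a0 a1) gww
    simp only [sym, add_mul, mul_add, rk_mul, hu.eo, hu.eo', hu.ew, hu.ew', P.eo_iso, P.ew_iso, P.eo_ew, P.ew_eo,
      zero_smul, one_smul, zero_add, add_zero, ← hu_def] at e1 e2 e3 e4
    exact ⟨e1, e2, e3, e4⟩
  · intro a a0 a1 b b0 b1
    set u : Fin k → F := Pi.single a 1 with hu_def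
    set v : Fin k → F := Pi.single b 1 with hv_def
    have hu : P.IsMid u := Std.isMid_single a0 a1
    have hv : P.IsMid v := Std.isMid_single b0 b1
    have h1 := h _ _ (gso a a0 a1) (gsw b b0 b1)
    simp only [sym, add_mul, mul_add, rk_mul, hu.eo, hu.eo', hu.ew, hu.ew', hv.eo, hv.eo', hv.ew, hv.ew',
      P.eo_iso, P.ew_iso, P.eo_ew, P.ew_eo, zero_smul, one_smul, zero_add, add_zero, ← hu_def, ← hv_def] at h1
    have h2 := R.smul_mem (sf P.S v u) (h _ _ goo gww)
    rw [rk_mul, P.ew_eo, one_smul] at h2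
    have h3 := R.sub_mem h1 h2
    rwa [show ∀ X Y : Matrix (Fin k) (Fin k) F, Y + X - X = Y from fun _ _ => by abel] at h3

/-- Products of skew maps give everything. -/
theorem prd_Q (hP : P.Good) {m : Fin k} (hm0 : m ≠ P.i0) (hm1 : m ≠ P.i1)
    {R : Submodule F (Matrix (Fin k) (Fin k) F)}
    (h : ∀ X Y, Gen P (alt P.S P.eo (Pi.single m 1)) X → Gen P (alt P.S P.eo (Pi.single m 1)) Y → X * Y ∈ R) :
    R = ⊤ := by
  have gH : Gen P (alt P.S P.eo (Pi.single m 1)) (alt P.S P.eo P.ew) := fun R hR hQ =>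
    (stable_Q hP hR hm0 hm1 hQ hm0 hm1).1
  have gA : ∀ a, a ≠ P.i0 → a ≠ P.i1 → Gen P (alt P.S P.eo (Pi.single m 1)) (alt P.S P.eo (Pi.single a 1)) :=
    fun a a0 a1 R hR hQ => (stable_Q hP hR hm0 hm1 hQ a0 a1).2.1
  have gB : ∀ a, a ≠ P.i0 → a ≠ P.i1 → Gen P (alt P.S P.eo (Pi.single m 1)) (alt P.S P.ew (Pi.single a 1)) :=
    fun a a0 a1 R hR hQ => (stable_Q hP hR hm0 hm1 hQ a0 a1).2.2
  obtain ⟨c0, c1⟩ := P.i2_ne
  set c : Fin k → F := Pi.single P.i2 1 with hc_def
  have hc : P.IsMid c := Std.isMid_single c0 c1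
  have hq : sf P.S c c ≠ 0 := by rw [hc_def, Std.sf_single_mid c0 c1]; exact P.w_ne _
  have hoo : rk P.S P.eo P.eo ∈ R := by
    have h1 := h _ _ (gA _ c0 c1) (gA _ c0 c1)
    simp only [alt, sub_mul, mul_sub, rk_mul, hc.eo, hc.eo', P.eo_iso, zero_smul, ← hc_def] at h1
    simpa [R.smul_mem_iff hq] using h1
  have hww : rk P.S P.ew P.ew ∈ R := by
    have h1 := h _ _ (gB _ c0 c1) (gB _ c0 c1)
    simp only [alt, sub_mul, mul_sub, rk_mul, hc.ew, hc.ew', P.ew_iso, zero_smul, ← hc_def] at h1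
    simpa [R.smul_mem_iff hq] using h1
  have hHH : rk P.S P.eo P.ew + rk P.S P.ew P.eo ∈ R := by
    have h1 := h _ _ gH gH
    simp only [alt, sub_mul, mul_sub, rk_mul, P.eo_iso, P.ew_iso, P.eo_ew, P.ew_eo, zero_smul, one_smul] at h1
    simpa using h1
  have hdiff : rk P.S P.eo P.ew - rk P.S P.ew P.eo ∈ R := by
    have h1 := R.sub_mem (h _ _ (gB _ c0 c1) (gA _ c0 c1)) (h _ _ (gA _ c0 c1) (gB _ c0 c1))
    simp only [alt, sub_mul, mul_sub, rk_mul, hc.eo, hc.eo', hc.ew, hc.ew', P.eo_iso, P.ew_iso, P.eo_ew, P.ew_eo,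
      zero_smul, one_smul, ← hc_def] at h1
    refine (R.smul_mem_iff hq).mp ?_
    convert h1 using 1
    module
  have how : rk P.S P.eo P.ew ∈ R := by
    refine (R.smul_mem_iff hP.two).mp ?_
    convert R.add_mem hHH hdiff using 1
    module
  have hwo : rk P.S P.ew P.eo ∈ R := by
    have := R.sub_mem hHH how
    rwa [add_sub_cancel_left] at this
  refine eq_top_of_kinds (P := P) hoo how hwo hww ?_ ?_
  · intro a a0 a1
    set u : Fin k → F := Pi.single a 1 with hu_def
    have hu : P.IsMid u := Std.isMid_single a0 a1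
    have e1 := h _ _ gH (gA a a0 a1)
    have e2 := h _ _ gH (gB a a0 a1)
    have e3 := h _ _ (gA a a0 a1) gH
    have e4 := h _ _ (gB a a0 a1) gH
    simp only [alt, sub_mul, mul_sub, rk_mul, hu.eo, hu.eo', hu.ew, hu.ew', P.eo_iso, P.ew_iso, P.eo_ew, P.ew_eo,
      zero_smul, one_smul, sub_zero, zero_sub, sub_neg_eq_add, zero_add, add_zero, neg_zero, ← hu_def] at e1 e2 e3 e4
    exact ⟨e1, by simpa using R.neg_mem e2, e3, by simpa using R.neg_mem e4⟩
  · intro a a0 a1 b b0 b1
    set u : Fin k → F := Pi.single a 1 with hu_def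
    set v : Fin k → F := Pi.single b 1 with hv_def
    have hu : P.IsMid u := Std.isMid_single a0 a1
    have hv : P.IsMid v := Std.isMid_single b0 b1
    have h1 := h _ _ (gA a a0 a1) (gB b b0 b1)
    simp only [alt, sub_mul, mul_sub, rk_mul, hu.eo, hu.eo', hu.ew, hu.ew', hv.eo, hv.eo', hv.ew, hv.ew',
      P.eo_iso, P.ew_iso, P.eo_ew, P.ew_eo, zero_smul, one_smul, ← hu_def, ← hv_def] at h1
    convert R.neg_mem (R.add_mem h1 (R.smul_mem (sf P.S v u) how)) using 1
    module

end Cfsg.Agent.WreathO
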