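import Cfsg.Agent.WreathO.Base
import Cfsg.Agent.WreathMax.Kz
import Cfsg.Agent.WreathMax.RootClass

/-!
Tensor powers of a symmetric form with a hyperbolic pair (helper1).
-/

set_option autoImplicit false
set_option linter.unusedSectionVars false

namespace Cfsg.Agent.WreathO

open Matrix Cfsg.Agent.MaxSub Cfsg.Agent.MaxSub.Asch Cfsg.Agent.FG75.SpinTensor Cfsg.Agent.WreathMax

variable {F : Type*} [Field F] {k t : ℕ}

/-- The power of a form. -/
def powS (S : Sform (Fin k) F) (t : ℕ) : Sform (Fin t → Fin k) F where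
  J := Equiv.piCongrRight fun _ => S.J
  inv a := funext fun i => S.inv (a i)
  w a := ∏ i, S.w (a i)
  w_ne a := Finset.prod_ne_zero_iff.mpr fun i _ => S.w_ne (a i)
  w_J a := Finset.prod_congr rfl fun i _ => S.w_J (a i)

section General

variable (S : Sform (Fin k) F)

theorem powS_J (a : Fin t → Fin k) (i : Fin t) : (powS S t).J a i = S.J (a i) := rfl

theorem powS_w_cons (a : Fin k) (z : Fin t → Fin k) :
    (powS S (t + 1)).w (Fin.cons a z) = S.w a * (powS S t).w z := by
  simp [powS, Fin.prod_univ_succ]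

theorem powS_cons (a : Fin k) (z : Fin t → Fin k) :
    (powS S (t + 1)).J (Fin.cons a z) = Fin.cons (S.J a) ((powS S t).J z) := by
  funext i
  refine Fin.cases ?_ (fun j => ?_) i <;> simp [powS_J]

theorem adj_tens (A : Fin t → Matrix (Fin k) (Fin k) F) :
    adj (powS S t) (tens A) = tens fun i => adj S (A i) := by
  ext a b
  simp [adj, tens_apply, powS, Finset.prod_mul_distrib]

theorem adj_slot (i : Fin t) (A : Matrix (Fin k) (Fin k) F) :
    adj (powS S t) (slot i A) = slot i (adj S A) := by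
  rw [slot, adj_tens, slot]
  congr 1
  funext j
  rcases eq_or_ne j i with rfl | hj
  · simp
  · rw [Function.update_of_ne hj, Function.update_of_ne hj, Pi.one_apply, adj_one]

theorem adj_kz (A : Matrix (Fin k) (Fin k) F) (B : Matrix (Fin t → Fin k) (Fin t → Fin k) F) :
    adj (powS S (t + 1)) (kz A B) = kz (adj S A) (adj (powS S t) B) := by
  ext a b
  have hw : ∀ c : Fin (t + 1) → Fin k, (powS S (t + 1)).w c = S.w (c 0) * (powS S t).w (Fin.tail c) := fun c => by
    conv_lhs => rw [← Fin.cons_self_tail c, powS_w_cons]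
  simp only [adj, kz_apply, Matrix.of_apply, hw]
  rw [show Fin.tail ((powS S (t + 1)).J b) = (powS S t).J (Fin.tail b) from rfl,
    show Fin.tail ((powS S (t + 1)).J a) = (powS S t).J (Fin.tail a) from rfl, powS_J, powS_J]
  rw [mul_div_mul_comm]
  ring

theorem zblk_adj (X : Matrix (Fin (t + 1) → Fin k) (Fin (t + 1) → Fin k) F) (a b : Fin k) :
    zblk (adj (powS S (t + 1)) X) a b = (S.w b / S.w a) • adj (powS S t) (zblk X (S.J b) (S.J a)) := by
  ext z z'
  simp only [zblk, adj, Matrix.of_apply, Matrix.smul_apply, powS_cons, powS_w_cons, smul_eq_mul]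
  rw [mul_div_mul_comm]
  ring

/-- A pure tensor of a vector of the first slot and a vector of the others. -/
def cz (x : Fin k → F) (z : (Fin t → Fin k) → F) : (Fin (t + 1) → Fin k) → F :=
  fun a => x (a 0) * z (Fin.tail a)

/-- A pure tensor. -/
def pv (x : Fin t → Fin k → F) : (Fin t → Fin k) → F := fun a => ∏ i, x i (a i)

theorem pv_cons (x : Fin k → F) (y : Fin t → Fin k → F) : pv (Fin.cons x y) = cz x (pv y) := by
  funext a
  simp [pv, cz, Fin.prod_univ_succ, Fin.tail]

theorem kz_mulVec_cz (A : Matrix (Fin k) (Fin k) F) (B : Matrix (Fin t → Fin k) (Fin t → Fin k) F)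
    (x : Fin k → F) (z : (Fin t → Fin k) → F) : kz A B *ᵥ cz x z = cz (A *ᵥ x) (B *ᵥ z) := by
  funext a
  simp only [Matrix.mulVec, dotProduct, cz, kz_apply, sum_cons, Fin.cons_zero, Fin.tail_cons, Finset.sum_mul,
    Finset.mul_sum]
  rw [Finset.sum_comm (γ := Fin k)]
  exact Finset.sum_congr rfl fun b _ => Finset.sum_congr rfl fun w _ => by ring

theorem cv_cz (y : Fin k → F) (z' : (Fin t → Fin k) → F) (b : Fin (t + 1) → Fin k) :
    cv (powS S (t + 1)) (cz y z') b = cv S y (b 0) * cv (powS S t) z' (Fin.tail b) := by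
  have hw : (powS S (t + 1)).w b = S.w (b 0) * (powS S t).w (Fin.tail b) := by
    conv_lhs => rw [← Fin.cons_self_tail b, powS_w_cons]
  simp only [cv, cz, hw, powS_J]
  rw [show Fin.tail ((powS S (t + 1)).J b) = (powS S t).J (Fin.tail b) from rfl]
  ring

theorem rk_cz (x y : Fin k → F) (z z' : (Fin t → Fin k) → F) :
    rk (powS S (t + 1)) (cz x z) (cz y z') = kz (rk S x y) (rk (powS S t) z z') := by
  ext a b
  simp only [rk, vecMulVec_apply, kz_apply, cv_cz]
  simp only [cz]
  ring

theorem rk_pv (x y : Fin t → Fin k → F) :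
    rk (powS S t) (pv x) (pv y) = tens fun i => rk S (x i) (y i) := by
  ext a b
  simp [rk, cv, pv, powS, vecMulVec_apply, tens_apply, Finset.prod_mul_distrib]

theorem sf_cz (x y : Fin k → F) (z z' : (Fin t → Fin k) → F) :
    sf (powS S (t + 1)) (cz x z) (cz y z') = sf S x y * sf (powS S t) z z' := by
  simp only [sf, dotProduct, cv_cz]
  simp only [sum_cons, cz, Fin.cons_zero, Fin.tail_cons, Finset.sum_mul, Finset.mul_sum]
  rw [Finset.sum_comm (γ := Fin k)]
  exact Finset.sum_congr rfl fun b _ => Finset.sum_congr rfl fun w _ => by ring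

theorem factorPerm_mem_O (σ : Equiv.Perm (Fin t)) : (factorPerm σ : GL (Fin t → Fin k) F) ∈ O (powS S t) := by
  rw [mem_O_iff]
  have e : adj (powS S t) (factorPerm σ : GL (Fin t → Fin k) F).val =
      (factorPerm σ : GL (Fin t → Fin k) F).valᵀ := by
    ext a b
    simp only [adj, factorPerm, Matrix.of_apply, Matrix.transpose_apply]
    by_cases h : a = b ∘ σ
    · have hw : (powS S t).w a = (powS S t).w b := by
        subst h
        exact Fintype.prod_equiv σ _ _ fun i => rfl
      rw [hw, div_self ((powS S t).w_ne b), one_mul]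
      refine if_congr ⟨fun _ => h, fun _ => ?_⟩ rfl rfl
      subst h; funext i; simp [powS_J]
    · rw [if_neg, if_neg h, mul_zero]
      intro h'
      refine h (funext fun i => ?_)
      have := congrFun h' i
      simp [powS_J] at this
      exact this
  rw [e, factorPerm_transpose_mul]

theorem tensGL_mem_O {gs : Fin t → GL (Fin k) F} (h : ∀ i, gs i ∈ O S) : tensGL gs ∈ O (powS S t) := by
  rw [mem_O_iff]
  show adj (powS S t) (tens fun i => (gs i : Matrix (Fin k) (Fin k) F)) *
    tens (fun i => (gs i : Matrix (Fin k) (Fin k) F)) = 1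
  rw [adj_tens, tens_mul, ← tens_one]
  congr 1
  exact funext fun i => (mem_O_iff S).mp (h i)

theorem slotU_mem_O {g : GL (Fin k) F} (hg : g ∈ O S) (i : Fin t) : slotU i g ∈ O (powS S t) := by
  refine tensGL_mem_O S fun j => ?_
  rcases eq_or_ne j i with rfl | hj
  · rw [Function.update_self]; exact hg
  · rw [Function.update_of_ne hj]; exact one_mem _

theorem slotU_inv (i : Fin t) (g : GL (Fin k) F) : (slotU i g)⁻¹ = slotU i g⁻¹ :=
  inv_eq_of_mul_eq_one_right (Units.ext (by
    rw [Units.val_mul, slotU_coe, slotU_coe, ← slot_mul', Units.mul_inv, slot_one', Units.val_one]))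

theorem conj_slot (i : Fin t) (g : GL (Fin k) F) (A : Matrix (Fin k) (Fin k) F) :
    conjHom (slotU i g) (slot i A) = slot i (g.val * A * (g⁻¹).val) := by
  rw [conjHom_apply, slotU_inv, slotU_coe, slotU_coe, slot_mul', slot_mul']

/-- A similitude in each slot of an isometric wreath element. -/
theorem similitude_of_mem [Finite F] {gs : Fin t → GL (Fin k) F} {σ : Equiv.Perm (Fin t)}
    (h : tensGL gs * factorPerm σ ∈ O (powS S t)) (i : Fin t) :
    ∃ r : F, r ≠ 0 ∧ adj S (gs i : Matrix (Fin k) (Fin k) F) * (gs i : Matrix (Fin k) (Fin k) F) = r • 1 := by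
  have h1 : tensGL gs ∈ O (powS S t) := by
    simpa [mul_assoc] using mul_mem h (inv_mem (factorPerm_mem_O S σ))
  rw [mem_O_iff] at h1
  change adj (powS S t) (tens fun i => (gs i : Matrix (Fin k) (Fin k) F)) *
    tens (fun i => (gs i : Matrix (Fin k) (Fin k) F)) = 1 at h1
  rw [adj_tens, tens_mul] at h1
  obtain ⟨c, hc0, hc⟩ := tens_eq_one_imp h1 i
  exact ⟨c, hc0, hc⟩

/-- The exponential of a map of one slot. -/
theorem slotU_expU (two : (2 : F) ≠ 0) (i : Fin t) {N : Matrix (Fin k) (Fin k) F} (h : N * N * N = 0) :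
    slotU i (expU two N) = expU two (slot i N) := by
  refine Units.ext ?_
  rw [slotU_coe, expU_coe two h, expU_coe two (by rw [← slot_mul', ← slot_mul', h, slot_zero'])]
  rw [slot_add', slot_add', slot_smul', slot_mul', slot_one']

/-- The stabiliser of the decomposition in the commutator subgroup lies in `H`. -/
def ContainsW (H : Subgroup (GL (Fin t → Fin k) F)) : Prop :=
  ∀ v ∈ Geo.tensorWreathStandard k t F, v ∈ Om (powS S t) → v ∈ H

variable [Fintype F] (two : (2 : F) ≠ 0)

/-- The Siegel transformation of one slot. -/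
noncomputable def sRoot (i : Fin t) (x d : Fin k → F) : GL (Fin t → Fin k) F := slotU i (root S two x d)

theorem sRoot_eq (i : Fin t) {x d : Fin k → F} (h : IsRoot S x d) :
    sRoot S two i x d = expU two (slot i (alt S x d)) := slotU_expU two i (alt_cube S h.iso h.orth)

theorem slot_alt_cube (i : Fin t) {x d : Fin k → F} (h : IsRoot S x d) :
    slot i (alt S x d) * slot i (alt S x d) * slot i (alt S x d) = 0 := by
  rw [← slot_mul', ← slot_mul', alt_cube S h.iso h.orth, slot_zero']

theorem sRoot_mem_Om (i : Fin t) {x d : Fin k → F} (h : IsRoot S x d) : sRoot S two i x d ∈ Om (powS S t) := by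
  rw [sRoot_eq S two i h]
  exact expU_mem_Om two (slot_alt_cube S i h) (by rw [adj_slot, adj_alt, ← neg_one_smul F (alt S x d),
    slot_smul', neg_one_smul])

theorem sRoot_mem {H : Subgroup (GL (Fin t → Fin k) F)} (hM : ContainsW S H) (i : Fin t) {x d : Fin k → F}
    (h : IsRoot S x d) : sRoot S two i x d ∈ H :=
  hM _ (slotU_mem _ _) (sRoot_mem_Om S two i h)

/-- A Siegel transformation of a slot is conjugated to another one only by the stabiliser. -/
def NoFus (H : Subgroup (GL (Fin t → Fin k) F)) : Prop :=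
  ∀ g ∈ H, g ∉ Geo.tensorWreathStandard k t F → ∀ i x d j y e, IsRoot S x d → IsRoot S y e →
    g⁻¹.val * slot i (alt S x d) * g.val ≠ slot j (alt S y e)

/-- No root group element is carried into the stabiliser from outside. -/
def Moves (H : Subgroup (GL (Fin t → Fin k) F)) : Prop :=
  ∀ g ∈ H, g ∉ Geo.tensorWreathStandard k t F → ∀ i x d, IsRoot S x d →
    g⁻¹ * sRoot S two i x d * g ∉ Geo.tensorWreathStandard k t F

end General

/-! ### A form with a hyperbolic pair -/

/-- A diagonal form with a hyperbolic pair in front. -/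
structure Std (k : ℕ) (F : Type*) [Field F] where
  hk : 3 ≤ k
  w : Fin k → F
  w_ne : ∀ a, w a ≠ 0
  w0 : ∀ a : Fin k, (a : ℕ) < 2 → w a = 1

namespace Std

variable (P : Std k F)

/-- The first coordinate. -/
def i0 : Fin k := ⟨0, by have := P.hk; omega⟩

/-- The second coordinate. -/
def i1 : Fin k := ⟨1, by have := P.hk; omega⟩

theorem i0_ne_i1 : P.i0 ≠ P.i1 := by simp [i0, i1, Fin.ext_iff]

/-- The form. -/
def S : Sform (Fin k) F where
  J := Equiv.swap P.i0 P.i1
  inv a := by simp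
  w := P.w
  w_ne := P.w_ne
  w_J a := by
    rcases eq_or_ne a P.i0 with rfl | h0
    · rw [Equiv.swap_apply_left, P.w0 P.i0 (show (0 : ℕ) < 2 by omega), P.w0 P.i1 (show (1 : ℕ) < 2 by omega)]
    rcases eq_or_ne a P.i1 with rfl | h1
    · rw [Equiv.swap_apply_right, P.w0 P.i0 (show (0 : ℕ) < 2 by omega), P.w0 P.i1 (show (1 : ℕ) < 2 by omega)]
    · rw [Equiv.swap_apply_of_ne_of_ne h0 h1]

/-- The first isotropic vector. -/
def eo : Fin k → F := Pi.single P.i0 1

/-- The second isotropic vector. -/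
def ew : Fin k → F := Pi.single P.i1 1

/-- Vectors orthogonal to the two isotropic vectors. -/
def IsMid (z : Fin k → F) : Prop := z P.i0 = 0 ∧ z P.i1 = 0

/-- The square of a root matrix. -/
def E : Matrix (Fin k) (Fin k) F := rk P.S P.eo P.eo

/-- The hypotheses on the field and the form. -/
structure Good : Prop where
  two : (2 : F) ≠ 0
  hex : ¬ (Nat.card F = 3 ∧ k = 3)
  minus : k = 4 → ∀ z, P.IsMid z → sf P.S z z = 0 → z = 0

theorem f_eo (x : Fin k → F) : sf P.S x P.eo = x P.i1 := by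
  rw [sf_symm, eo, sf_single]
  show P.w P.i0 * x (Equiv.swap P.i0 P.i1 P.i0) = x P.i1
  rw [Equiv.swap_apply_left, P.w0 _ (by simp [i0]), one_mul]

theorem f_ew (x : Fin k → F) : sf P.S x P.ew = x P.i0 := by
  rw [sf_symm, ew, sf_single]
  show P.w P.i1 * x (Equiv.swap P.i0 P.i1 P.i1) = x P.i0
  rw [Equiv.swap_apply_right, P.w0 _ (by simp [i1]), one_mul]

theorem eo_iso : sf P.S P.eo P.eo = 0 := by rw [f_eo]; simp [eo, P.i0_ne_i1.symm]

theorem ew_iso : sf P.S P.ew P.ew = 0 := by rw [f_ew]; simp [ew, P.i0_ne_i1]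

theorem eo_ew : sf P.S P.eo P.ew = 1 := by rw [f_ew]; simp [eo]

theorem ew_eo : sf P.S P.ew P.eo = 1 := by rw [f_eo]; simp [ew]

theorem eo_ne_zero : P.eo ≠ 0 := fun h => by simpa [eo] using congrFun h P.i0

theorem ew_ne_zero : P.ew ≠ 0 := fun h => by simpa [ew] using congrFun h P.i1

variable {P}

theorem IsMid.eo {z : Fin k → F} (h : P.IsMid z) : sf P.S z P.eo = 0 := by rw [f_eo, h.2]

theorem IsMid.ew {z : Fin k → F} (h : P.IsMid z) : sf P.S z P.ew = 0 := by rw [f_ew, h.1]

theorem IsMid.eo' {z : Fin k → F} (h : P.IsMid z) : sf P.S P.eo z = 0 := by rw [sf_symm, h.eo]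

theorem IsMid.ew' {z : Fin k → F} (h : P.IsMid z) : sf P.S P.ew z = 0 := by rw [sf_symm, h.ew]

theorem isMid_single {a : Fin k} (h0 : a ≠ P.i0) (h1 : a ≠ P.i1) : P.IsMid (Pi.single a (1 : F)) :=
  ⟨by simp [Ne.symm h0], by simp [Ne.symm h1]⟩

theorem IsMid.add {z z' : Fin k → F} (h : P.IsMid z) (h' : P.IsMid z') : P.IsMid (z + z') :=
  ⟨by simp [h.1, h'.1], by simp [h.2, h'.2]⟩

theorem IsMid.smul {z : Fin k → F} (h : P.IsMid z) (c : F) : P.IsMid (c • z) :=
  ⟨by simp [h.1], by simp [h.2]⟩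

theorem decomp (x : Fin k → F) :
    ∃ z, P.IsMid z ∧ x = x P.i1 • P.ew + z + x P.i0 • P.eo := by
  refine ⟨x - x P.i1 • P.ew - x P.i0 • P.eo, ⟨?_, ?_⟩, by abel⟩
  · simp [Std.ew, Std.eo, P.i0_ne_i1]
  · simp [Std.ew, Std.eo, P.i0_ne_i1.symm]

theorem J_mid {a : Fin k} (h0 : a ≠ P.i0) (h1 : a ≠ P.i1) : P.S.J a = a :=
  Equiv.swap_apply_of_ne_of_ne h0 h1

theorem sf_single_mid {a : Fin k} (h0 : a ≠ P.i0) (h1 : a ≠ P.i1) :
    sf P.S (Pi.single a 1) (Pi.single a 1) = P.w a := by
  rw [sf_single, J_mid h0 h1, Pi.single_eq_same, mul_one]; rfl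

theorem isRoot_mid {a : Fin k} (h0 : a ≠ P.i0) (h1 : a ≠ P.i1) :
    IsRoot P.S P.eo (Pi.single a 1) :=
  ⟨P.eo_iso, (isMid_single h0 h1).eo', by rw [sf_single_mid h0 h1]; exact P.w_ne a, P.eo_ne_zero⟩

end Std

end Cfsg.Agent.WreathO
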